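import Cfsg.Agent.KFacts.HN.Cases

/-!
# Orders of the subgroups `R ≤ M ≤ P = C(W0)` of the presented Harada-Norton group
-/

set_option autoImplicit false

namespace Cfsg.Agent.KFacts.HN

open Cfsg.Agent.HN Cfsg.Agent.HN.Pres Cfsg.Agent.HN.P1408 Cfsg.Agent.HN.H0Basic Cfsg.Agent.HN.XMat
open Cfsg.Agent.HN.XStruct Cfsg.Agent.HN.XWords Cfsg.Agent.HN.XQuot Cfsg.Agent.HN.XInst

theorem π_r_sgn (m : ℕ) (b : Bool) : π W0 (r Q m * sgn0 b) = r k m := by
  rw [← π_r]
  cases b
  · rw [show sgn0 false = 1 from rfl, mul_one]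
  · exact π_mul_w W0_sq (comm_r m)

theorem r_sgn_inj {m m' : ℕ} (hm : m < 256) (hm' : m' < 256) {b b' : Bool}
    (h : r Q m * sgn0 b = r Q m' * sgn0 b') : m = m' ∧ b = b' := by
  have h1 : m = m' := by
    apply hyp.toBas.r_inj hm hm'
    rw [← π_r_sgn m b, h, π_r_sgn]
  subst h1
  refine ⟨rfl, ?_⟩
  have h2 := mul_left_cancel h
  cases b <;> cases b'
  · rfl
  · exact absurd h2.symm W0_ne
  · exact absurd h2 W0_ne
  · rfl

theorem card_RS : Nat.card RS = 512 := by
  have e : Fin 256 × Bool ≃ RS := Equiv.ofBijective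
    (fun y => (⟨r Q y.1 * sgn0 y.2, mem_RS.2 ⟨y.1, y.1.2, y.2, rfl⟩⟩ : RS)) (by
      constructor
      · rintro ⟨m, b⟩ ⟨m', b'⟩ h
        obtain ⟨h1, h2⟩ := r_sgn_inj m.2 m'.2 (congrArg Subtype.val h)
        exact Prod.ext (Fin.ext h1) h2
      · rintro ⟨x, hx⟩
        obtain ⟨m, hm, b, rfl⟩ := mem_RS.1 hx
        exact ⟨(⟨m, hm⟩, b), rfl⟩)
  rw [← Nat.card_congr e, Nat.card_prod, Nat.card_eq_fintype_card, Nat.card_eq_fintype_card,
    Fintype.card_fin, Fintype.card_bool]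

theorem card_A5 : Nat.card A5 = 60 := by
  rw [nat_card_alternatingGroup, Nat.card_eq_fintype_card, Fintype.card_fin]
  rfl

theorem card_LL : Nat.card LL = 3600 := by
  have hinj : Function.Injective φ2 := by
    rintro ⟨a, b⟩ ⟨a', b'⟩ h
    obtain ⟨h1, h2⟩ := φ2_inj h
    exact Prod.ext h1 h2
  have e : A5 × A5 ≃* LL := MonoidHom.ofInjective hinj
  rw [← Nat.card_congr e.toEquiv, Nat.card_prod, card_A5]

theorem card_Lq : Nat.card Lq = 7200 := by
  rw [← LL.card_mul_index, card_LL, index_LL]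

theorem card_ker : Nat.card ρ.ker = 512 := by
  rw [← card_RS]
  exact Nat.card_congr (ρ.ker.equivMapOfInjective PP.subtype PP.subtype_injective).toEquiv

/-- `|C(W0)| = 2^14 · 225` -/
theorem card_PP : Nat.card PP = 3686400 := by
  have h1 : Nat.card ρ.range = 7200 := by
    rw [MonoidHom.range_eq_top.2 ρ_surj, Subgroup.card_top, card_Lq]
  rw [← ρ.ker.card_mul_index, card_ker, Subgroup.index_ker, h1]

theorem card_MM : Nat.card MM = 1843200 := by
  have h1 : Nat.card MM = Nat.card (LL.comap ρ) :=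
    (Nat.card_congr ((LL.comap ρ).equivMapOfInjective PP.subtype PP.subtype_injective).toEquiv).symm
  have h2 := (LL.comap ρ).card_mul_index
  rw [Subgroup.index_comap_of_surjective _ ρ_surj, index_LL, card_PP, ← h1] at h2
  omega

end Cfsg.Agent.KFacts.HN
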