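import Cfsg.Agent.HN.Simple
import Cfsg.Agent.HN.TGroup
import Cfsg.Agent.HN.XWords
import Cfsg.Agent.KFacts.HN.MacData

/-!
# HN: an element swapping two commuting 2-central involutions

`W0` is the 2-central involution with centraliser described in `HN/XStruct`.  `x2` is an involution of `C(W0)` (outside of
`O_2`), `k` interchanges `W0` and `x2` (`W0_mul_k`, `x2_mul_k`), and `x2` lies in the perfect subgroup `⟨x2, b⟩`
(a quotient of `A5`) of `C(W0)`.  All is checked in the 133-dimensional representation.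
-/

set_option autoImplicit false

namespace Cfsg.Agent.KFacts.HN.YTrick

open Cfsg.Agent.Lib.PackMat Cfsg.Agent.Lib.PackMatGroup
open Cfsg.Agent.HN.RepData Cfsg.Agent.HN.Rep Cfsg.Agent.HN.TGroup Cfsg.Agent.HN.XWords Cfsg.Agent.HN.XStruct
open Cfsg.Agent.KFacts.HN.MacData Cfsg.Agent.HN.TDataA

theorem finiteHN : Finite Cfsg.Spor.HN := Nat.finite_of_card_ne_zero (by
  have h := Cfsg.Agent.S1701.result.2
  rw [h]; norm_num)

theorem hinj : Function.Injective rho := by
  have := finiteHN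
  exact Cfsg.Agent.HN.Simple.rho_injective Cfsg.Agent.S1701.result.2.le

theorem codes_rho : List.Forall₂ (Codes C) (gens.map rho) L := by rw [gens_map]; exact codes

/-- packed matrix of a word in a coded list -/
theorem codes_of {G : List Cfsg.Spor.HN} {A : List ℕ} (h : List.Forall₂ (Codes C) (G.map rho) A) {w : List ℕ} {B : ℕ}
    (hw : okW A.length w = true) (hB : okG C B = true) (hc : checkEq C (cw A w) [B] 0 133 = true) :
    Codes C (rho (evG G w)) B := by
  rw [← evG_map]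
  exact Codes.of_rows good one_lt h hw hB (fun i hi => checkEq_spec hc i (Nat.zero_le _) (by
    have hi' : i < 133 := hi
    omega))

/-- packed matrix of an inverse -/
theorem codes_inv {g : U C} {A B : ℕ} (hA : Codes C g A) (hB : okG C B = true)
    (h : checkScalar C [A, B] 1 0 133 = true) : Codes C g⁻¹ B := by
  refine ⟨hB, ?_⟩
  have h1 : mat C A * mat C B = 1 := mat_mul_eq_one good one_lt hA.ok hB h
  rw [← hA.eq] at h1
  calc ((g⁻¹ : U C) : M C) = ((g⁻¹ : U C) : M C) * ((g : M C) * mat C B) := by rw [h1, mul_one]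
    _ = mat C B := by rw [← mul_assoc, Units.inv_mul, one_mul]

/-- relations of words in a coded list -/
theorem rel_of {G : List Cfsg.Spor.HN} {A : List ℕ} (h : List.Forall₂ (Codes C) (G.map rho) A) {w₁ w₂ : List ℕ}
    (h1 : okW A.length w₁ = true) (h2 : okW A.length w₂ = true)
    (hc : checkEq C (cw A w₁) (cw A w₂) 0 133 = true) : evG G w₁ = evG G w₂ := by
  apply hinj
  rw [← evG_map, ← evG_map]
  exact eq_of_rows good one_lt h h1 h2 (fun i hi => checkEq_spec hc i (Nat.zero_le _) (by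
    have hi' : i < 133 := hi
    omega))

theorem okMC1 : okG C MC1 = true := by decide +kernel
theorem okMCI : okG C MCI = true := by decide +kernel
theorem okMK : okG C MK = true := by decide +kernel
theorem okMX2 : okG C MX2 = true := by decide +kernel
theorem okMB : okG C MB = true := by decide +kernel

theorem ckW : checkEq C (cw L w0w) [T0] 0 133 = true := by decide +kernel
theorem ckC : checkEq C (cw L (gw 1)) [MC1] 0 133 = true := by decide +kernel
theorem ckCI : checkScalar C [MC1, MCI] 1 0 133 = true := by decide +kernel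
theorem ckX : checkEq C (cw L x2w) [MX2] 0 133 = true := by decide +kernel

/-- word of the element of order 3: `(Γ 2)⁻¹ y⁻¹ (Γ 2) y⁻¹ (Q 2)` -/
def bw : List ℕ := iw8 (gw 2) ++ ([3] ++ (gw 2 ++ ([3] ++ qw 2)))

theorem ckB : checkEq C (cw L bw) [MB] 0 133 = true := by decide +kernel

theorem codesW : Codes C (rho W0) T0 := codes_of codes_rho (by decide) ok0 ckW
theorem codesC : Codes C (rho (Γ 1)) MC1 := codes_of codes_rho (by decide) okMC1 ckC
theorem codesCI : Codes C (rho (Γ 1)⁻¹) MCI := by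
  rw [map_inv]
  exact codes_inv codesC okMCI ckCI

/-- an involution of type (2,2) -/
def x2 : Cfsg.Spor.HN := V x2w

/-- an element of order 3 -/
def b : Cfsg.Spor.HN := V bw

theorem codesX : Codes C (rho x2) MX2 := codes_of codes_rho (by decide) okMX2 ckX
theorem codesB : Codes C (rho b) MB := codes_of codes_rho (by decide) okMB ckB

/-- the letters, `Γ 1`, `(Γ 1)⁻¹` -/
def G1 : List Cfsg.Spor.HN := gens ++ [Γ 1, (Γ 1)⁻¹]

/-- their packed matrices -/
def L1 : List ℕ := L ++ [MC1, MCI]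

theorem codes1 : List.Forall₂ (Codes C) (G1.map rho) L1 := by
  rw [G1, L1, List.map_append]
  exact List.rel_append codes_rho (.cons codesC (.cons codesCI .nil))

/-- word of `k` (8, 9: `Γ 1` and its inverse) -/
def kw : List ℕ := qw 7 ++ ([8, 8, 0, 3, 6, 4, 3, 0, 7, 8, 2] ++ (qw 1 ++ [9]))

/-- **the swapping element** -/
def k : Cfsg.Spor.HN := evG G1 kw

theorem ckK : checkEq C (cw L1 kw) [MK] 0 133 = true := by decide +kernel

theorem codesK : Codes C (rho k) MK := codes_of codes1 (by decide) okMK ckK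

/-- the list `[W0, x2, k, b]` -/
def G2 : List Cfsg.Spor.HN := [W0, x2, k, b]

/-- its packed matrices -/
def L2 : List ℕ := [T0, MX2, MK, MB]

theorem codes2 : List.Forall₂ (Codes C) (G2.map rho) L2 := by
  unfold G2 L2
  exact .cons codesW (.cons codesX (.cons codesK (.cons codesB .nil)))

theorem ck1 : checkEq C (cw L2 [1, 2]) (cw L2 [2, 0]) 0 133 = true := by decide +kernel
theorem ck2 : checkEq C (cw L2 [0, 2]) (cw L2 [2, 1]) 0 133 = true := by decide +kernel
theorem ck3 : checkEq C (cw L2 [3, 3, 3]) (cw L2 []) 0 133 = true := by decide +kernel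
theorem ck4 : checkEq C (cw L2 [1, 3, 1, 3, 1, 3, 1, 3, 1, 3]) (cw L2 []) 0 133 = true := by decide +kernel

/-- `t0` of the Sylow 2-subgroup is `W0` -/
theorem W0_eq_t0 : W0 = t0 := by
  apply hinj
  apply Units.ext
  rw [codesW.eq, codes0.eq]

theorem x2_mul_k : x2 * k = k * W0 := by
  have h := rel_of codes2 (w₁ := [1, 2]) (w₂ := [2, 0]) (by decide) (by decide) ck1
  simpa only [G2, evG_cons, evG_nil, List.getD_cons_zero, List.getD_cons_succ, mul_one] using h

theorem W0_mul_k : W0 * k = k * x2 := by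
  have h := rel_of codes2 (w₁ := [0, 2]) (w₂ := [2, 1]) (by decide) (by decide) ck2
  simpa only [G2, evG_cons, evG_nil, List.getD_cons_zero, List.getD_cons_succ, mul_one] using h

theorem b_cube : b * (b * b) = 1 := by
  have h := rel_of codes2 (w₁ := [3, 3, 3]) (w₂ := []) (by decide) (by decide) ck3
  simpa only [G2, evG_cons, evG_nil, List.getD_cons_zero, List.getD_cons_succ, mul_one] using h

theorem x2b_pow : (x2 * b) ^ 5 = 1 := by
  have h := rel_of codes2 (w₁ := [1, 3, 1, 3, 1, 3, 1, 3, 1, 3]) (w₂ := []) (by decide) (by decide) ck4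
  have h1 : x2 * (b * (x2 * (b * (x2 * (b * (x2 * (b * (x2 * b)))))))) = 1 := by
    simpa only [G2, evG_cons, evG_nil, List.getD_cons_zero, List.getD_cons_succ, mul_one] using h
  rw [← h1]
  simp only [pow_succ, pow_zero, one_mul, mul_assoc]

theorem x2_sq : x2 * x2 = 1 := by
  rw [x2, ← V_append, ← V_nil]
  exact V_eq (by decide +kernel)

theorem x2_comm : x2 * W0 = W0 * x2 := by
  rw [x2, W0, ← V_append, ← V_append]
  exact V_eq (by decide +kernel)

theorem x2_eq_nf : x2 = r Q 45 * evw Γ [0, 1, 1, 1, 0, 0, 1] := x2_eq.symm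

theorem b_eq : b = (Γ 2)⁻¹ * ((Γ 0)⁻¹ * (Γ 2 * ((Γ 0)⁻¹ * Q 2))) := by
  have h0 : V [3] = (Γ 0)⁻¹ := V_iw8 (gw 0)
  rw [b, bw, V_append, V_append, V_append, V_append, V_iw8, h0]
  rfl

theorem comm_inv' {u v : Cfsg.Spor.HN} (h : u * v = v * u) : u * v⁻¹ = v⁻¹ * u := by
  have : Commute u v := h
  exact this.inv_right.eq

theorem b_comm : b * W0 = W0 * b := by
  have h0 : W0 * (Γ 0)⁻¹ = (Γ 0)⁻¹ * W0 := comm_inv' (cwg 0)
  have h2 : W0 * (Γ 2)⁻¹ = (Γ 2)⁻¹ * W0 := comm_inv' (cwg 2)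
  have h2' := cwg 2
  have hq := cw (i := 2) (by norm_num)
  rw [b_eq]
  calc (Γ 2)⁻¹ * ((Γ 0)⁻¹ * (Γ 2 * ((Γ 0)⁻¹ * Q 2))) * W0
      = (Γ 2)⁻¹ * ((Γ 0)⁻¹ * (Γ 2 * ((Γ 0)⁻¹ * (Q 2 * W0)))) := by group
    _ = (Γ 2)⁻¹ * ((Γ 0)⁻¹ * (Γ 2 * (((Γ 0)⁻¹ * W0) * Q 2))) := by rw [← hq]; group
    _ = (Γ 2)⁻¹ * ((Γ 0)⁻¹ * ((Γ 2 * W0) * ((Γ 0)⁻¹ * Q 2))) := by rw [← h0]; group
    _ = (Γ 2)⁻¹ * (((Γ 0)⁻¹ * W0) * (Γ 2 * ((Γ 0)⁻¹ * Q 2))) := by rw [← h2']; group
    _ = ((Γ 2)⁻¹ * W0) * ((Γ 0)⁻¹ * (Γ 2 * ((Γ 0)⁻¹ * Q 2))) := by rw [← h0]; group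
    _ = W0 * ((Γ 2)⁻¹ * ((Γ 0)⁻¹ * (Γ 2 * ((Γ 0)⁻¹ * Q 2)))) := by rw [← h2]; group

theorem isConj_x2 : IsConj Cfsg.Agent.HN.XWords.W0 x2 := by
  refine isConj_iff.2 ⟨k⁻¹, ?_⟩
  rw [inv_inv, mul_assoc, W0_mul_k, inv_mul_cancel_left]

/-- the subgroup `⟨x2, b⟩` (a quotient of `A5`) -/
def A5 : Subgroup Cfsg.Spor.HN := Subgroup.closure {x2, b}

theorem x2_mem : x2 ∈ A5 := Subgroup.subset_closure (Set.mem_insert _ _)
theorem b_mem : b ∈ A5 := Subgroup.subset_closure (Set.mem_insert_of_mem _ rfl)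

theorem A5_le : A5 ≤ Subgroup.centralizer {W0} := by
  rw [A5, Subgroup.closure_le]
  rintro _ (rfl | rfl)
  · exact Subgroup.mem_centralizer_singleton_iff.2 x2_comm
  · exact Subgroup.mem_centralizer_singleton_iff.2 b_comm

/-- A subgroup containing `x2, b` modulo which the commutator of `x2, b` is trivial contains `x2` and `b`. -/
theorem A5_le_of_comm {N : Subgroup Cfsg.Spor.HN} (hN : ∀ g ∈ A5, ∀ n ∈ N, g * n * g⁻¹ ∈ N)
    (h : x2 * b * x2⁻¹ * b⁻¹ ∈ N) : A5 ≤ N := by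
  -- modulo `N`: `x2 b = b x2`
  have hq : ∀ g ∈ A5, ∀ n ∈ N, n * g ∈ N → g ∈ N := fun g _ n hn h1 => by
    have := N.mul_mem (N.inv_mem hn) h1
    rwa [inv_mul_cancel_left] at this
  -- `(x2 b)^2 = x2 b x2 b = n x2^2 b^2`
  have key : ∀ i : ℕ, (x2 * b) ^ i * (x2 ^ i * b ^ i)⁻¹ ∈ N := by
    have hb : ∀ i : ℕ, b ^ i ∈ A5 := fun i => A5.pow_mem b_mem i
    have hx : ∀ i : ℕ, x2 ^ i ∈ A5 := fun i => A5.pow_mem x2_mem i
    -- commutators of powers of b with x2
    have hc : ∀ i : ℕ, x2 * b ^ i * x2⁻¹ * (b ^ i)⁻¹ ∈ N := by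
      intro i
      induction i with
      | zero =>
        have : x2 * b ^ 0 * x2⁻¹ * (b ^ 0)⁻¹ = 1 := by rw [pow_zero]; group
        rw [this]; exact N.one_mem
      | succ i ih =>
        have : x2 * b ^ (i + 1) * x2⁻¹ * (b ^ (i + 1))⁻¹ =
            (x2 * b * x2⁻¹ * b⁻¹) * (b * (x2 * b ^ i * x2⁻¹ * (b ^ i)⁻¹) * b⁻¹) := by
          rw [pow_succ']; group
        rw [this]
        exact N.mul_mem h (hN b b_mem _ ih)
    intro i
    induction i with
    | zero =>
      have : (x2 * b) ^ 0 * (x2 ^ 0 * b ^ 0)⁻¹ = 1 := by rw [pow_zero, pow_zero, pow_zero]; group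
      rw [this]; exact N.one_mem
    | succ i ih =>
      -- (x2 b)^(i+1) = x2 b (x2 b)^i = x2 b n x2^i b^i
      have hc' : ∀ j : ℕ, b * x2 ^ j * b⁻¹ * (x2 ^ j)⁻¹ ∈ N := by
        intro j
        induction j with
        | zero =>
          have : b * x2 ^ 0 * b⁻¹ * (x2 ^ 0)⁻¹ = 1 := by rw [pow_zero]; group
          rw [this]; exact N.one_mem
        | succ j ihj =>
          have : b * x2 ^ (j + 1) * b⁻¹ * (x2 ^ (j + 1))⁻¹ =
              (x2 * b * x2⁻¹ * b⁻¹)⁻¹ * (x2 * (b * x2 ^ j * b⁻¹ * (x2 ^ j)⁻¹) * x2⁻¹) := by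
            rw [pow_succ']; group
          rw [this]
          exact N.mul_mem (N.inv_mem h) (hN x2 x2_mem _ ihj)
      have : (x2 * b) ^ (i + 1) * (x2 ^ (i + 1) * b ^ (i + 1))⁻¹ =
          ((x2 * b) * ((x2 * b) ^ i * (x2 ^ i * b ^ i)⁻¹) * (x2 * b)⁻¹) *
          (x2 * (b * x2 ^ i * b⁻¹ * (x2 ^ i)⁻¹) * x2⁻¹) := by
        rw [pow_succ' (x2 * b), pow_succ' x2, pow_succ' b]; group
      rw [this]
      exact N.mul_mem (hN _ (A5.mul_mem x2_mem b_mem) _ ih) (hN x2 x2_mem _ (hc' i))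
  have h5 := key 5
  have hx5 : x2 ^ 5 = x2 := by
    have e : x2 ^ 5 = (x2 * x2) * ((x2 * x2) * x2) := by simp only [pow_succ, pow_zero, one_mul, mul_assoc]
    rw [e, x2_sq, one_mul, one_mul]
  have hb5 : b ^ 5 = b⁻¹ := by
    have e : b ^ 5 * b = (b * (b * b)) * (b * (b * b)) := by simp only [pow_succ, pow_zero, one_mul, mul_assoc]
    rw [b_cube, one_mul] at e
    exact eq_inv_of_mul_eq_one_left e
  rw [x2b_pow, one_mul, hx5, hb5] at h5
  -- `x2 b⁻¹ ∈ N`
  have h6 : x2 * b⁻¹ ∈ N := by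
    have := N.inv_mem h5
    rwa [inv_inv] at this
  -- modulo `N`, `x2 = b`: `x2 = x2^3 ≡ b^3 = 1`
  have h7 : x2 ∈ N := by
    have e : x2 = (x2 * b⁻¹) * (b * (x2 * b⁻¹) * b⁻¹) * (b * (b * (x2 * b⁻¹) * b⁻¹) * b⁻¹) *
        (b * (b * b)) * (x2 * x2)⁻¹ := by group
    rw [e, b_cube, x2_sq, mul_one, inv_one, mul_one]
    have h8 := hN b b_mem _ h6
    exact N.mul_mem (N.mul_mem h6 h8) (hN b b_mem _ h8)
  have h8 : b ∈ N := by
    have := N.mul_mem (N.inv_mem h6) h7
    have e : (x2 * b⁻¹)⁻¹ * x2 = b := by group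
    rwa [e] at this
  rw [A5, Subgroup.closure_le]
  rintro _ (rfl | rfl)
  · exact h7
  · exact h8

open scoped commutatorElement in
/-- **`⟨x2, b⟩` is perfect** -/
theorem A5_perfect : ⁅A5, A5⁆ = A5 := by
  apply le_antisymm
  · exact Subgroup.commutator_le_self A5
  · apply A5_le_of_comm
    · intro g hg n hn
      have e : g * n * g⁻¹ = ⁅g, n⁆ * n := by rw [commutatorElement_def]; group
      rw [e]
      exact mul_mem (Subgroup.commutator_mem_commutator hg (Subgroup.commutator_le_self A5 hn)) hn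
    · exact Subgroup.commutator_mem_commutator x2_mem b_mem

end Cfsg.Agent.KFacts.HN.YTrick
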