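import Cfsg.Agent.KFacts.HN.PCard
import Cfsg.Agent.KFacts.HN.YTrick
import Cfsg.Agent.KFacts.CentTwo

/-!
# HN: automorphisms centralising the centraliser of a 2-central involution

`hgen`: `HN = ⟨C(W0), n⟩` where `n` permutes the involutions of `⟨W0, z'⟩` cyclically; `hV`: the double centraliser of
`⟨W0, z'⟩`; `cent_two`: an automorphism centralising `C(W0)` is trivial or the conjugation by `W0`.
-/

set_option autoImplicit false

namespace Cfsg.Agent.KFacts.HN.CentTwoHN

open Cfsg.Agent.HN.Pres Cfsg.Agent.HN.P1408 Cfsg.Agent.HN.H0Basic Cfsg.Agent.HN.XMat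
open Cfsg.Agent.HN.XStruct Cfsg.Agent.HN.XWords Cfsg.Agent.HN.XQuot Cfsg.Agent.HN.FusGen Cfsg.Agent.HN.XInst
open Cfsg.Agent.KFacts.HN.PCard
open Cfsg.Agent.Lib.PackMat (checkEq checkEq_spec)
open Cfsg.Agent.Lib.PackMatGroup (evG_map eq_of_rows)
open Cfsg.Agent.SporadicA.PermTab (band_eq_true allB allB_iff)

/-! ### the four-group -/

/-- the second involution of the four-group -/
def z' : Cfsg.Spor.HN := r Q 3

/-- `x z` -/
def a : Cfsg.Spor.HN := V [0, 4]

/-- the element of order 3 on the four-group -/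
def n : Cfsg.Spor.HN := a * Q 6

theorem z'_eq : z' = V (qw 0 ++ qw 1) := r3_eq

theorem z'_sq : z' * z' = 1 := by
  rw [z'_eq, ← V_append, ← V_nil]
  exact V_eq (by decide +kernel)

theorem z'_comm : W0 * z' = z' * W0 := cwr 3

theorem π_self (u : Cfsg.Spor.HN) : P (MonoidHom.id Cfsg.Spor.HN) u = π W0 u := rfl

theorem z'_ne : W0 ≠ z' := by
  intro h
  have h1 : r k 3 = 1 := by
    have h2 : P (MonoidHom.id Cfsg.Spor.HN) (r Q 3) = r (kk (MonoidHom.id Cfsg.Spor.HN)) 3 := P_r 3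
    rw [← h2]
    change P (MonoidHom.id Cfsg.Spor.HN) z' = 1
    rw [← h]
    exact P_W0
  exact absurd (hyp.toBas.inj 3 (by norm_num) h1) (by norm_num)

theorem n_W0 : n * W0 = z' * n := by
  rw [n, a, z'_eq, Q, W0, ← V_append, ← V_append, ← V_append]
  exact V_eq (by decide +kernel)

theorem n_z' : n * z' = W0 * z' * n := by
  rw [n, a, z'_eq, Q, W0, ← V_append, ← V_append, ← V_append, ← V_append]
  exact V_eq (by decide +kernel)

theorem q6_z' : Q 6 * z' = W0 * z' * Q 6 := by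
  rw [z'_eq, Q, W0, ← V_append, ← V_append, ← V_append]
  exact V_eq (by decide +kernel)

/-! ### generation -/

/-- word whose value lies in `C(W0)` -/
def mzw : List ℕ := [0, 4] ++ (gw 1 ++ ([0, 4] ++ (iw8 (gw 1) ++ ([4, 1] ++ (qw 4 ++ ([2] ++ gw 1))))))

theorem mz_comm : W0 * (V mzw * V [4]) = V mzw * V [4] * W0 := by
  rw [W0, ← V_append, ← V_append, ← V_append]
  exact V_eq (by decide +kernel)

/-- word whose value lies in `C(W0)` -/
def mtw : List ℕ := [4] ++ (iw8 (gw 2) ++ ([4] ++ (iw8 (gw 2) ++ [7])))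

theorem ckt0 : checkEq Cfsg.Agent.HN.RepData.C (Cfsg.Agent.Lib.PackMatGroup.cw Cfsg.Agent.HN.Rep.L (w0w ++ mtw)) (Cfsg.Agent.Lib.PackMatGroup.cw Cfsg.Agent.HN.Rep.L (mtw ++ w0w)) 0 67
    = true := by decide +kernel
theorem ckt1 : checkEq Cfsg.Agent.HN.RepData.C (Cfsg.Agent.Lib.PackMatGroup.cw Cfsg.Agent.HN.Rep.L (w0w ++ mtw)) (Cfsg.Agent.Lib.PackMatGroup.cw Cfsg.Agent.HN.Rep.L (mtw ++ w0w)) 67 66
    = true := by decide +kernel

theorem mt_comm : W0 * V mtw = V mtw * W0 := by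
  rw [W0, ← V_append, ← V_append]
  apply YTrick.hinj
  unfold V
  rw [← evG_map, ← evG_map]
  exact eq_of_rows Cfsg.Agent.HN.Rep.good Cfsg.Agent.HN.Rep.one_lt YTrick.codes_rho (by decide) (by decide) (fun i hi => by
    have hi' : i < 133 := hi
    rcases Nat.lt_or_ge i 67 with h | h
    · exact checkEq_spec ckt0 i (Nat.zero_le _) h
    · exact checkEq_spec ckt1 i h (by omega))

/-- `C(W0)` and `n` -/
def M : Subgroup Cfsg.Spor.HN := Subgroup.closure ({c : Cfsg.Spor.HN | c * W0 = W0 * c} ∪ {n})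

theorem mem_M_of_comm {c : Cfsg.Spor.HN} (h : W0 * c = c * W0) : c ∈ M :=
  Subgroup.subset_closure (Or.inl h.symm)

theorem n_mem : n ∈ M := Subgroup.subset_closure (Or.inr rfl)

theorem a_mem : a ∈ M := by
  have h : a = n * (Q 6)⁻¹ := by rw [n]; group
  rw [h]
  exact mul_mem n_mem (inv_mem (mem_M_of_comm (cw (by norm_num))))

theorem gw1_mem : V (gw 1) ∈ M := mem_M_of_comm (cwg 1)
theorem gw2_mem : V (gw 2) ∈ M := mem_M_of_comm (cwg 2)
theorem y_mem : V [2] ∈ M := mem_M_of_comm (cwg 0)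

theorem mzw_mem : V mzw ∈ M := by
  have h1 : V (iw8 (gw 1)) ∈ M := by rw [V_iw8]; exact inv_mem gw1_mem
  have h2 : V [4, 1] ∈ M := by
    have e : V [4, 1] = (V [0, 4])⁻¹ := by
      rw [eq_inv_iff_mul_eq_one, ← V_append, ← V_nil]
      exact V_eq (by decide +kernel)
    rw [e]
    exact inv_mem a_mem
  have h3 : V (qw 4) ∈ M := mem_M_of_comm (cw (i := 4) (by norm_num))
  rw [mzw, V_append, V_append, V_append, V_append, V_append, V_append, V_append]
  exact mul_mem a_mem (mul_mem gw1_mem (mul_mem a_mem (mul_mem h1 (mul_mem h2 (mul_mem h3 (mul_mem y_mem gw1_mem))))))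

theorem z_mem : V [4] ∈ M := by
  have h := mem_M_of_comm mz_comm
  exact (Subgroup.mul_mem_cancel_left _ mzw_mem).1 h

theorem x_mem : V [0] ∈ M := by
  have h : V [0, 4] = V [0] * V [4] := V_append [0] [4]
  have h1 : V [0] * V [4] ∈ M := by rw [← h]; exact a_mem
  exact (Subgroup.mul_mem_cancel_right _ z_mem).1 h1

theorem t_mem : V [6] ∈ M := by
  have h1 : V (iw8 (gw 2)) ∈ M := by rw [V_iw8]; exact inv_mem gw2_mem
  have h := mem_M_of_comm mt_comm
  rw [mtw, V_append, V_append, V_append, V_append] at h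
  have h2 : V [7] ∈ M :=
    (Subgroup.mul_mem_cancel_left _ h1).1 ((Subgroup.mul_mem_cancel_left _ z_mem).1
      ((Subgroup.mul_mem_cancel_left _ h1).1 ((Subgroup.mul_mem_cancel_left _ z_mem).1 h)))
  have h3 : V [7] = (V [6])⁻¹ := V_iw8 [6]
  rw [h3] at h2
  exact (Subgroup.inv_mem_iff _).1 h2

theorem V_single (i : ℕ) : V [i] = Cfsg.Agent.HN.Rep.gens.getD i 1 := mul_one _

/-- **`HN = ⟨C(W0), n⟩`** -/
theorem hgen : Subgroup.closure ({c : Cfsg.Spor.HN | c * W0 = W0 * c} ∪ {n}) = ⊤ := by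
  change M = ⊤
  rw [eq_top_iff, ← Cfsg.Agent.HN.Rep.closure_eq_top, Subgroup.closure_le]
  have hx := x_mem
  have hy := y_mem
  have hz := z_mem
  have ht := t_mem
  rw [V_single] at hx hy hz ht
  rintro _ (rfl | rfl | rfl | rfl)
  · exact hx
  · exact hy
  · exact hz
  · exact ht

/-! ### the double centraliser -/

/-- the matrix fixes the hyperplane of masks orthogonal to `3` -/
def fix7 (M : ℕ) : Bool :=
  bif Nat.beq (row M 0) 1 then (bif Nat.beq (row M 1) 2 then (bif Nat.beq (row M 2) 4 then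
    (bif Nat.beq (row M 3) 8 then (bif Nat.beq (row M 4) 16 then (bif Nat.beq (row M 5) 32 then
      Nat.beq (app M 192) 192 else false) else false) else false) else false) else false) else false

theorem chk7 : S5M.all (fun A => DM.all (fun B => force (mul A B) (fun M => bif fix7 M then Nat.beq M MI else true)))
    = true := by decide +kernel

theorem chkm : allB (fun m => bif (bif cnt m (Bm 0) 8 then true else bif cnt m (Bm 1) 8 then true else
    bif cnt m (Bm 2) 8 then true else bif cnt m (Bm 3) 8 then true else bif cnt m (Bm 4) 8 then true else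
    bif cnt m (Bm 5) 8 then true else Bool.xor (cnt m (Bm 6) 8) (cnt m (Bm 7) 8)) then true else
      (Nat.beq m 0 || Nat.beq m 3)) 256 = true := by decide +kernel

theorem chk3 : allB (fun i => Bool.not (cnt 3 (Bm i) 8)) 6 = true := by decide +kernel

theorem W0_ne : W0 ≠ 1 := W0_ne_one

theorem sgn0_false_of {m j : ℕ} (hj : j < 8) (h : r Q m * Q j = Q j * r Q m) : cnt m (Bm j) 8 = false := by
  have h2 := rr_comm m (n := 8) hj le_rfl
  have h3 : r Q m * Q j = Q j * (r Q m * sgn0 (cnt m (Bm j) 8)) := h2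
  rw [h] at h3
  have h4 : sgn0 (cnt m (Bm j) 8) = 1 := (mul_eq_left.1 (mul_left_cancel h3).symm)
  cases hc : cnt m (Bm j) 8
  · rfl
  · rw [hc] at h4
    exact absurd h4 W0_ne

theorem r_comm_of {m j : ℕ} (hj : j < 8) (h : cnt m (Bm j) 8 = false) : r Q m * Q j = Q j * r Q m := by
  have h2 := rr_comm m (n := 8) hj le_rfl
  have h3 : r Q m * Q j = Q j * (r Q m * sgn0 (cnt m (Bm j) 8)) := h2
  rw [h] at h3
  rw [h3]
  change Q j * (r Q m * 1) = _
  rw [mul_one]

theorem q_z' {i : ℕ} (hi : i < 6) : Q i * z' = z' * Q i := by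
  have h := (allB_iff _ _).1 chk3 i hi
  rw [Bool.not_eq_true'] at h
  exact (r_comm_of (by omega) h).symm

/-- `Q 6 * Q 7` commutes with `z'` -/
theorem q67_z' : (Q 6 * Q 7) * z' = z' * (Q 6 * Q 7) := by
  have h6 : r Q 3 * Q 6 = Q 6 * (r Q 3 * sgn0 (cnt 3 (Bm 6) 8)) := rr_comm 3 (n := 8) (by norm_num) le_rfl
  have h7 : r Q 3 * Q 7 = Q 7 * (r Q 3 * sgn0 (cnt 3 (Bm 7) 8)) := rr_comm 3 (n := 8) (by norm_num) le_rfl
  have e6 : cnt 3 (Bm 6) 8 = true := by decide +kernel
  have e7 : cnt 3 (Bm 7) 8 = true := by decide +kernel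
  rw [e6] at h6
  rw [e7] at h7
  change z' * Q 6 = Q 6 * (z' * W0) at h6
  change z' * Q 7 = Q 7 * (z' * W0) at h7
  have hw := cw (i := 7) (by norm_num)
  have hz := z'_comm
  symm
  calc z' * (Q 6 * Q 7) = (z' * Q 6) * Q 7 := by group
    _ = Q 6 * z' * (W0 * Q 7) := by rw [h6]; group
    _ = Q 6 * (z' * Q 7) * W0 := by rw [hw]; group
    _ = Q 6 * Q 7 * z' * (W0 * W0) := by rw [h7]; group
    _ = Q 6 * Q 7 * z' := by rw [W0_sq, mul_one]

theorem π_comm {u v : Cfsg.Spor.HN} (hu : u * W0 = W0 * u) (hv : v * W0 = W0 * v) (h : u * v = v * u) :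
    π W0 u * π W0 v = π W0 v * π W0 u := by
  rw [← π_mul hu hv, ← π_mul hv hu, h]

theorem P_r' (m : ℕ) : π W0 (r Q m) = r k m := P_r (θ := MonoidHom.id Cfsg.Spor.HN) m

theorem app_of_comm {X : KK W0} {M m : ℕ} (hA : Acts k X M) (hm : m < 256) (h : X * r k m = r k m * X) :
    app M m = m := by
  apply hyp.toBas.r_inj (app_lt _ _) hm
  rw [← hyp.toBas.acts_r hA, mul_assoc, ← h]
  group

theorem mul_sgn_comm {u : Cfsg.Spor.HN} (hu : W0 * u = u * W0) : (u * W0) * W0 = W0 * (u * W0) := by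
  rw [← mul_assoc, hu]

/-- **The double centraliser of the four-group** -/
theorem hV (s : Cfsg.Spor.HN) (hs : ∀ c : Cfsg.Spor.HN, c * W0 = W0 * c → c * z' = z' * c → s * c = c * s) :
    s = 1 ∨ s = W0 ∨ s = z' ∨ s = W0 * z' := by
  have h := hyp
  have B := h.toBas
  have h0 : s * W0 = W0 * s := hs W0 rfl z'_comm
  have hq : ∀ i < 6, s * Q i = Q i * s := fun i hi => hs _ (cw (by omega)).symm (q_z' hi)
  have hc67 : (Q 6 * Q 7) * W0 = W0 * (Q 6 * Q 7) := by
    rw [mul_assoc, ← cw (i := 7) (by norm_num), ← mul_assoc, ← cw (i := 6) (by norm_num), mul_assoc]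
  have h67 : s * (Q 6 * Q 7) = (Q 6 * Q 7) * s := hs _ hc67 q67_z'
  obtain ⟨m1, _, w, hw, w', hw', hX⟩ := nf_exists (π W0 s)
  have hA : Acts k (π W0 s) (mul (mw w) (mw w')) := by
    rw [hX]
    exact B.acts_mul (B.acts_rmul (B.acts_evw w) m1) (B.acts_evw w')
  have hrow : ∀ i < 6, row (mul (mw w) (mw w')) i = 2 ^ i := by
    intro i hi
    rw [← app_pow _ (by omega : i < 8)]
    apply app_of_comm hA (by interval_cases i <;> norm_num)
    rw [Bas.r_pow (by omega : i < 8)]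
    exact π_comm h0 (cw (by omega)).symm (hq i hi)
  have h192 : app (mul (mw w) (mw w')) 192 = 192 := by
    apply app_of_comm hA (by norm_num)
    have e : r Q 192 = Q 6 * Q 7 := by
      have e0 : ∀ i < 6, (192 : ℕ).testBit i = false := by decide
      have e6 : (192 : ℕ).testBit 6 = true := by decide
      have e7 : (192 : ℕ).testBit 7 = true := by decide
      rw [r, rr_succ, rr_succ, rr_succ, rr_succ, rr_succ, rr_succ, rr_succ, rr_succ, rr_zero, e6, e7,
        e0 0 (by norm_num), e0 1 (by norm_num), e0 2 (by norm_num), e0 3 (by norm_num), e0 4 (by norm_num),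
        e0 5 (by norm_num)]
      simp only [Bool.false_eq_true, if_false, if_true, mul_one, one_mul]
    rw [← P_r', e]
    exact π_comm h0 hc67 h67
  have hMI : mul (mw w) (mw w') = MI := by
    have h1 := List.all_eq_true.1 (List.all_eq_true.1 chk7 _ (mem_S5M hw)) _ (mem_DM hw')
    rw [force_eq] at h1
    have h2 : fix7 (mul (mw w) (mw w')) = true := by
      unfold fix7
      rw [hrow 0 (by norm_num), hrow 1 (by norm_num), hrow 2 (by norm_num), hrow 3 (by norm_num),
        hrow 4 (by norm_num), hrow 5 (by norm_num), h192]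
      rfl
    rw [h2, cond_true] at h1
    exact Nat.eq_of_beq_eq_true h1
  rw [hMI] at hA
  have hR : π W0 s ∈ Cfsg.Agent.HN.XStruct.R h.toBas := by
    apply h.mem_R_of_comm
    intro i hi
    have h1 := hA i hi
    rw [row_MI hi, Bas.r_pow hi] at h1
    calc π W0 s * k i = π W0 s * ((π W0 s)⁻¹ * k i * π W0 s) := by rw [h1]
      _ = k i * π W0 s := by group
  obtain ⟨m, hm, hme⟩ := hR
  rw [← P_r'] at hme
  have hms : s = r Q m ∨ s = r Q m * W0 := (π_eq_iff W0_sq (cwr m).symm h0).1 hme.symm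
  -- `r Q m` satisfies the same relations
  have hr0 : ∀ c : Cfsg.Spor.HN, c * W0 = W0 * c → s * c = c * s → r Q m * c = c * r Q m := by
    intro c hc h1
    rcases hms with e | e
    · rw [← e]; exact h1
    · have h2 : r Q m = s * W0 := by rw [e, mul_assoc, W0_sq, mul_one]
      rw [h2, mul_assoc, ← hc, ← mul_assoc, h1, mul_assoc]
  have hcm : ∀ i < 6, cnt m (Bm i) 8 = false := fun i hi =>
    sgn0_false_of (by omega) (hr0 _ (cw (by omega)).symm (hq i hi))
  have hc2 : Bool.xor (cnt m (Bm 6) 8) (cnt m (Bm 7) 8) = false := by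
    have h1 := hr0 _ hc67 h67
    have h6 : r Q m * Q 6 = Q 6 * (r Q m * sgn0 (cnt m (Bm 6) 8)) := rr_comm m (n := 8) (by norm_num) le_rfl
    have h7 : r Q m * Q 7 = Q 7 * (r Q m * sgn0 (cnt m (Bm 7) 8)) := rr_comm m (n := 8) (by norm_num) le_rfl
    set c6 := cnt m (Bm 6) 8
    set c7 := cnt m (Bm 7) 8
    have h8 : sgn0 c6 * Q 7 = Q 7 * sgn0 c6 := cws (by norm_num) c6
    have h9 : r Q m * (Q 6 * Q 7) = Q 6 * Q 7 * (r Q m * sgn0 (c7 ^^ c6)) := by
      rw [← sgn0_mul]
      calc r Q m * (Q 6 * Q 7) = (r Q m * Q 6) * Q 7 := by group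
        _ = Q 6 * r Q m * (sgn0 c6 * Q 7) := by rw [h6]; group
        _ = Q 6 * (r Q m * Q 7) * sgn0 c6 := by rw [h8]; group
        _ = Q 6 * Q 7 * (r Q m * (sgn0 c7 * sgn0 c6)) := by rw [h7]; group
    rw [h1] at h9
    have h10 : sgn0 (c7 ^^ c6) = 1 := (mul_eq_left.1 (mul_left_cancel h9).symm)
    cases hc : c7 ^^ c6
    · rw [Bool.xor_comm] at hc; exact hc
    · rw [hc] at h10
      exact absurd h10 W0_ne
  have h03 : m = 0 ∨ m = 3 := by
    have h1 := (allB_iff _ _).1 chkm m hm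
    rw [hcm 0 (by norm_num), hcm 1 (by norm_num), hcm 2 (by norm_num), hcm 3 (by norm_num), hcm 4 (by norm_num),
      hcm 5 (by norm_num), hc2] at h1
    simp only [cond_false, Bool.or_eq_true] at h1
    exact h1.imp Nat.eq_of_beq_eq_true Nat.eq_of_beq_eq_true
  rcases h03 with rfl | rfl
  · have e : r Q 0 = 1 := Bas.r_zero
    rw [e, one_mul] at hms
    rcases hms with h1 | h1
    · exact Or.inl h1
    · exact Or.inr (Or.inl h1)
  · change s = z' ∨ s = z' * W0 at hms
    rw [← z'_comm] at hms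
    rcases hms with h1 | h1
    · exact Or.inr (Or.inr (Or.inl h1))
    · exact Or.inr (Or.inr (Or.inr h1))

/-- **Automorphisms of HN centralising `C(W0)`** -/
theorem cent_two (α : MulAut Cfsg.Spor.HN) (hα : ∀ c : Cfsg.Spor.HN, c * W0 = W0 * c → α c = c) :
    α = 1 ∨ α = MulAut.conj W0 := by
  refine Cfsg.Agent.KFacts.CentTwo.eq_one_or_conj (z' := z') (n := n) (τ := Q 6) W0_sq z'_sq z'_comm z'_ne ?_ ?_
    (cw (by norm_num)).symm ?_ hV hgen α hα
  · rw [n_W0, mul_inv_cancel_right]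
  · rw [n_z', mul_inv_cancel_right]
  · rw [q6_z', mul_inv_cancel_right]

end Cfsg.Agent.KFacts.HN.CentTwoHN
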