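import Cfsg.Agent.HN.TSyl

/-!
# The centre of a Sylow 2-subgroup of HN

`center_T`: the centre of the Sylow 2-subgroup `Pc s 14` of the presented Harada-Norton group is `⟨s 0⟩`, of order 2.
-/

set_option autoImplicit false
set_option linter.unusedSectionVars false

namespace Cfsg.Agent.KFacts.HN.SylCenter

open Cfsg.Agent.Lib.PackMat Cfsg.Agent.Lib.PackMatGroup
open Cfsg.Agent.HN.RepData Cfsg.Agent.HN.Rep Cfsg.Agent.HN.TGroup Cfsg.Agent.HN.PC Cfsg.Agent.HN.TRel Cfsg.Agent.HN.TSyl

theorem k3_0 : checkEq C (cw TL [3, 0]) (cw TL ([] ++ [0, 3])) 0 133 = true := by decide +kernel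
theorem k3_1 : checkEq C (cw TL [3, 1]) (cw TL ([] ++ [1, 3])) 0 133 = true := by decide +kernel
theorem k3_2 : checkEq C (cw TL [3, 2]) (cw TL ([] ++ [2, 3])) 0 133 = true := by decide +kernel
theorem k3_4 : checkEq C (cw TL [3, 4]) (cw TL ([] ++ [4, 3])) 0 133 = true := by decide +kernel
theorem k3_5 : checkEq C (cw TL [3, 5]) (cw TL ([0] ++ [5, 3])) 0 133 = true := by decide +kernel
theorem k3_6 : checkEq C (cw TL [3, 6]) (cw TL ([] ++ [6, 3])) 0 133 = true := by decide +kernel
theorem k3_7 : checkEq C (cw TL [3, 7]) (cw TL ([] ++ [7, 3])) 0 133 = true := by decide +kernel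
theorem k3_8 : checkEq C (cw TL [3, 8]) (cw TL ([1] ++ [8, 3])) 0 133 = true := by decide +kernel
theorem k3_9 : checkEq C (cw TL [3, 9]) (cw TL ([] ++ [9, 3])) 0 133 = true := by decide +kernel
theorem k3_10 : checkEq C (cw TL [3, 10]) (cw TL ([] ++ [10, 3])) 0 133 = true := by decide +kernel
theorem k3_11 : checkEq C (cw TL [3, 11]) (cw TL ([2] ++ [11, 3])) 0 133 = true := by decide +kernel
theorem k4_0 : checkEq C (cw TL [4, 0]) (cw TL ([] ++ [0, 4])) 0 133 = true := by decide +kernel
theorem k4_1 : checkEq C (cw TL [4, 1]) (cw TL ([] ++ [1, 4])) 0 133 = true := by decide +kernel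
theorem k4_2 : checkEq C (cw TL [4, 2]) (cw TL ([] ++ [2, 4])) 0 133 = true := by decide +kernel
theorem k4_3 : checkEq C (cw TL [4, 3]) (cw TL ([] ++ [3, 4])) 0 133 = true := by decide +kernel
theorem k4_5 : checkEq C (cw TL [4, 5]) (cw TL ([] ++ [5, 4])) 0 133 = true := by decide +kernel
theorem k4_6 : checkEq C (cw TL [4, 6]) (cw TL ([0] ++ [6, 4])) 0 133 = true := by decide +kernel

theorem comm_eq_of_rel (hinj : Function.Injective rho) {g i : ℕ} {w : List ℕ} (hg : g < 14) (hi : i < 14)
    (hw : okW 14 w = true) (h : checkEq C (cw TL [g, i]) (cw TL (w ++ [i, g])) 0 133 = true) :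
    s g * s i * (s g)⁻¹ * (s i)⁻¹ = evG TG w := by
  have ok : okW 14 [g, i] = true := by
    change (bif Nat.blt g 14 then (bif Nat.blt i 14 then true else false) else false) = true
    have h1 : Nat.blt g 14 = true := by simpa [Nat.blt_eq] using hg
    have h2 : Nat.blt i 14 = true := by simpa [Nat.blt_eq] using hi
    rw [h1, h2]; rfl
  have ok' : okW 14 [i, g] = true := by
    change (bif Nat.blt i 14 then (bif Nat.blt g 14 then true else false) else false) = true
    have h1 : Nat.blt g 14 = true := by simpa [Nat.blt_eq] using hg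
    have h2 : Nat.blt i 14 = true := by simpa [Nat.blt_eq] using hi
    rw [h1, h2]; rfl
  have h1 := rel hinj ok (okW_append hw ok') h
  have h2 : s g * s i = evG TG w * (s i * s g) := by
    have e1 : evG TG [g, i] = s g * s i := by rw [evG_cons', evG_cons', evG_nil, mul_one]
    have e2 : evG TG [i, g] = s i * s g := by rw [evG_cons', evG_cons', evG_nil, mul_one]
    rw [← e1, ← e2, ← evG_append]
    exact h1
  rw [h2]; group

section

variable (hinj : Function.Injective rho) [Finite Cfsg.Spor.HN]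
include hinj

/-- a commutator with top letter `m` is not in `Pc s l`, `l ≤ m` -/
theorem comm_notMem {g i l m : ℕ} {w : List ℕ} (hg : g < 14) (hi : i < 14) (hm : m < 14) (hlm : l ≤ m)
    (hw : okW m w = true)
    (h : checkEq C (cw TL [g, i]) (cw TL ((w ++ [m]) ++ [i, g])) 0 133 = true) :
    s g * s i * (s g)⁻¹ * (s i)⁻¹ ∉ Pc s l := by
  have hmm : okW 14 [m] = true := by
    change (bif Nat.blt m 14 then true else false) = true
    have h1 : Nat.blt m 14 = true := by simpa [Nat.blt_eq] using hm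
    rw [h1]; rfl
  rw [comm_eq_of_rel hinj hg hi (okW_append (okW_mono hm.le hw) hmm) h]
  intro h1
  have h2 := Pc_mono hlm h1
  rw [evG_append, evG_cons', evG_nil, mul_one] at h2
  exact notMem hinj hm ((Subgroup.mul_mem_cancel_left _ (evG_mem_Pc hw)).1 h2)

omit [Finite Cfsg.Spor.HN] in
/-- commutators with a fixed element -/
theorem comm_Pc {k l : ℕ} (hk : k ≤ 14) (hl : l ≤ 14) {a : Cfsg.Spor.HN}
    (h1 : ∀ i < k, a * s i * a⁻¹ * (s i)⁻¹ ∈ Pc s l) : ∀ y ∈ Pc s k, a * y * a⁻¹ * y⁻¹ ∈ Pc s l := by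
  intro y hy
  have hk' : Pc s k ≤ Pc s 14 := Pc_mono hk
  unfold Pc at hy
  induction hy using Subgroup.closure_induction with
  | mem x hx =>
    obtain ⟨i, hi, rfl⟩ := hx
    exact h1 i hi
  | one =>
    have : a * 1 * a⁻¹ * 1⁻¹ = 1 := by group
    rw [this]; exact one_mem _
  | mul x y hx hy ihx ihy =>
    have : a * (x * y) * a⁻¹ * (x * y)⁻¹ = (a * x * a⁻¹ * x⁻¹) * (x * (a * y * a⁻¹ * y⁻¹) * x⁻¹) := by group
    rw [this]
    exact mul_mem ihx (norm hinj hl (hk' hx) ihy)
  | inv x hx ihx =>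
    have : a * x⁻¹ * a⁻¹ * x⁻¹⁻¹ = x⁻¹ * (a * x * a⁻¹ * x⁻¹)⁻¹ * x⁻¹⁻¹ := by group
    rw [this]
    exact norm hinj hl (inv_mem (hk' hx)) (inv_mem ihx)

/-- an element of `Pc s (k + 1)` commuting with `a` lies in `Pc s k` -/
theorem descend {k l : ℕ} (hk : k < 14) (hl : l ≤ 14) {a : Cfsg.Spor.HN}
    (h1 : ∀ i < k, a * s i * a⁻¹ * (s i)⁻¹ ∈ Pc s l) (h2 : a * s k * a⁻¹ * (s k)⁻¹ ∉ Pc s l)
    {x : Cfsg.Spor.HN} (hx : x ∈ Pc s (k + 1)) (hc : x * a = a * x) : x ∈ Pc s k := by
  rcases (step hinj hk).mem hx with h | h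
  · exact h
  · exfalso
    have h3 := comm_Pc hinj hk.le hl h1 _ h
    set y := x * (s k)⁻¹ with hy
    have hxy : x = y * s k := by rw [hy]; group
    have h4 : (a * y * a⁻¹ * y⁻¹) * (y * (a * s k * a⁻¹ * (s k)⁻¹) * y⁻¹) = 1 := by
      have h5 : (a * y * a⁻¹ * y⁻¹) * (y * (a * s k * a⁻¹ * (s k)⁻¹) * y⁻¹) = a * (y * s k) * a⁻¹ * (y * s k)⁻¹ := by
        group
      rw [h5, ← hxy, ← hc]; group
    have h6 : y * (a * s k * a⁻¹ * (s k)⁻¹) * y⁻¹ ∈ Pc s l := by
      rw [eq_inv_of_mul_eq_one_right h4]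
      exact inv_mem h3
    have h7 := norm hinj hl (inv_mem (Pc_mono hk.le h)) h6
    apply h2
    have h8 : y⁻¹ * (y * (a * s k * a⁻¹ * (s k)⁻¹) * y⁻¹) * y⁻¹⁻¹ = a * s k * a⁻¹ * (s k)⁻¹ := by group
    rwa [h8] at h7


theorem d1 {x : Cfsg.Spor.HN} (hx : x ∈ Pc s 2) (hc : x * s 12 = s 12 * x) : x ∈ Pc s 1 := by
  have h1 : ∀ i < 1, s 12 * s i * (s 12)⁻¹ * (s i)⁻¹ ∈ Pc s 0
    | 0, _ => comm_mem_of_rel hinj (w := []) (by norm_num) (by norm_num) (by norm_num) (by decide) k12_0
  exact descend hinj (k := 1) (l := 0) (a := s 12) (by norm_num) (by norm_num) h1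
    (comm_notMem hinj (g := 12) (i := 1) (l := 0) (m := 0) (w := []) (by norm_num) (by norm_num)
      (by norm_num) (by norm_num) (by decide) k12_1) hx hc

theorem d2 {x : Cfsg.Spor.HN} (hx : x ∈ Pc s 3) (hc : x * s 13 = s 13 * x) : x ∈ Pc s 2 := by
  have h1 : ∀ i < 2, s 13 * s i * (s 13)⁻¹ * (s i)⁻¹ ∈ Pc s 0
    | 0, _ => comm_mem_of_rel hinj (w := []) (by norm_num) (by norm_num) (by norm_num) (by decide) k13_0
    | 1, _ => comm_mem_of_rel hinj (w := []) (by norm_num) (by norm_num) (by norm_num) (by decide) k13_1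
  exact descend hinj (k := 2) (l := 0) (a := s 13) (by norm_num) (by norm_num) h1
    (comm_notMem hinj (g := 13) (i := 2) (l := 0) (m := 1) (w := []) (by norm_num) (by norm_num)
      (by norm_num) (by norm_num) (by decide) k13_2) hx hc

theorem d3 {x : Cfsg.Spor.HN} (hx : x ∈ Pc s 4) (hc : x * s 11 = s 11 * x) : x ∈ Pc s 3 := by
  have h1 : ∀ i < 3, s 11 * s i * (s 11)⁻¹ * (s i)⁻¹ ∈ Pc s 0
    | 0, _ => comm_mem_of_rel hinj (w := []) (by norm_num) (by norm_num) (by norm_num) (by decide) k11_0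
    | 1, _ => comm_mem_of_rel hinj (w := []) (by norm_num) (by norm_num) (by norm_num) (by decide) k11_1
    | 2, _ => comm_mem_of_rel hinj (w := []) (by norm_num) (by norm_num) (by norm_num) (by decide) k11_2
  exact descend hinj (k := 3) (l := 0) (a := s 11) (by norm_num) (by norm_num) h1
    (comm_notMem hinj (g := 11) (i := 3) (l := 0) (m := 2) (w := []) (by norm_num) (by norm_num)
      (by norm_num) (by norm_num) (by decide) k11_3) hx hc

theorem d4 {x : Cfsg.Spor.HN} (hx : x ∈ Pc s 5) (hc : x * s 10 = s 10 * x) : x ∈ Pc s 4 := by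
  have h1 : ∀ i < 4, s 10 * s i * (s 10)⁻¹ * (s i)⁻¹ ∈ Pc s 0
    | 0, _ => comm_mem_of_rel hinj (w := []) (by norm_num) (by norm_num) (by norm_num) (by decide) k10_0
    | 1, _ => comm_mem_of_rel hinj (w := []) (by norm_num) (by norm_num) (by norm_num) (by decide) k10_1
    | 2, _ => comm_mem_of_rel hinj (w := []) (by norm_num) (by norm_num) (by norm_num) (by decide) k10_2
    | 3, _ => comm_mem_of_rel hinj (w := []) (by norm_num) (by norm_num) (by norm_num) (by decide) k10_3
  exact descend hinj (k := 4) (l := 0) (a := s 10) (by norm_num) (by norm_num) h1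
    (comm_notMem hinj (g := 10) (i := 4) (l := 0) (m := 2) (w := [1]) (by norm_num) (by norm_num)
      (by norm_num) (by norm_num) (by decide) k10_4) hx hc

theorem d5 {x : Cfsg.Spor.HN} (hx : x ∈ Pc s 6) (hc : x * s 13 = s 13 * x) : x ∈ Pc s 5 := by
  have h1 : ∀ i < 5, s 13 * s i * (s 13)⁻¹ * (s i)⁻¹ ∈ Pc s 2
    | 0, _ => comm_mem_of_rel hinj (w := []) (by norm_num) (by norm_num) (by norm_num) (by decide) k13_0
    | 1, _ => comm_mem_of_rel hinj (w := []) (by norm_num) (by norm_num) (by norm_num) (by decide) k13_1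
    | 2, _ => comm_mem_of_rel hinj (w := [1]) (by norm_num) (by norm_num) (by norm_num) (by decide) k13_2
    | 3, _ => comm_mem_of_rel hinj (w := []) (by norm_num) (by norm_num) (by norm_num) (by decide) k13_3
    | 4, _ => comm_mem_of_rel hinj (w := []) (by norm_num) (by norm_num) (by norm_num) (by decide) k13_4
  exact descend hinj (k := 5) (l := 2) (a := s 13) (by norm_num) (by norm_num) h1
    (comm_notMem hinj (g := 13) (i := 5) (l := 2) (m := 4) (w := []) (by norm_num) (by norm_num)
      (by norm_num) (by norm_num) (by decide) k13_5) hx hc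

theorem d6 {x : Cfsg.Spor.HN} (hx : x ∈ Pc s 7) (hc : x * s 4 = s 4 * x) : x ∈ Pc s 6 := by
  have h1 : ∀ i < 6, s 4 * s i * (s 4)⁻¹ * (s i)⁻¹ ∈ Pc s 0
    | 0, _ => comm_mem_of_rel hinj (w := []) (by norm_num) (by norm_num) (by norm_num) (by decide) k4_0
    | 1, _ => comm_mem_of_rel hinj (w := []) (by norm_num) (by norm_num) (by norm_num) (by decide) k4_1
    | 2, _ => comm_mem_of_rel hinj (w := []) (by norm_num) (by norm_num) (by norm_num) (by decide) k4_2
    | 3, _ => comm_mem_of_rel hinj (w := []) (by norm_num) (by norm_num) (by norm_num) (by decide) k4_3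
    | 4, _ => comm_self _ _
    | 5, _ => comm_mem_of_rel hinj (w := []) (by norm_num) (by norm_num) (by norm_num) (by decide) k4_5
  exact descend hinj (k := 6) (l := 0) (a := s 4) (by norm_num) (by norm_num) h1
    (comm_notMem hinj (g := 4) (i := 6) (l := 0) (m := 0) (w := []) (by norm_num) (by norm_num)
      (by norm_num) (by norm_num) (by decide) k4_6) hx hc

theorem d7 {x : Cfsg.Spor.HN} (hx : x ∈ Pc s 8) (hc : x * s 10 = s 10 * x) : x ∈ Pc s 7 := by
  have h1 : ∀ i < 7, s 10 * s i * (s 10)⁻¹ * (s i)⁻¹ ∈ Pc s 3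
    | 0, _ => comm_mem_of_rel hinj (w := []) (by norm_num) (by norm_num) (by norm_num) (by decide) k10_0
    | 1, _ => comm_mem_of_rel hinj (w := []) (by norm_num) (by norm_num) (by norm_num) (by decide) k10_1
    | 2, _ => comm_mem_of_rel hinj (w := []) (by norm_num) (by norm_num) (by norm_num) (by decide) k10_2
    | 3, _ => comm_mem_of_rel hinj (w := []) (by norm_num) (by norm_num) (by norm_num) (by decide) k10_3
    | 4, _ => comm_mem_of_rel hinj (w := [1, 2]) (by norm_num) (by norm_num) (by norm_num) (by decide) k10_4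
    | 5, _ => comm_mem_of_rel hinj (w := [0, 1]) (by norm_num) (by norm_num) (by norm_num) (by decide) k10_5
    | 6, _ => comm_mem_of_rel hinj (w := [0]) (by norm_num) (by norm_num) (by norm_num) (by decide) k10_6
  exact descend hinj (k := 7) (l := 3) (a := s 10) (by norm_num) (by norm_num) h1
    (comm_notMem hinj (g := 10) (i := 7) (l := 3) (m := 6) (w := [0]) (by norm_num) (by norm_num)
      (by norm_num) (by norm_num) (by decide) k10_7) hx hc

theorem d8 {x : Cfsg.Spor.HN} (hx : x ∈ Pc s 9) (hc : x * s 12 = s 12 * x) : x ∈ Pc s 8 := by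
  have h1 : ∀ i < 8, s 12 * s i * (s 12)⁻¹ * (s i)⁻¹ ∈ Pc s 1
    | 0, _ => comm_mem_of_rel hinj (w := []) (by norm_num) (by norm_num) (by norm_num) (by decide) k12_0
    | 1, _ => comm_mem_of_rel hinj (w := [0]) (by norm_num) (by norm_num) (by norm_num) (by decide) k12_1
    | 2, _ => comm_mem_of_rel hinj (w := [0]) (by norm_num) (by norm_num) (by norm_num) (by decide) k12_2
    | 3, _ => comm_mem_of_rel hinj (w := [0]) (by norm_num) (by norm_num) (by norm_num) (by decide) k12_3
    | 4, _ => comm_mem_of_rel hinj (w := [0]) (by norm_num) (by norm_num) (by norm_num) (by decide) k12_4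
    | 5, _ => comm_mem_of_rel hinj (w := []) (by norm_num) (by norm_num) (by norm_num) (by decide) k12_5
    | 6, _ => comm_mem_of_rel hinj (w := []) (by norm_num) (by norm_num) (by norm_num) (by decide) k12_6
    | 7, _ => comm_mem_of_rel hinj (w := []) (by norm_num) (by norm_num) (by norm_num) (by decide) k12_7
  exact descend hinj (k := 8) (l := 1) (a := s 12) (by norm_num) (by norm_num) h1
    (comm_notMem hinj (g := 12) (i := 8) (l := 1) (m := 5) (w := [0, 1]) (by norm_num) (by norm_num)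
      (by norm_num) (by norm_num) (by decide) k12_8) hx hc

theorem d9 {x : Cfsg.Spor.HN} (hx : x ∈ Pc s 10) (hc : x * s 12 = s 12 * x) : x ∈ Pc s 9 := by
  have h1 : ∀ i < 9, s 12 * s i * (s 12)⁻¹ * (s i)⁻¹ ∈ Pc s 6
    | 0, _ => comm_mem_of_rel hinj (w := []) (by norm_num) (by norm_num) (by norm_num) (by decide) k12_0
    | 1, _ => comm_mem_of_rel hinj (w := [0]) (by norm_num) (by norm_num) (by norm_num) (by decide) k12_1
    | 2, _ => comm_mem_of_rel hinj (w := [0]) (by norm_num) (by norm_num) (by norm_num) (by decide) k12_2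
    | 3, _ => comm_mem_of_rel hinj (w := [0]) (by norm_num) (by norm_num) (by norm_num) (by decide) k12_3
    | 4, _ => comm_mem_of_rel hinj (w := [0]) (by norm_num) (by norm_num) (by norm_num) (by decide) k12_4
    | 5, _ => comm_mem_of_rel hinj (w := []) (by norm_num) (by norm_num) (by norm_num) (by decide) k12_5
    | 6, _ => comm_mem_of_rel hinj (w := []) (by norm_num) (by norm_num) (by norm_num) (by decide) k12_6
    | 7, _ => comm_mem_of_rel hinj (w := []) (by norm_num) (by norm_num) (by norm_num) (by decide) k12_7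
    | 8, _ => comm_mem_of_rel hinj (w := [0, 1, 5]) (by norm_num) (by norm_num) (by norm_num) (by decide) k12_8
  exact descend hinj (k := 9) (l := 6) (a := s 12) (by norm_num) (by norm_num) h1
    (comm_notMem hinj (g := 12) (i := 9) (l := 6) (m := 6) (w := [0, 3]) (by norm_num) (by norm_num)
      (by norm_num) (by norm_num) (by decide) k12_9) hx hc

theorem d10 {x : Cfsg.Spor.HN} (hx : x ∈ Pc s 11) (hc : x * s 13 = s 13 * x) : x ∈ Pc s 10 := by
  have h1 : ∀ i < 10, s 13 * s i * (s 13)⁻¹ * (s i)⁻¹ ∈ Pc s 5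
    | 0, _ => comm_mem_of_rel hinj (w := []) (by norm_num) (by norm_num) (by norm_num) (by decide) k13_0
    | 1, _ => comm_mem_of_rel hinj (w := []) (by norm_num) (by norm_num) (by norm_num) (by decide) k13_1
    | 2, _ => comm_mem_of_rel hinj (w := [1]) (by norm_num) (by norm_num) (by norm_num) (by decide) k13_2
    | 3, _ => comm_mem_of_rel hinj (w := []) (by norm_num) (by norm_num) (by norm_num) (by decide) k13_3
    | 4, _ => comm_mem_of_rel hinj (w := []) (by norm_num) (by norm_num) (by norm_num) (by decide) k13_4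
    | 5, _ => comm_mem_of_rel hinj (w := [4]) (by norm_num) (by norm_num) (by norm_num) (by decide) k13_5
    | 6, _ => comm_mem_of_rel hinj (w := [3]) (by norm_num) (by norm_num) (by norm_num) (by decide) k13_6
    | 7, _ => comm_mem_of_rel hinj (w := []) (by norm_num) (by norm_num) (by norm_num) (by decide) k13_7
    | 8, _ => comm_mem_of_rel hinj (w := [1]) (by norm_num) (by norm_num) (by norm_num) (by decide) k13_8
    | 9, _ => comm_mem_of_rel hinj (w := [1]) (by norm_num) (by norm_num) (by norm_num) (by decide) k13_9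
  exact descend hinj (k := 10) (l := 5) (a := s 13) (by norm_num) (by norm_num) h1
    (comm_notMem hinj (g := 13) (i := 10) (l := 5) (m := 9) (w := [1]) (by norm_num) (by norm_num)
      (by norm_num) (by norm_num) (by decide) k13_10) hx hc

theorem d11 {x : Cfsg.Spor.HN} (hx : x ∈ Pc s 12) (hc : x * s 3 = s 3 * x) : x ∈ Pc s 11 := by
  have h1 : ∀ i < 11, s 3 * s i * (s 3)⁻¹ * (s i)⁻¹ ∈ Pc s 2
    | 0, _ => comm_mem_of_rel hinj (w := []) (by norm_num) (by norm_num) (by norm_num) (by decide) k3_0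
    | 1, _ => comm_mem_of_rel hinj (w := []) (by norm_num) (by norm_num) (by norm_num) (by decide) k3_1
    | 2, _ => comm_mem_of_rel hinj (w := []) (by norm_num) (by norm_num) (by norm_num) (by decide) k3_2
    | 3, _ => comm_self _ _
    | 4, _ => comm_mem_of_rel hinj (w := []) (by norm_num) (by norm_num) (by norm_num) (by decide) k3_4
    | 5, _ => comm_mem_of_rel hinj (w := [0]) (by norm_num) (by norm_num) (by norm_num) (by decide) k3_5
    | 6, _ => comm_mem_of_rel hinj (w := []) (by norm_num) (by norm_num) (by norm_num) (by decide) k3_6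
    | 7, _ => comm_mem_of_rel hinj (w := []) (by norm_num) (by norm_num) (by norm_num) (by decide) k3_7
    | 8, _ => comm_mem_of_rel hinj (w := [1]) (by norm_num) (by norm_num) (by norm_num) (by decide) k3_8
    | 9, _ => comm_mem_of_rel hinj (w := []) (by norm_num) (by norm_num) (by norm_num) (by decide) k3_9
    | 10, _ => comm_mem_of_rel hinj (w := []) (by norm_num) (by norm_num) (by norm_num) (by decide) k3_10
  exact descend hinj (k := 11) (l := 2) (a := s 3) (by norm_num) (by norm_num) h1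
    (comm_notMem hinj (g := 3) (i := 11) (l := 2) (m := 2) (w := []) (by norm_num) (by norm_num)
      (by norm_num) (by norm_num) (by decide) k3_11) hx hc

theorem d12 {x : Cfsg.Spor.HN} (hx : x ∈ Pc s 13) (hc : x * s 1 = s 1 * x) : x ∈ Pc s 12 := by
  refine descend hinj (k := 12) (l := 0) (a := s 1) (by norm_num) (by norm_num) ?_ ?_ hx hc
  · intro i hi
    have : s 1 * s i * (s 1)⁻¹ * (s i)⁻¹ = 1 := by rw [← act1 hinj i hi]; group
    rw [this]; exact one_mem _
  · intro h
    have h1 := comm_notMem hinj (g := 12) (i := 1) (l := 0) (m := 0) (w := []) (by norm_num) (by norm_num)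
      (by norm_num) (by norm_num) (by decide) k12_1
    apply h1
    have h2 : s 12 * s 1 * (s 12)⁻¹ * (s 1)⁻¹ = (s 1 * s 12 * (s 1)⁻¹ * (s 12)⁻¹)⁻¹ := by group
    rw [h2]; exact inv_mem h

theorem d13 {x : Cfsg.Spor.HN} (hx : x ∈ Pc s 14) (hc : x * s 12 = s 12 * x) : x ∈ Pc s 13 := by
  have h1 : ∀ i < 13, s 12 * s i * (s 12)⁻¹ * (s i)⁻¹ ∈ Pc s 7
    | 0, _ => comm_mem_of_rel hinj (w := []) (by norm_num) (by norm_num) (by norm_num) (by decide) k12_0
    | 1, _ => comm_mem_of_rel hinj (w := [0]) (by norm_num) (by norm_num) (by norm_num) (by decide) k12_1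
    | 2, _ => comm_mem_of_rel hinj (w := [0]) (by norm_num) (by norm_num) (by norm_num) (by decide) k12_2
    | 3, _ => comm_mem_of_rel hinj (w := [0]) (by norm_num) (by norm_num) (by norm_num) (by decide) k12_3
    | 4, _ => comm_mem_of_rel hinj (w := [0]) (by norm_num) (by norm_num) (by norm_num) (by decide) k12_4
    | 5, _ => comm_mem_of_rel hinj (w := []) (by norm_num) (by norm_num) (by norm_num) (by decide) k12_5
    | 6, _ => comm_mem_of_rel hinj (w := []) (by norm_num) (by norm_num) (by norm_num) (by decide) k12_6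
    | 7, _ => comm_mem_of_rel hinj (w := []) (by norm_num) (by norm_num) (by norm_num) (by decide) k12_7
    | 8, _ => comm_mem_of_rel hinj (w := [0, 1, 5]) (by norm_num) (by norm_num) (by norm_num) (by decide) k12_8
    | 9, _ => comm_mem_of_rel hinj (w := [0, 3, 6]) (by norm_num) (by norm_num) (by norm_num) (by decide) k12_9
    | 10, _ => comm_mem_of_rel hinj (w := [0, 1, 3]) (by norm_num) (by norm_num) (by norm_num) (by decide) k12_10
    | 11, _ => comm_mem_of_rel hinj (w := [0, 1, 2, 4, 5]) (by norm_num) (by norm_num) (by norm_num) (by decide) k12_11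
    | 12, _ => comm_self _ _
  exact descend hinj (k := 13) (l := 7) (a := s 12) (by norm_num) (by norm_num) h1
    (comm_notMem hinj (g := 12) (i := 13) (l := 7) (m := 7) (w := []) (by norm_num) (by norm_num)
      (by norm_num) (by norm_num) (by decide) k12_13) hx hc

/-- **The centre of the Sylow 2-subgroup** -/
theorem center_T {x : Cfsg.Spor.HN} (hx : x ∈ Pc s 14) (hc : ∀ y ∈ Pc s 14, x * y = y * x) : x ∈ Pc s 1 := by
  have c : ∀ i < 14, x * s i = s i * x := fun i hi => hc _ (mem_Pc hi)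
  exact d1 hinj (d2 hinj (d3 hinj (d4 hinj (d5 hinj (d6 hinj (d7 hinj (d8 hinj (d9 hinj (d10 hinj (d11 hinj
    (d12 hinj (d13 hinj hx (c 12 (by norm_num))) (c 1 (by norm_num))) (c 3 (by norm_num))) (c 13 (by norm_num)))
    (c 12 (by norm_num))) (c 12 (by norm_num))) (c 10 (by norm_num))) (c 4 (by norm_num))) (c 13 (by norm_num)))
    (c 10 (by norm_num))) (c 11 (by norm_num))) (c 13 (by norm_num))) (c 12 (by norm_num))

end

end Cfsg.Agent.KFacts.HN.SylCenter
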