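import Cfsg.Agent.KFacts.HN.PCard
import Cfsg.Agent.KFacts.HN.YTrick
import Cfsg.Agent.KFacts.HN.SylCenter

/-!
# Involutions and Sylow 2-subgroups of HN

* `sylow_center`: the centre of a Sylow 2-subgroup is generated by a conjugate of `W0`;
* `odd_index`: the centraliser of `W0` has odd index;
* `inv_class`: an involution is conjugate to `ψ τ` or to `W0` (not to both: `not_isConj`);
* `card_centralizer_τ`: `|C(ψ τ)| = 177408000`;
* `isConj_x2_of`: the involutions `u` of `C(W0)` outside of `R` with `u`, `u W0` conjugate to `W0` form one class of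
  `C(W0)`.
-/

set_option autoImplicit false

namespace Cfsg.Agent.KFacts.HN.Classes

open Cfsg.Agent.HN.Pres Cfsg.Agent.HN.P1408 Cfsg.Agent.HN.H0Basic Cfsg.Agent.HN.XMat
open Cfsg.Agent.HN.XStruct Cfsg.Agent.HN.XWords Cfsg.Agent.HN.XQuot Cfsg.Agent.HN.FusGen Cfsg.Agent.HN.XInst
open Cfsg.Agent.HN.TGroup Cfsg.Agent.HN.PC Cfsg.Agent.HN.TSyl
open Cfsg.Agent.KFacts.HN.PCard Cfsg.Agent.KFacts.HN.YTrick
open scoped commutatorElement Pointwise

theorem s0_eq : s 0 = W0 := W0_eq_t0.symm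

theorem comm_T {x : Cfsg.Spor.HN} (hx : x ∈ Pc s 14) : x * W0 = W0 * x := by
  have h := Cfsg.Agent.HN.TSyl.central hinj hx
  rw [s0_eq, commutatorElement_eq_one_iff_mul_comm] at h
  exact h

theorem T_le : Pc s 14 ≤ Subgroup.centralizer ({W0} : Set Cfsg.Spor.HN) := fun _ hx =>
  Subgroup.mem_centralizer_singleton_iff.2 (comm_T hx)

theorem W0_mem_T : W0 ∈ Pc s 14 := by rw [← s0_eq]; exact mem_Pc (by norm_num)

theorem eq_of_mem_Pc1 {x : Cfsg.Spor.HN} (hx : x ∈ Pc s 1) : x = 1 ∨ x = W0 := by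
  rcases (step hinj (k := 0) (by norm_num)).mem hx with h | h
  · rw [Pc_zero, Subgroup.mem_bot] at h
    exact Or.inl h
  · rw [Pc_zero, Subgroup.mem_bot, mul_inv_eq_one, s0_eq] at h
    exact Or.inr h

theorem card_HN : Nat.card Cfsg.Spor.HN = 273030912000000 := Cfsg.Agent.S1701.result.2

theorem fac2 : (Nat.card Cfsg.Spor.HN).factorization 2 = 14 := by
  rw [card_HN, show (273030912000000 : ℕ) = 2 ^ 14 * 16664484375 by norm_num]
  have h2 : (16664484375 : ℕ).factorization 2 = 0 := Nat.factorization_eq_zero_of_not_dvd (by norm_num)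
  rw [Nat.factorization_mul (by norm_num) (by norm_num), Nat.Prime.factorization_pow Nat.prime_two,
    Finsupp.add_apply, h2, Finsupp.single_eq_same]

instance instFinite : Finite Cfsg.Spor.HN := finite_HN

/-- the Sylow 2-subgroup -/
noncomputable def T : Sylow 2 Cfsg.Spor.HN := Sylow.ofCard (Pc s 14) (by rw [fac2]; exact card_Pc14 hinj)

theorem mem_T {x : Cfsg.Spor.HN} : x ∈ T ↔ x ∈ Pc s 14 := Iff.rfl

/-- **The centre of a Sylow 2-subgroup** -/
theorem sylow_center (S : Sylow 2 Cfsg.Spor.HN) : ∃ z : Cfsg.Spor.HN, IsConj W0 z ∧ z ∈ S ∧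
    (∀ y ∈ S, y * z = z * y) ∧ ∀ x ∈ S, (∀ y ∈ S, y * x = x * y) → x = 1 ∨ x = z := by
  obtain ⟨g, rfl⟩ := MulAction.exists_smul_eq Cfsg.Spor.HN T S
  have key : ∀ x : Cfsg.Spor.HN, x ∈ g • T ↔ g⁻¹ * x * g ∈ Pc s 14 := by
    intro x
    change x ∈ ((g • T : Sylow 2 Cfsg.Spor.HN) : Subgroup Cfsg.Spor.HN) ↔ _
    rw [Sylow.coe_subgroup_smul, Subgroup.mem_pointwise_smul_iff_inv_smul_mem]
    have e : (MulAut.conj g)⁻¹ • x = g⁻¹ * x * g := by
      rw [MulAut.smul_def, MulAut.conj_inv_apply]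
    rw [e]
    rfl
  refine ⟨g * W0 * g⁻¹, isConj_iff.2 ⟨g, rfl⟩, ?_, ?_, ?_⟩
  · rw [key]
    have e : g⁻¹ * (g * W0 * g⁻¹) * g = W0 := by group
    rw [e]
    exact W0_mem_T
  · intro y hy
    rw [key] at hy
    have h := comm_T hy
    calc y * (g * W0 * g⁻¹) = g * ((g⁻¹ * y * g) * W0) * g⁻¹ := by group
      _ = g * (W0 * (g⁻¹ * y * g)) * g⁻¹ := by rw [h]
      _ = g * W0 * g⁻¹ * y := by group
  · intro x hx hc
    rw [key] at hx
    have h1 : g⁻¹ * x * g ∈ Pc s 1 := by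
      apply SylCenter.center_T hinj hx
      intro y hy
      have hy' : g * y * g⁻¹ ∈ g • T := by
        rw [key]
        have e : g⁻¹ * (g * y * g⁻¹) * g = y := by group
        rwa [e]
      have h := hc _ hy'
      calc g⁻¹ * x * g * y = g⁻¹ * (x * (g * y * g⁻¹)) * g := by group
        _ = g⁻¹ * (g * y * g⁻¹ * x) * g := by rw [h]
        _ = y * (g⁻¹ * x * g) := by group
    rcases eq_of_mem_Pc1 h1 with h | h
    · left
      calc x = g * (g⁻¹ * x * g) * g⁻¹ := by group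
        _ = 1 := by rw [h]; group
    · right
      rw [← h]; group

/-- **The centraliser of `W0` has odd index** -/
theorem odd_index : Odd (Subgroup.centralizer ({W0} : Set Cfsg.Spor.HN)).index := by
  have h1 := (Subgroup.centralizer ({W0} : Set Cfsg.Spor.HN)).card_mul_index
  rw [card_centralizer, card_HN] at h1
  have h2 : (Subgroup.centralizer ({W0} : Set Cfsg.Spor.HN)).index = 74064375 := by omega
  rw [h2]
  decide

/-- **Classes of involutions** -/
theorem inv_class {u : Cfsg.Spor.HN} (hu : orderOf u = 2) :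
    IsConj u (Cfsg.Agent.HN.NormalH.ψ τ) ∨ IsConj u W0 := by
  have h1 : IsPGroup 2 (Subgroup.zpowers u) := IsPGroup.of_card (n := 1) (by rw [Nat.card_zpowers, hu, pow_one])
  obtain ⟨S, hS⟩ := h1.exists_le_sylow
  obtain ⟨z, hz, _, hzc, _⟩ := sylow_center S
  have h2 : u * z = z * u := hzc u (hS (Subgroup.mem_zpowers u))
  obtain ⟨c, rfl⟩ := isConj_iff.1 hz
  have h3 : (c⁻¹ * u * c) * W0 = W0 * (c⁻¹ * u * c) := by
    calc (c⁻¹ * u * c) * W0 = c⁻¹ * (u * (c * W0 * c⁻¹)) * c := by group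
      _ = c⁻¹ * (c * W0 * c⁻¹ * u) * c := by rw [h2]
      _ = W0 * (c⁻¹ * u * c) := by group
  have h4 : orderOf (c⁻¹ * u * c) = 2 := by
    have e : c⁻¹ * u * c = MulAut.conj c⁻¹ u := by rw [MulAut.conj_apply, inv_inv]
    rw [e, MulEquiv.orderOf_eq, hu]
  have h5 : IsConj u (c⁻¹ * u * c) := isConj_iff.2 ⟨c⁻¹, by group⟩
  rw [W0_eq] at h3
  have h6 := Cfsg.Agent.HN.XFinal.inv_w inst (c⁻¹ * u * c) h4 h3
  rw [← W0_eq] at h6
  exact h6.imp h5.trans h5.trans

theorem not_isConj : ¬ IsConj (Cfsg.Agent.HN.NormalH.ψ τ) W0 := by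
  rw [W0_eq]
  exact hb

theorem centralizer_τ : Subgroup.centralizer ({Cfsg.Agent.HN.NormalH.ψ τ} : Set Cfsg.Spor.HN) =
    Cfsg.Agent.HN.NormalH.H := by
  apply le_antisymm
  · intro g hg
    rw [Subgroup.mem_centralizer_singleton_iff] at hg
    obtain ⟨h, rfl⟩ := emb.cent g hg
    rw [← Cfsg.Agent.HN.NormalH.range_ψ]
    exact ⟨h, rfl⟩
  · intro g hg
    rw [← Cfsg.Agent.HN.NormalH.range_ψ] at hg
    obtain ⟨h, rfl⟩ := hg
    rw [Subgroup.mem_centralizer_singleton_iff, ← map_mul, ← map_mul, emb.comm h]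

/-- **The order of the centraliser of `ψ τ`** -/
theorem card_centralizer_τ :
    Nat.card (Subgroup.centralizer ({Cfsg.Agent.HN.NormalH.ψ τ} : Set Cfsg.Spor.HN)) = 177408000 := by
  rw [centralizer_τ]
  exact Cfsg.Agent.HN.NormalH.card_H finite_H0 card_H0_le Cfsg.Agent.HN.XSq.hx_sq_ne

/-! ### the class of `x2` in `C(W0)` -/

theorem π_ev (m : ℕ) (w : List ℕ) : π W0 (r Q m * evw Γ w) = r k m * evw γ w :=
  P_nf (θ := MonoidHom.id Cfsg.Spor.HN) m w

theorem π_evw (w : List ℕ) : π W0 (evw Γ w) = evw γ w := P_evw (θ := MonoidHom.id Cfsg.Spor.HN) w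

theorem r28 : r Q 28 * x2 = x2 * W0 * r Q 28 := by
  rw [← V_rmw, x2, W0, ← V_append, ← V_append, ← V_append]
  exact V_eq (by decide +kernel)

/-- the third representative -/
def x3 : Cfsg.Spor.HN := V x3w

theorem x3_nf : x3 = r Q 92 * evw Γ [0, 1, 0, 1, 1] := x3_eq.symm

theorem x3_comm : x3 * W0 = W0 * x3 := by
  rw [x3, W0, ← V_append, ← V_append]
  exact V_eq (by decide +kernel)

theorem isConj_x3 : IsConj (Cfsg.Agent.HN.NormalH.ψ τ) x3 := by
  have h1 : IsConj (Cfsg.Agent.HN.NormalH.ψ τ) (Cfsg.Agent.HN.NormalH.ψ gz) := hz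
  have h2 := Cfsg.Agent.HN.NormalH.ψ.map_isConj conj_e
  have h3 : Cfsg.Agent.HN.NormalH.ψ (hw x3w) = x3 := V_hw (by decide +kernel)
  rw [h3] at h2
  exact h1.trans h2

theorem mul_comm_W0 (m : ℕ) : r Q m * W0 * W0 = W0 * (r Q m * W0) := by
  rw [← mul_assoc, cwr]

theorem isConj_comm {u v s : Cfsg.Spor.HN} (h : s * u * s⁻¹ = v) : IsConj u v := isConj_iff.2 ⟨s, h⟩

/-- **The involutions `u` of `C(W0)` outside of `R` with `u ~ W0 ~ u W0` are conjugate in `C(W0)` to `x2`.** -/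
theorem isConj_x2_of {u : Cfsg.Spor.HN} (hsq : u * u = 1) (hc : u * W0 = W0 * u) (h1 : IsConj W0 u)
    (h2 : IsConj W0 (u * W0)) (hR : ∀ m < 256, u ≠ r Q m ∧ u ≠ r Q m * W0) :
    ∃ p : Cfsg.Spor.HN, p * W0 = W0 * p ∧ p * u * p⁻¹ = x2 := by
  have hsq' : π W0 u * π W0 u = 1 := by rw [← π_mul hc hc, hsq, π_one]
  have conj : ∀ (v : KK W0) (y : Cfsg.Spor.HN), y * W0 = W0 * y → v * π W0 u * v⁻¹ = π W0 y →
      ∃ s : Cfsg.Spor.HN, s * W0 = W0 * s ∧ (s * u * s⁻¹ = y ∨ s * u * s⁻¹ = y * W0) := by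
    intro v y hy hv
    obtain ⟨s, hs, rfl⟩ := π_surj v
    have h3 : π W0 (s * u * s⁻¹) = π W0 y := by
      rw [π_mul (comm_mul hs hc) (comm_inv hs), π_mul hs hc, π_inv hs, hv]
    exact ⟨s, hs, (π_eq_iff W0_sq hy (comm_mul (comm_mul hs hc) (comm_inv hs))).1 h3.symm⟩
  rcases Cfsg.Agent.HN.XClose.involution_cases hyp disj hsq' with h | ⟨v, h | h | h⟩
  · exfalso
    obtain ⟨m, hm, he⟩ := h
    have h3 : π W0 (r Q m) = r k m := P_r (θ := MonoidHom.id Cfsg.Spor.HN) m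
    rw [← h3] at he
    rcases (π_eq_iff W0_sq (cwr m).symm hc).1 he.symm with h4 | h4
    · exact (hR m hm).1 h4
    · exact (hR m hm).2 h4
  · exfalso
    have e : xi1 γ = π W0 (evw Γ [0, 2, 0, 2, 0, 2]) := (π_evw _).symm
    rw [e] at h
    obtain ⟨s, hs, h4⟩ := conj v _ (cwe _).symm h
    have h5 : (s * u * s⁻¹) * (s * u * s⁻¹) = 1 := by
      calc (s * u * s⁻¹) * (s * u * s⁻¹) = s * (u * u) * s⁻¹ := by group
        _ = 1 := by rw [hsq]; group
    have h6 : (s * u * s⁻¹) * (s * u * s⁻¹) = W0 := by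
      rcases h4 with h4 | h4
      · rw [h4, yh6]
      · rw [h4]
        have hce := cwe [0, 2, 0, 2, 0, 2]
        calc evw Γ [0, 2, 0, 2, 0, 2] * W0 * (evw Γ [0, 2, 0, 2, 0, 2] * W0)
            = evw Γ [0, 2, 0, 2, 0, 2] * (W0 * evw Γ [0, 2, 0, 2, 0, 2]) * W0 := by group
          _ = (evw Γ [0, 2, 0, 2, 0, 2] * evw Γ [0, 2, 0, 2, 0, 2]) * (W0 * W0) := by rw [hce]; group
          _ = W0 := by rw [yh6, W0_sq, mul_one]
    exact W0_ne_one (h6.symm.trans h5)
  · have e : xi2 k γ = π W0 x2 := by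
      rw [x2_eq_nf]
      exact (π_ev _ _).symm
    rw [e] at h
    obtain ⟨s, hs, h4 | h4⟩ := conj v _ x2_comm h
    · exact ⟨s, hs, h4⟩
    · refine ⟨r Q 28 * s, comm_mul (cwr 28).symm hs, ?_⟩
      have h5 : r Q 28 * (x2 * W0) = x2 * r Q 28 := by
        have hw := cwr 28
        calc r Q 28 * (x2 * W0) = (r Q 28 * x2) * W0 := by group
          _ = x2 * (W0 * r Q 28) * W0 := by rw [r28]; group
          _ = x2 * r Q 28 * (W0 * W0) := by rw [hw]; group
          _ = x2 * r Q 28 := by rw [W0_sq, mul_one]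
      calc r Q 28 * s * u * (r Q 28 * s)⁻¹ = r Q 28 * (s * u * s⁻¹) * (r Q 28)⁻¹ := by group
        _ = x2 := by rw [h4, h5, mul_inv_cancel_right]
  · exfalso
    have e : xi3 k γ = π W0 x3 := by
      rw [x3_nf]
      exact (π_ev _ _).symm
    rw [e] at h
    obtain ⟨s, hs, h4 | h4⟩ := conj v _ x3_comm h
    · exact not_isConj (isConj_x3.trans ((isConj_comm h4).symm.trans h1.symm))
    · have h5 : s * (u * W0) * s⁻¹ = x3 := by
        have hs' := comm_inv hs
        calc s * (u * W0) * s⁻¹ = s * u * (W0 * s⁻¹) := by group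
          _ = (s * u * s⁻¹) * W0 := by rw [← hs']; group
          _ = x3 * (W0 * W0) := by rw [h4]; group
          _ = x3 := by rw [W0_sq, mul_one]
      exact not_isConj (isConj_x3.trans ((isConj_comm h5).symm.trans h2.symm))

theorem x2_mul_W0 : r Q 28 * x2 * (r Q 28)⁻¹ = x2 * W0 := by rw [r28, mul_inv_cancel_right]

theorem isConj_x2W0 : IsConj W0 (x2 * W0) := isConj_x2.trans (isConj_comm x2_mul_W0)

theorem x2_notR : ∀ m < 256, x2 ≠ r Q m ∧ x2 ≠ r Q m * W0 := by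
  intro m hm
  have key : π W0 x2 ≠ r k m := by
    intro h
    have h2 : Acts k (xi2 k γ) M2 := hyp.acts_xi2
    have e : xi2 k γ = π W0 x2 := by
      rw [x2_eq_nf]
      exact (π_ev _ _).symm
    rw [e, h] at h2
    have h3 : Acts k (r k m) MI := by
      have h4 := hyp.toBas.acts_rmul (x := 1) Bas.acts_one m
      rwa [mul_one] at h4
    have h5 := hyp.toBas.acts_unique h2 h3 (i := 2) (by norm_num)
    exact absurd h5 (by decide +kernel)
  have hP : π W0 (r Q m) = r k m := P_r (θ := MonoidHom.id Cfsg.Spor.HN) m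
  constructor
  · intro h
    exact key (by rw [h, hP])
  · intro h
    exact key (by rw [h, π_mul_w W0_sq (cwr m).symm, hP])

/-- The class of `x2` in `C(W0)`: an intrinsic description -/
theorem isConj_x2_iff {u : Cfsg.Spor.HN} : (∃ p : Cfsg.Spor.HN, p * W0 = W0 * p ∧ p * u * p⁻¹ = x2) ↔
    (u * u = 1 ∧ u * W0 = W0 * u ∧ IsConj W0 u ∧ IsConj W0 (u * W0) ∧ ∀ m < 256, u ≠ r Q m ∧ u ≠ r Q m * W0) := by
  constructor
  · rintro ⟨p, hp, he⟩
    have hu : u = p⁻¹ * x2 * p := by rw [← he]; group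
    have hp' := comm_inv hp
    have hcom : u * W0 = p⁻¹ * (x2 * W0) * p := by
      rw [hu, mul_assoc _ p, hp]; group
    refine ⟨?_, ?_, ?_, ?_, ?_⟩
    · rw [hu]
      calc p⁻¹ * x2 * p * (p⁻¹ * x2 * p) = p⁻¹ * (x2 * x2) * p := by group
        _ = 1 := by rw [x2_sq]; group
    · rw [hcom, x2_comm, hu, ← mul_assoc, hp']; group
    · exact isConj_x2.trans (isConj_comm he).symm
    · refine isConj_x2W0.trans (isConj_iff.2 ⟨p⁻¹, ?_⟩)
      rw [hcom]; group
    · intro m hm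
      -- `R` is normalised by `p`
      have hX : ∀ v : Cfsg.Spor.HN, v * W0 = W0 * v → π W0 v ∈ Cfsg.Agent.HN.XStruct.R hyp.toBas →
          π W0 (p * v * p⁻¹) ∈ Cfsg.Agent.HN.XStruct.R hyp.toBas := by
        intro v hv h
        rw [π_mul (comm_mul hp hv) hp', π_mul hp hv, π_inv hp]
        obtain ⟨m1, _, w, _, w', _, hx⟩ := nf_exists (π W0 p)⁻¹
        have hA : Acts k (π W0 p)⁻¹ (mul (mw w) (mw w')) := by
          rw [hx]
          exact hyp.toBas.acts_mul (hyp.toBas.acts_rmul (hyp.toBas.acts_evw w) m1) (hyp.toBas.acts_evw w')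
        obtain ⟨j, hj, he⟩ := h
        refine ⟨app (mul (mw w) (mw w')) j, app_lt _ _, ?_⟩
        rw [he, ← hyp.toBas.acts_r hA, inv_inv]
      have hRx : π W0 x2 ∉ Cfsg.Agent.HN.XStruct.R hyp.toBas := by
        rintro ⟨j, hj, hx⟩
        have hP : π W0 (r Q j) = r k j := P_r (θ := MonoidHom.id Cfsg.Spor.HN) j
        rw [← hP] at hx
        rcases (π_eq_iff W0_sq (cwr j).symm x2_comm).1 hx.symm with h4 | h4
        · exact (x2_notR j hj).1 h4
        · exact (x2_notR j hj).2 h4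
      have hP : π W0 (r Q m) = r k m := P_r (θ := MonoidHom.id Cfsg.Spor.HN) m
      have hm' : π W0 (r Q m) ∈ Cfsg.Agent.HN.XStruct.R hyp.toBas := ⟨m, hm, hP⟩
      constructor
      · intro h
        apply hRx
        rw [← he, h]
        exact hX _ (cwr m).symm hm'
      · intro h
        apply hRx
        rw [← he, h]
        apply hX _ (mul_comm_W0 m)
        rw [π_mul_w W0_sq (cwr m).symm]
        exact hm'
  · rintro ⟨h1, h2, h3, h4, h5⟩
    exact isConj_x2_of h1 h2 h3 h4 h5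

/-- a perfect subgroup of `C(x2)` containing `W0` -/
def A5' : Subgroup Cfsg.Spor.HN := A5.map (MulAut.conj YTrick.k⁻¹).toMonoidHom

theorem W0_mem_A5' : W0 ∈ A5' := by
  refine ⟨x2, x2_mem, ?_⟩
  change YTrick.k⁻¹ * x2 * YTrick.k⁻¹⁻¹ = W0
  rw [inv_inv, mul_assoc, x2_mul_k, inv_mul_cancel_left]

theorem A5'_le : A5' ≤ Subgroup.centralizer {x2} := by
  rintro _ ⟨u, hu, rfl⟩
  have h1 := Subgroup.mem_centralizer_singleton_iff.1 (A5_le hu)
  rw [Subgroup.mem_centralizer_singleton_iff]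
  change YTrick.k⁻¹ * u * YTrick.k⁻¹⁻¹ * x2 = x2 * (YTrick.k⁻¹ * u * YTrick.k⁻¹⁻¹)
  have h2 : YTrick.k * x2 = W0 * YTrick.k := W0_mul_k.symm
  have h3 : x2 = YTrick.k⁻¹ * W0 * YTrick.k := by rw [mul_assoc, W0_mul_k, inv_mul_cancel_left]
  rw [inv_inv]
  calc YTrick.k⁻¹ * u * YTrick.k * x2 = YTrick.k⁻¹ * (u * W0) * YTrick.k := by rw [mul_assoc _ YTrick.k, h2]; group
    _ = YTrick.k⁻¹ * (W0 * u) * YTrick.k := by rw [h1]
    _ = x2 * (YTrick.k⁻¹ * u * YTrick.k) := by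
        have h4 : x2 * (YTrick.k⁻¹ * u * YTrick.k) = (YTrick.k⁻¹ * W0 * YTrick.k) * (YTrick.k⁻¹ * u * YTrick.k) := by
          rw [← h3]
        rw [h4]
        group

open scoped commutatorElement in
theorem A5'_perfect : ⁅A5', A5'⁆ = A5' := by
  rw [A5', ← Subgroup.map_commutator, A5_perfect]

end Cfsg.Agent.KFacts.HN.Classes
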