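import Cfsg.Agent.KFacts.HN.Groups

/-!
# `M` is perfect of index two in `P = C(W0)`; normal subgroups of `P` and `M`
-/

set_option autoImplicit false

namespace Cfsg.Agent.KFacts.HN

open Cfsg.Agent.HN Cfsg.Agent.HN.Pres Cfsg.Agent.HN.P1408 Cfsg.Agent.HN.H0Basic Cfsg.Agent.HN.XMat
open Cfsg.Agent.HN.XStruct Cfsg.Agent.HN.XWords Cfsg.Agent.HN.XQuot Cfsg.Agent.HN.XInst

theorem A5_perfect : ⁅(⊤ : Subgroup A5), (⊤ : Subgroup A5)⁆ = ⊤ := by
  have hn : ⁅(⊤ : Subgroup A5), (⊤ : Subgroup A5)⁆.Normal := inferInstance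
  rcases hn.eq_bot_or_eq_top with h | h
  · exfalso
    rw [Subgroup.commutator_eq_bot_iff_le_centralizer] at h
    have h1 : ∀ a : A5, a = 1 := fun a => A5_center fun b => by
      have := h (Subgroup.mem_top a)
      rw [Subgroup.mem_centralizer_iff] at this
      exact (this b (Subgroup.mem_top b)).symm
    apply aw0_ne
    rw [← φA_cyc (by norm_num), h1 ⟨_, _⟩, map_one]
  · exact h

theorem AA_perfect : ⁅AA, AA⁆ = AA := by
  have h1 : AA = (⊤ : Subgroup A5).map φA := (MonoidHom.range_eq_map φA)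
  rw [h1, ← Subgroup.map_commutator, A5_perfect]

theorem BB_perfect : ⁅BB, BB⁆ = BB := by
  have h1 : BB = (⊤ : Subgroup A5).map φB := (MonoidHom.range_eq_map φB)
  rw [h1, ← Subgroup.map_commutator, A5_perfect]

theorem LL_perfect : ⁅LL, LL⁆ = LL := by
  apply le_antisymm (Subgroup.commutator_le_left _ _)
  apply LL_le
  · rw [← AA_perfect]; exact Subgroup.commutator_mono AA_le AA_le
  · rw [← BB_perfect]; exact Subgroup.commutator_mono BB_le BB_le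

theorem comm_MM_le : ⁅MM, MM⁆ ≤ MM := Subgroup.commutator_le.2 fun _ ha _ hb =>
  MM.mul_mem (MM.mul_mem (MM.mul_mem ha hb) (MM.inv_mem ha)) (MM.inv_mem hb)

/-- `R ≤ ⁅M, M⁆` -/
theorem RS_le_comm : RS ≤ ⁅MM, MM⁆ := by
  set D := ⁅MM, MM⁆
  have hD : ∀ u ∈ MM, ∀ x ∈ D, u * x * u⁻¹ ∈ D := by
    intro u hu x hx
    have h1 : u * x * u⁻¹ * x⁻¹ ∈ D := Subgroup.commutator_mem_commutator hu (comm_MM_le hx)
    have := D.mul_mem h1 hx
    rwa [inv_mul_cancel_right] at this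
  rcases irr (N := D ⊓ RS) inf_le_right (fun u hu x hx => ⟨hD u hu x hx.1, conj_RS (MM_le_PP hu) hx.2⟩) with h | h
  · exfalso
    -- the commutator of a 3-cycle with an element of `R`
    obtain ⟨c, hc⟩ := r_conj (e_mem_PP (aw 0)) (acts_e (aw 0)) 1
    have hr : r Q 1 ∈ RS := r_mem_RS (by norm_num)
    have h1 : (evw Γ (aw 0))⁻¹ * r Q 1 * evw Γ (aw 0) * (r Q 1)⁻¹ ∈ D := by
      have := Subgroup.commutator_mem_commutator (MM.inv_mem (aw_mem (i := 0) (by norm_num))) (RS_le_MM hr)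
      rwa [commutatorElement_def, inv_inv] at this
    have h2 : (evw Γ (aw 0))⁻¹ * r Q 1 * evw Γ (aw 0) * (r Q 1)⁻¹ ∈ RS := by
      have := RS.mul_mem (conj_RS (PP.inv_mem (e_mem_PP (aw 0))) hr) (RS.inv_mem hr)
      rwa [inv_inv] at this
    have h3 := h _ ⟨h1, h2⟩
    have h4 : π W0 ((evw Γ (aw 0))⁻¹ * r Q 1 * evw Γ (aw 0) * (r Q 1)⁻¹) = 1 := by
      rcases h3 with h3 | h3 <;> rw [h3]
      · exact π_one
      · exact π_w W0_sq
    rw [hc, π_mul (comm_mul (comm_r _) (comm_sgn c)) (comm_inv (comm_r 1)), π_inv (comm_r 1),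
      π_mul (comm_r _) (comm_sgn c), π_r, π_r, mul_inv_eq_one] at h4
    have h5 : π W0 (sgn0 c) = 1 := by
      cases c
      · exact π_one
      · exact π_w W0_sq
    rw [h5, mul_one] at h4
    have h6 := hyp.toBas.r_inj (app_lt _ _) (by norm_num) h4
    revert h6
    decide +kernel
  · rw [← h]; exact inf_le_left

theorem MM_perfect : ⁅MM, MM⁆ = MM := by
  apply le_antisymm
  · exact comm_MM_le
  rintro _ ⟨u, hu, rfl⟩
  have hu' : ρ u ∈ LL := hu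
  have h1 : (⁅LL.comap ρ, LL.comap ρ⁆).map ρ = LL := by
    rw [Subgroup.map_commutator, Subgroup.map_comap_eq_self_of_surjective ρ_surj, LL_perfect]
  rw [← h1] at hu'
  obtain ⟨v, hv, hvu⟩ := hu'
  have h2 : v⁻¹ * u ∈ ρ.ker := by
    rw [MonoidHom.mem_ker, map_mul, map_inv, hvu, inv_mul_cancel]
  have h3 : (PP.subtype (v⁻¹ * u)) ∈ RS := ⟨_, h2, rfl⟩
  have h4 : PP.subtype v ∈ ⁅MM, MM⁆ := by
    have : (⁅LL.comap ρ, LL.comap ρ⁆).map PP.subtype = ⁅MM, MM⁆ := by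
      rw [Subgroup.map_commutator]; rfl
    rw [← this]
    exact ⟨v, hv, rfl⟩
  have h5 := Subgroup.mul_mem _ h4 (RS_le_comm h3)
  rwa [← map_mul, mul_inv_cancel_left] at h5

/-- `P = M ∪ M c` -/
theorem PP_or {u : Cfsg.Spor.HN} (hu : u ∈ PP) : u ∈ MM ∨ u * (evw Γ [1])⁻¹ ∈ MM := by
  rcases LL_or (ρ ⟨u, hu⟩) with h | ⟨y, hy, h⟩
  · exact Or.inl (mem_MM.2 ⟨hu, h⟩)
  · refine Or.inr (mem_MM.2 ⟨PP.mul_mem hu (PP.inv_mem (e_mem_PP _)), ?_⟩)
    have : (⟨u * (evw Γ [1])⁻¹, PP.mul_mem hu (PP.inv_mem (e_mem_PP _))⟩ : PP) =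
        ⟨u, hu⟩ * ⟨evw Γ [1], e_mem_PP _⟩⁻¹ := rfl
    rw [this, map_mul, map_inv, h, ρ_e, mul_inv_cancel_right]
    exact hy

theorem c_notMem_MM : evw Γ [1] ∉ MM := by
  intro h
  obtain ⟨h1, h2⟩ := mem_MM.1 h
  rw [ρ_e] at h2
  exact e1_notMem h2

theorem relIndex_MM : MM.relIndex PP = 2 := by
  have h1 : MM.subgroupOf PP = LL.comap ρ := by
    ext u
    rw [Subgroup.mem_subgroupOf]
    constructor
    · intro h
      obtain ⟨_, h2⟩ := mem_MM.1 h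
      exact h2
    · intro h
      exact mem_MM.2 ⟨u.2, h⟩
  rw [Subgroup.relIndex, h1, Subgroup.index_comap_of_surjective _ ρ_surj, index_LL]

end Cfsg.Agent.KFacts.HN
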