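import Cfsg.Agent.KFacts.HN.Cases
import Cfsg.Agent.KFacts.HN.Cards
import Cfsg.Agent.KFacts.HN.Perfect
import Cfsg.Agent.KFacts.HN.Classes
import Cfsg.Agent.KFacts.HN.CentTwoHN

/-!
# HN: fields of the fact sheet

* `x2_mem_MM`, `x2_notMem_RS`; `MM_inv`: the involutions of `MM` outside of `RS` are conjugate in `PP` to `x2`;
* `syl_field`, `ytrick_field`: the fields `syl`, `ytrick` of `SheetE W0 MM RS`;
* `closure_PP_n`: `⟨PP, n⟩ = HN`; `n_q2`, `n_q2_notMem`: `n` maps `Q 2 ∈ RS` to an element of `PP` outside of `MM`.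
-/

set_option autoImplicit false

namespace Cfsg.Agent.KFacts.HN.Fields

open Cfsg.Agent.HN.Pres Cfsg.Agent.HN.P1408 Cfsg.Agent.HN.H0Basic Cfsg.Agent.HN.XMat
open Cfsg.Agent.HN.XStruct Cfsg.Agent.HN.XWords Cfsg.Agent.HN.XQuot Cfsg.Agent.HN.XInst
open Cfsg.Agent.KFacts.HN.YTrick (x2 x2_sq x2_comm x2_eq_nf x2_mul_k W0_mul_k)
open Cfsg.Agent.KFacts.HN.CentTwoHN (n z' a)

theorem mem_MM_re {m : ℕ} {w : List ℕ} (h : e w ∈ LL) : r Q m * evw Γ w ∈ MM := by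
  refine mem_MM.2 ⟨PP.mul_mem (r_mem_PP m) (e_mem_PP w), ?_⟩
  rw [ρ_apply]
  change QuotientGroup.mk (s := Rk) (π W0 (r Q m * evw Γ w)) ∈ LL
  rw [π_mul (comm_r m) (comm_e w), π_r, π_e, QuotientGroup.mk_mul]
  have h1 : QuotientGroup.mk (s := Rk) (r k m) = 1 := by
    rw [QuotientGroup.eq_one_iff]
    have h2 := hyp.toBas
    refine mem_Rk.2 ⟨m % 256, Nat.mod_lt _ (by norm_num), ?_⟩
    -- only the eight low bits matter
    have h3 : ∀ n ≤ 8, rr k m n = rr k (m % 256) n := by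
      intro n
      induction n with
      | zero => intro _; rfl
      | succ n ih =>
        intro hn
        have hb : (m % 256).testBit n = m.testBit n := by
          rw [show (256 : ℕ) = 2 ^ 8 by norm_num, Nat.testBit_mod_two_pow]
          have : n < 8 := hn
          simp [this]
        rw [rr_succ, rr_succ, ih (by omega), hb]
    exact h3 8 le_rfl
  rw [h1, one_mul]
  exact h

theorem e_mem_of_MM {m : ℕ} {w : List ℕ} (h : r Q m * evw Γ w ∈ MM) (hm : m < 256) : e w ∈ LL := by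
  obtain ⟨h1, h2⟩ := mem_MM.1 h
  rw [ρ_apply] at h2
  change QuotientGroup.mk (s := Rk) (π W0 (r Q m * evw Γ w)) ∈ LL at h2
  rw [π_mul (comm_r m) (comm_e w), π_r, π_e, QuotientGroup.mk_mul] at h2
  have h3 : QuotientGroup.mk (s := Rk) (r k m) = 1 := by
    rw [QuotientGroup.eq_one_iff]
    exact mem_Rk.2 ⟨m, hm, rfl⟩
  rwa [h3, one_mul] at h2

theorem e_x2 : e [0, 1, 1, 1, 0, 0, 1] ∈ LL := by
  have h1 : e [0, 1, 1, 1, 0, 0, 1] = e [0] * (e [1, 1] * ((e [1] * (e [0] * e [0]) * (e [1])⁻¹) * e [1, 1])) := by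
    have e1 : e [0, 1, 1, 1, 0, 0, 1] = e [0] * (e [1, 1] * (e [1] * (e [0] * (e [0] * e [1])))) := by
      rw [← e_append, ← e_append, ← e_append, ← e_append, ← e_append]; rfl
    have e2 : e [1, 1] = e [1] * e [1] := by rw [← e_append]; rfl
    rw [e1, e2]; group
  rw [h1]
  exact LL.mul_mem e0_mem (LL.mul_mem e11_mem (LL.mul_mem (e1_conj_LL' (LL.mul_mem e0_mem e0_mem)) e11_mem))

theorem x2_mem_MM : x2 ∈ MM := by
  rw [x2_eq_nf]
  exact mem_MM_re e_x2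

theorem x2_notMem_RS : x2 ∉ RS := by
  intro h
  obtain ⟨m, hm, b, hb⟩ := mem_RS.1 h
  obtain ⟨h1, h2⟩ := Classes.x2_notR m hm
  cases b
  · exact h1 (by rw [hb]; exact mul_one _)
  · exact h2 hb

/-- odd words are outside of `MM` -/
theorem odd_notMem {v w : List ℕ} (hv : e v ∈ LL) (hw : e w ∈ LL) : e (v ++ ([1] ++ w)) ∉ LL := by
  intro h
  rw [e_append, e_append] at h
  have h1 := (LL.mul_mem_cancel_right hw).1 ((LL.mul_mem_cancel_left hv).1 h)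
  exact e1_notMem h1

theorem x3_notMem_MM : Classes.x3 ∉ MM := by
  intro h
  rw [Classes.x3_nf] at h
  have h1 : e ([0] ++ ([1] ++ [0, 1, 1])) ∈ LL := e_mem_of_MM h (by norm_num)
  refine odd_notMem e0_mem ?_ h1
  have h2 : e [0, 1, 1] = e [0] * e [1, 1] := by rw [← e_append]; rfl
  rw [h2]
  exact LL.mul_mem e0_mem e11_mem

/-- **The involutions of `MM` outside of `RS` form one class of `PP`.** -/
theorem MM_inv {u : Cfsg.Spor.HN} (hu : u ∈ MM) (hsq : u * u = 1) (hR : u ∉ RS) :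
    ∃ p ∈ PP, p * u * p⁻¹ = x2 := by
  have hc : u * W0 = W0 * u := mem_PP.1 (MM_le_PP hu)
  have hsq' : π W0 u * π W0 u = 1 := by rw [← π_mul hc hc, hsq, π_one]
  have conj : ∀ (v : KK W0) (y : Cfsg.Spor.HN), y * W0 = W0 * y → v * π W0 u * v⁻¹ = π W0 y →
      ∃ s : Cfsg.Spor.HN, s * W0 = W0 * s ∧ (s * u * s⁻¹ = y ∨ s * u * s⁻¹ = y * W0) := by
    intro v y hy hv
    obtain ⟨s, hs, rfl⟩ := π_surj v
    have h3 : π W0 (s * u * s⁻¹) = π W0 y := by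
      rw [π_mul (comm_mul hs hc) (comm_inv hs), π_mul hs hc, π_inv hs, hv]
    exact ⟨s, hs, (π_eq_iff W0_sq hy (comm_mul (comm_mul hs hc) (comm_inv hs))).1 h3.symm⟩
  rcases Cfsg.Agent.HN.XClose.involution_cases hyp disj hsq' with h | ⟨v, h | h | h⟩
  · exfalso
    obtain ⟨m, hm, he⟩ := h
    rw [← π_r] at he
    apply hR
    rw [mem_RS]
    rcases (π_eq_iff W0_sq (cwr m).symm hc).1 he.symm with h4 | h4
    · exact ⟨m, hm, false, h4.trans (mul_one _).symm⟩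
    · exact ⟨m, hm, true, h4⟩
  · exfalso
    have e : xi1 γ = π W0 (evw Γ [0, 2, 0, 2, 0, 2]) := (π_e _).symm
    rw [e] at h
    obtain ⟨s, hs, h4⟩ := conj v _ (cwe _).symm h
    have h5 : (s * u * s⁻¹) * (s * u * s⁻¹) = 1 := by
      calc (s * u * s⁻¹) * (s * u * s⁻¹) = s * (u * u) * s⁻¹ := by group
        _ = 1 := by rw [hsq]; group
    have h6 : (s * u * s⁻¹) * (s * u * s⁻¹) = W0 := by
      rcases h4 with h4 | h4
      · rw [h4, yh6]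
      · rw [h4]
        have hce := cwe [0, 2, 0, 2, 0, 2]
        calc evw Γ [0, 2, 0, 2, 0, 2] * W0 * (evw Γ [0, 2, 0, 2, 0, 2] * W0)
            = evw Γ [0, 2, 0, 2, 0, 2] * (W0 * evw Γ [0, 2, 0, 2, 0, 2]) * W0 := by group
          _ = (evw Γ [0, 2, 0, 2, 0, 2] * evw Γ [0, 2, 0, 2, 0, 2]) * (W0 * W0) := by rw [hce]; group
          _ = W0 := by rw [yh6, W0_sq, mul_one]
    exact W0_ne (h6.symm.trans h5)
  · have e : xi2 k γ = π W0 x2 := by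
      rw [x2_eq_nf]
      exact (Classes.π_ev _ _).symm
    rw [e] at h
    obtain ⟨s, hs, h4 | h4⟩ := conj v _ x2_comm h
    · exact ⟨s, mem_PP.2 hs, h4⟩
    · refine ⟨(r Q 28)⁻¹ * s, PP.mul_mem (PP.inv_mem (r_mem_PP 28)) (mem_PP.2 hs), ?_⟩
      have h5 := Classes.x2_mul_W0
      calc (r Q 28)⁻¹ * s * u * ((r Q 28)⁻¹ * s)⁻¹ = (r Q 28)⁻¹ * (s * u * s⁻¹) * r Q 28 := by group
        _ = (r Q 28)⁻¹ * (r Q 28 * x2 * (r Q 28)⁻¹) * r Q 28 := by rw [h4, ← h5]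
        _ = x2 := by group
  · exfalso
    have e : xi3 k γ = π W0 Classes.x3 := by
      rw [Classes.x3_nf]
      exact (Classes.π_ev _ _).symm
    rw [e] at h
    obtain ⟨s, hs, h4⟩ := conj v _ Classes.x3_comm h
    have h5 : s * u * s⁻¹ ∈ MM := conj_MM (mem_PP.2 hs) hu
    apply x3_notMem_MM
    rcases h4 with h4 | h4
    · rwa [h4] at h5
    · rw [h4] at h5
      exact (MM.mul_mem_cancel_right (RS_le_MM W0_mem_RS)).1 h5

/-- automorphisms of `MM` preserve `RS` -/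
theorem aut_RS (β : MulAut MM) {x : MM} (hx : (x : Cfsg.Spor.HN) ∈ RS) : (β x : Cfsg.Spor.HN) ∈ RS := by
  let X : Subgroup Cfsg.Spor.HN := ((RS.subgroupOf MM).map β.toMonoidHom).map MM.subtype
  have h1 : X ≤ RS := by
    apply two_group_le
    · rintro _ ⟨y, _, rfl⟩
      exact MM_le_PP y.2
    · rintro u hu _ ⟨_, ⟨y, hy, rfl⟩, rfl⟩
      refine ⟨⟨u, hu⟩ * β y * ⟨u, hu⟩⁻¹, ⟨β.symm ⟨u, hu⟩ * y * (β.symm ⟨u, hu⟩)⁻¹, ?_, ?_⟩, rfl⟩
      · have hy' : (y : Cfsg.Spor.HN) ∈ RS := hy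
        change ((β.symm ⟨u, hu⟩ * y * (β.symm ⟨u, hu⟩)⁻¹ : MM) : Cfsg.Spor.HN) ∈ RS
        exact conj_RS (MM_le_PP (β.symm ⟨u, hu⟩).2) hy'
      · change β (β.symm ⟨u, hu⟩ * y * (β.symm ⟨u, hu⟩)⁻¹) = ⟨u, hu⟩ * β y * ⟨u, hu⟩⁻¹
        rw [map_mul, map_mul, map_inv, MulEquiv.apply_symm_apply]
    · have h2 : IsPGroup 2 RS := IsPGroup.of_card (n := 9) (by rw [card_RS]; norm_num)
      exact ((h2.of_equiv (Subgroup.subgroupOfEquivOfLe RS_le_MM).symm).map _).map _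
  exact h1 ⟨β x, ⟨x, hx, rfl⟩, rfl⟩

theorem k_conj : YTrick.k * W0 * (YTrick.k)⁻¹ = x2 := by rw [← x2_mul_k, mul_inv_cancel_right]
theorem k_conj' : (YTrick.k)⁻¹ * W0 * YTrick.k = x2 := by rw [mul_assoc, W0_mul_k, inv_mul_cancel_left]

/-- **The field `ytrick`** -/
theorem ytrick_field : ∃ k : Cfsg.Spor.HN, k * W0 * k⁻¹ ∈ MM ∧ k * W0 * k⁻¹ ∉ RS ∧ ∃ hw : k⁻¹ * W0 * k ∈ MM,
    ∀ β : MulAut MM, (β ⟨W0, RS_le_MM W0_mem_RS⟩ : Cfsg.Spor.HN) = W0 →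
      ∃ p : Cfsg.Spor.HN, p * W0 = W0 * p ∧ (β ⟨k⁻¹ * W0 * k, hw⟩ : Cfsg.Spor.HN) = p * (k⁻¹ * W0 * k) * p⁻¹ := by
  refine ⟨YTrick.k, by rw [k_conj]; exact x2_mem_MM, by rw [k_conj]; exact x2_notMem_RS,
    by rw [k_conj']; exact x2_mem_MM, ?_⟩
  intro β _
  have e1 : (⟨(YTrick.k)⁻¹ * W0 * YTrick.k, by rw [k_conj']; exact x2_mem_MM⟩ : MM) = ⟨x2, x2_mem_MM⟩ :=
    Subtype.ext k_conj'
  rw [e1, k_conj']
  have h1 : (β ⟨x2, x2_mem_MM⟩ : Cfsg.Spor.HN) * (β ⟨x2, x2_mem_MM⟩ : Cfsg.Spor.HN) = 1 := by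
    have h2 : (⟨x2, x2_mem_MM⟩ : MM) * ⟨x2, x2_mem_MM⟩ = 1 := Subtype.ext x2_sq
    have h3 := congrArg β h2
    rw [map_mul, map_one] at h3
    exact congrArg Subtype.val h3
  have h2 : (β ⟨x2, x2_mem_MM⟩ : Cfsg.Spor.HN) ∉ RS := by
    intro h
    have h3 := aut_RS β⁻¹ h
    rw [MulAut.inv_apply_self] at h3
    exact x2_notMem_RS h3
  obtain ⟨p, hp, he⟩ := MM_inv (β ⟨x2, x2_mem_MM⟩).2 h1 h2
  refine ⟨p⁻¹, comm_inv (mem_PP.1 hp), ?_⟩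
  generalize (β ⟨x2, x2_mem_MM⟩ : Cfsg.Spor.HN) = u at he ⊢
  rw [← he]; group

/-- **The field `syl`** -/
theorem syl_field : ∃ S : Sylow 2 Cfsg.Spor.HN, W0 ∈ S ∧ (∀ x ∈ S, x * W0 = W0 * x) ∧
    ∀ y ∈ S, (∀ x ∈ S, x * y = y * x) → y = 1 ∨ y = W0 := by
  refine ⟨Classes.T, Classes.W0_mem_T, fun x hx => Classes.comm_T hx, ?_⟩
  intro y hy hc
  have h1 := SylCenter.center_T YTrick.hinj (x := y) hy (fun x hx => (hc x hx).symm)
  exact Classes.eq_of_mem_Pc1 h1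

/-- `⟨PP, n⟩ = HN` -/
theorem closure_PP_n : Subgroup.closure ((PP : Set Cfsg.Spor.HN) ∪ {n}) = ⊤ := by
  have h : (PP : Set Cfsg.Spor.HN) = {c : Cfsg.Spor.HN | c * W0 = W0 * c} := by
    ext c
    exact mem_PP
  rw [h]
  exact CentTwoHN.hgen

theorem n_q2 : n * Q 2 * n⁻¹ = r Q 32 * W0 * evw Γ [0, 1, 0, 1, 0, 1] := by
  rw [mul_inv_eq_iff_eq_mul, n, a, Q, Q, ← V_rmw, ← V_ew, W0, ← V_append, ← V_append, ← V_append, ← V_append,
    ← V_append]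
  exact V_eq (by decide +kernel)

theorem n_q2_mem : n * Q 2 * n⁻¹ ∈ PP := by
  rw [n_q2]
  exact PP.mul_mem (PP.mul_mem (r_mem_PP _) W0_mem_PP) (e_mem_PP _)

theorem n_q2_notMem : n * Q 2 * n⁻¹ ∉ MM := by
  rw [n_q2]
  intro h
  have hw := cwr 32
  have h1 : r Q 32 * W0 * evw Γ [0, 1, 0, 1, 0, 1] = W0 * (r Q 32 * evw Γ [0, 1, 0, 1, 0, 1]) := by
    rw [← hw, mul_assoc]
  rw [h1] at h
  have h2 := (MM.mul_mem_cancel_left (RS_le_MM W0_mem_RS)).1 h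
  have h3 : e ([0] ++ ([1] ++ [0, 1, 0, 1])) ∈ LL := e_mem_of_MM h2 (by norm_num)
  refine odd_notMem e0_mem ?_ h3
  have h4 : e [0, 1, 0, 1] = e [0] * ((e [1] * e [0] * (e [1])⁻¹) * e [1, 1]) := by
    have e1 : e [0, 1, 0, 1] = e [0] * (e [1] * (e [0] * e [1])) := by
      rw [← e_append, ← e_append, ← e_append]; rfl
    have e2 : e [1, 1] = e [1] * e [1] := by rw [← e_append]; rfl
    rw [e1, e2]; group
  rw [h4]
  exact LL.mul_mem e0_mem (LL.mul_mem (e1_conj_LL' e0_mem) e11_mem)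

theorem q2_z' : Q 2 * z' = z' * Q 2 := CentTwoHN.q_z' (by norm_num)

end Cfsg.Agent.KFacts.HN.Fields
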