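import Cfsg.Agent.KFacts.HN.Outer

/-!
# No element acts on `C_R(z')/⟨W0⟩` as a transvection with centre `z'`

`z' = r Q 3`. `no_tr`: an element `s ∈ C(W0)` with `s r s⁻¹ ∈ {r, r W0 z'}` for all `r ∈ C_R(z')` centralises `C_R(z')`.
-/

set_option autoImplicit false
set_option Elab.async false

namespace Cfsg.Agent.KFacts.HN

open Cfsg.Agent.HN Cfsg.Agent.HN.Pres Cfsg.Agent.HN.P1408 Cfsg.Agent.HN.H0Basic Cfsg.Agent.HN.XMat
open Cfsg.Agent.HN.XStruct Cfsg.Agent.HN.XWords Cfsg.Agent.HN.XQuot Cfsg.Agent.HN.XInst Cfsg.Agent.HN.FusGen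
open Cfsg.Agent.SporadicA.PermTab (band_eq_true allB allB_iff)

/-- commuting with `r Q 3` -/
theorem comm_three {i : ℕ} (hi : i < 8) : Q i * r Q 3 = r Q 3 * Q i * sgn0 ((Bm 0).testBit i ^^ (Bm 1).testBit i) := by
  have e3 : r Q 3 = Q 0 * Q 1 := by
    change 1 * (if (3 : ℕ).testBit 0 = true then Q 0 else 1) * (if (3 : ℕ).testBit 1 = true then Q 1 else 1) *
      (if (3 : ℕ).testBit 2 = true then Q 2 else 1) * (if (3 : ℕ).testBit 3 = true then Q 3 else 1) *
      (if (3 : ℕ).testBit 4 = true then Q 4 else 1) * (if (3 : ℕ).testBit 5 = true then Q 5 else 1) *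
      (if (3 : ℕ).testBit 6 = true then Q 6 else 1) * (if (3 : ℕ).testBit 7 = true then Q 7 else 1) = _
    simp [show (3 : ℕ).testBit 0 = true by decide, show (3 : ℕ).testBit 1 = true by decide,
      show (3 : ℕ).testBit 2 = false by decide, show (3 : ℕ).testBit 3 = false by decide,
      show (3 : ℕ).testBit 4 = false by decide, show (3 : ℕ).testBit 5 = false by decide,
      show (3 : ℕ).testBit 6 = false by decide, show (3 : ℕ).testBit 7 = false by decide]
  have h0 := Q_comm hi (j := 0) (by norm_num)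
  have h1 := Q_comm hi (j := 1) (by norm_num)
  have h2 := cws (i := 1) (by norm_num) ((Bm 0).testBit i)
  rw [e3]
  calc Q i * (Q 0 * Q 1) = Q i * Q 0 * Q 1 := by group
    _ = Q 0 * Q i * (sgn0 ((Bm 0).testBit i) * Q 1) := by rw [h0]; group
    _ = Q 0 * (Q i * Q 1) * sgn0 ((Bm 0).testBit i) := by rw [h2]; group
    _ = Q 0 * Q 1 * Q i * (sgn0 ((Bm 1).testBit i) * sgn0 ((Bm 0).testBit i)) := by rw [h1]; group
    _ = _ := by rw [sgn0_mul, Bool.xor_comm]

/-- the sign of the commutator of `r Q m` (first `n` bits) and `r Q 3` -/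
def f3 (m n : ℕ) : Bool := Nat.rec false (fun i acc => acc ^^ (m.testBit i && ((Bm 0).testBit i ^^ (Bm 1).testBit i))) n

theorem comm_rr_three (m : ℕ) : ∀ n ≤ 8, rr Q m n * r Q 3 = r Q 3 * rr Q m n * sgn0 (f3 m n) := by
  intro n
  induction n with
  | zero =>
    intro _
    change 1 * r Q 3 = r Q 3 * 1 * 1
    rw [one_mul, mul_one, mul_one]
  | succ n ih =>
    intro hn
    have h1 := ih (by omega)
    have e : f3 m (n + 1) = (f3 m n ^^ (m.testBit n && ((Bm 0).testBit n ^^ (Bm 1).testBit n))) := rfl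
    rw [rr_succ, e]
    cases hb : m.testBit n
    · simp only [Bool.false_eq_true, if_false, mul_one, Bool.false_and, Bool.xor_false]
      exact h1
    · simp only [if_true, Bool.true_and]
      have h2 := comm_three (i := n) (by omega)
      set c := (Bm 0).testBit n ^^ (Bm 1).testBit n
      have h3 := cws (i := n) (by omega) (f3 m n)
      calc rr Q m n * Q n * r Q 3 = rr Q m n * (Q n * r Q 3) := by group
        _ = rr Q m n * r Q 3 * Q n * sgn0 c := by rw [h2]; group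
        _ = r Q 3 * rr Q m n * (sgn0 (f3 m n) * Q n) * sgn0 c := by rw [h1]; group
        _ = r Q 3 * (rr Q m n * Q n) * (sgn0 (f3 m n) * sgn0 c) := by rw [h3]; group
        _ = _ := by rw [sgn0_mul]

theorem comm_r_three (m : ℕ) : r Q m * r Q 3 = r Q 3 * r Q m * sgn0 (f3 m 8) := comm_rr_three m 8 le_rfl

theorem sgn_inj {b : Bool} (h : sgn0 b = 1) : b = false := by
  cases b
  · rfl
  · exact absurd h W0_ne

theorem f3_of_comm {m : ℕ} (h : r Q m * r Q 3 = r Q 3 * r Q m) : f3 m 8 = false := by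
  have h1 := comm_r_three m
  rw [h] at h1
  exact sgn_inj (mul_eq_left.1 h1.symm)

theorem chk_f3 : allB (fun m => Bool.or (f3 m 8) (Nat.beq m (Nat.xor (Nat.land m 63) (cond (m.testBit 6) 192 0)))) 256
    = true := by decide +kernel

theorem chk_f3' : f3 4 8 = false ∧ f3 5 8 = false ∧ f3 6 8 = false ∧ f3 16 8 = false ∧ f3 24 8 = false ∧
    f3 36 8 = false ∧ f3 196 8 = false := by decide +kernel

theorem comm_of_f3 {m : ℕ} (h : f3 m 8 = false) : r Q m * r Q 3 = r Q 3 * r Q m := by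
  have h1 := comm_r_three m
  rw [h] at h1
  exact h1.trans (mul_one _)

/-- **no transvections** -/
theorem no_tr {s : Cfsg.Spor.HN} (hs : s ∈ PP)
    (h : ∀ x ∈ RS, x * r Q 3 = r Q 3 * x → s * x * s⁻¹ = x ∨ s * x * s⁻¹ = x * (W0 * r Q 3)) :
    ∀ x ∈ RS, x * r Q 3 = r Q 3 * x → s * x * s⁻¹ = x := by
  have hsg : ∀ b, s * sgn0 b * s⁻¹ = sgn0 b := by
    intro b
    rw [sgn_comm b hs, mul_inv_cancel_right]
  -- masks
  have hadd : ∀ a b, s * r Q a * s⁻¹ = r Q a → s * r Q b * s⁻¹ = r Q b → s * r Q (a ^^^ b) * s⁻¹ = r Q (a ^^^ b) := by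
    intro a b ha hb
    obtain ⟨c, hc⟩ := r_mul (a := a) (b := b)
    have h1 : r Q (a ^^^ b) = r Q a * r Q b * sgn0 c := by
      rw [hc, mul_assoc, sgn0_mul, Bool.xor_self]; exact (mul_one _).symm
    rw [h1]
    calc s * (r Q a * r Q b * sgn0 c) * s⁻¹ = (s * r Q a * s⁻¹) * (s * r Q b * s⁻¹) * (s * sgn0 c * s⁻¹) := by group
      _ = r Q a * r Q b * sgn0 c := by rw [ha, hb, hsg]
  have hzero : s * r Q 0 * s⁻¹ = r Q 0 := by
    rw [show r Q 0 = 1 from Bas.r_zero]; group
  have htr : ∀ m, ∃ c : Bool, r Q m * (W0 * r Q 3) = r Q (m ^^^ 3) * sgn0 c := by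
    intro m
    obtain ⟨c, hc⟩ := r_mul (a := m) (b := 3)
    refine ⟨c ^^ true, ?_⟩
    rw [← sgn0_mul, ← comm_r 3, ← mul_assoc, hc, mul_assoc]
    rfl
  -- masks whose colour differs from the colour of `m ^^^ 3`
  have hDS : ∀ m < 256, f3 m 8 = false → (CD.testBit m = true ∧ CS.testBit (m ^^^ 3) = true) →
      s * r Q m * s⁻¹ = r Q m := by
    intro m hm hf hc
    rcases h _ (r_mem_RS' m) (comm_of_f3 hf) with h1 | h1
    · exact h1
    exfalso
    obtain ⟨c, hc'⟩ := htr m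
    rw [hc'] at h1
    have h2 : IsConj (r Q m) (r Q (m ^^^ 3) * sgn0 c) := isConj_iff.2 ⟨s, h1⟩
    have h3 := kind_D hm hc.1 false
    rw [show sgn0 false = 1 from rfl, mul_one] at h3
    exact not_conj_QW ((h3.trans h2).trans
      (kind_S (Nat.xor_lt_two_pow (n := 8) hm (by norm_num)) hc.2 c).symm)
  have hSD : ∀ m < 256, f3 m 8 = false → (CS.testBit m = true ∧ CD.testBit (m ^^^ 3) = true) →
      s * r Q m * s⁻¹ = r Q m := by
    intro m hm hf hc
    rcases h _ (r_mem_RS' m) (comm_of_f3 hf) with h1 | h1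
    · exact h1
    exfalso
    obtain ⟨c, hc'⟩ := htr m
    rw [hc'] at h1
    have h2 : IsConj (r Q m) (r Q (m ^^^ 3) * sgn0 c) := isConj_iff.2 ⟨s, h1⟩
    have h3 := kind_S hm hc.1 false
    rw [show sgn0 false = 1 from rfl, mul_one] at h3
    exact not_conj_QW ((h3.trans h2).trans
      (kind_D (Nat.xor_lt_two_pow (n := 8) hm (by norm_num)) hc.2 c).symm).symm
  have hdif : ∀ m < 256, f3 m 8 = false → ((CD.testBit m = true ∧ CS.testBit (m ^^^ 3) = true) ∨
      (CS.testBit m = true ∧ CD.testBit (m ^^^ 3) = true)) → s * r Q m * s⁻¹ = r Q m := by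
    intro m hm hf hc
    rcases hc with hc | hc
    · exact hDS m hm hf hc
    · exact hSD m hm hf hc
  obtain ⟨f4, f5, f6, f16, f24, f36, f196⟩ := chk_f3'
  have d4 := hdif 4 (by norm_num) f4 (by decide +kernel)
  have d5 := hdif 5 (by norm_num) f5 (by decide +kernel)
  have d6 := hdif 6 (by norm_num) f6 (by decide +kernel)
  have d16 := hdif 16 (by norm_num) f16 (by decide +kernel)
  have d24 := hdif 24 (by norm_num) f24 (by decide +kernel)
  have d36 := hdif 36 (by norm_num) f36 (by decide +kernel)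
  have d196 := hdif 196 (by norm_num) f196 (by decide +kernel)
  have d1 : s * r Q 1 * s⁻¹ = r Q 1 := hadd 4 5 d4 d5
  have d2 : s * r Q 2 * s⁻¹ = r Q 2 := hadd 4 6 d4 d6
  have d8 : s * r Q 8 * s⁻¹ = r Q 8 := hadd 16 24 d16 d24
  have d32 : s * r Q 32 * s⁻¹ = r Q 32 := hadd 4 36 d4 d36
  have d192 : s * r Q 192 * s⁻¹ = r Q 192 := hadd 4 196 d4 d196
  have hbit : ∀ i < 6, s * r Q (2 ^ i) * s⁻¹ = r Q (2 ^ i) := by
    intro i hi
    interval_cases i
    · exact d1
    · exact d2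
    · exact d4
    · exact d8
    · exact d16
    · exact d32
  have hlow : ∀ n ≤ 6, ∀ m, s * r Q (m % 2 ^ n) * s⁻¹ = r Q (m % 2 ^ n) := by
    intro n
    induction n with
    | zero => intro _ m; rw [pow_zero, Nat.mod_one]; exact hzero
    | succ n ih =>
      intro hn m
      rw [mod_succ]
      refine hadd _ _ (ih (by omega) m) ?_
      split
      · exact hbit n (by omega)
      · exact hzero
  intro x hx hxc
  obtain ⟨m, hm, b, rfl⟩ := mem_RS.1 hx
  have hf : f3 m 8 = false := by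
    apply f3_of_comm
    have h1 := sgn_comm b (r_mem_PP 3)
    have h2 : r Q m * r Q 3 * sgn0 b = r Q 3 * r Q m * sgn0 b := by
      calc r Q m * r Q 3 * sgn0 b = r Q m * (sgn0 b * r Q 3) := by rw [← h1]; group
        _ = r Q 3 * r Q m * sgn0 b := by rw [← mul_assoc, hxc]; group
    exact mul_right_cancel h2
  have h1 := (allB_iff _ _).1 chk_f3 m hm
  rw [hf] at h1
  have h2 : m = (m &&& 63) ^^^ (cond (m.testBit 6) 192 0) := Nat.eq_of_beq_eq_true h1
  have h3 : m &&& 63 = m % 2 ^ 6 := Nat.and_two_pow_sub_one_eq_mod m 6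
  have h4 : s * r Q m * s⁻¹ = r Q m := by
    rw [h2, h3]
    refine hadd _ _ (hlow 6 le_rfl m) ?_
    cases m.testBit 6
    · exact hzero
    · exact d192
  calc s * (r Q m * sgn0 b) * s⁻¹ = (s * r Q m * s⁻¹) * (s * sgn0 b * s⁻¹) := by group
    _ = r Q m * sgn0 b := by rw [h4, hsg]

end Cfsg.Agent.KFacts.HN
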