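import Cfsg.Agent.KFacts.HN.Large
import Cfsg.Agent.KFacts.HN.Fields
import Cfsg.Agent.KFacts.LargeIndexTwo
import Cfsg.Agent.KFacts.HN.NoTr

/-!
# Automorphisms of the presented Harada-Norton group trivial on `R/⟨W0⟩`
-/

set_option autoImplicit false

namespace Cfsg.Agent.KFacts.HN

open Cfsg.Agent.HN Cfsg.Agent.HN.XStruct Cfsg.Agent.HN.XWords Cfsg.Agent.HN.XQuot
open Cfsg.Agent.KFacts.HN.CentTwoHN (z' n n_W0 n_z')

theorem hidx {c d : Cfsg.Spor.HN} (hc : c ∈ PP) (hd : d ∈ PP) (hcM : c ∉ MM) (hdM : d ∉ MM) : c⁻¹ * d ∈ MM := by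
  have h1 := (PP_or hc).resolve_left hcM
  have h2 := (PP_or hd).resolve_left hdM
  have h3 := MM.mul_mem (MM.inv_mem h1) h2
  have h4 := conj_MM (PP.inv_mem (e_mem_PP [1])) h3
  have e : (evw XWords.Γ [1])⁻¹ * ((c * (evw XWords.Γ [1])⁻¹)⁻¹ * (d * (evw XWords.Γ [1])⁻¹)) *
      (evw XWords.Γ [1])⁻¹⁻¹ = c⁻¹ * d := by group
  rwa [e] at h4

/-- **automorphisms fixing `W0` and trivial on `R/⟨W0⟩`** -/
theorem aut0 {α : MulAut Cfsg.Spor.HN} (hz : α W0 = W0)
    (ht : ∀ x ∈ RS, α x = x ∨ α x = x * W0) : ∃ y ∈ RS, α = MulAut.conj y := by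
  have := finite_HN
  refine LargeIndexTwo.aut0 large MM_perfect (fun u hu => mem_PP.1 (MM_le_PP hu))
    (fun c d hc hd => hidx (mem_PP.2 hc) (mem_PP.2 hd)) (n := n) (z' := z') (r0 := Q 2) ?_ ?_ ?_ ?_
    CentTwoHN.hgen (Q_mem_RS (by norm_num)) Fields.q2_z' Fields.n_q2_notMem
    (fun s hs => no_tr (mem_PP.2 hs)) hz ht
  · rw [n_W0, mul_inv_cancel_right]
  · rw [n_z', mul_inv_cancel_right]
  · exact r_mem_RS (by norm_num)
  · exact fun h => CentTwoHN.z'_ne h.symm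

/-- **automorphisms of 2-power order fixing `W0` and trivial on `M/R`** -/
theorem aut_field (α : MulAut Cfsg.Spor.HN) (hp : IsPGroup 2 (Subgroup.zpowers α)) (hz : α W0 = W0)
    (hM : ∀ x ∈ MM, x⁻¹ * α x ∈ RS) : ∃ y ∈ RS, α = MulAut.conj y := by
  have := finite_HN
  exact aut0 hz (LargeIndexTwo.triv_of_two large (fun u hu => mem_PP.1 (MM_le_PP hu)) RS_le_MM
    (fun N h1 h2 => irr h1 h2) exists_noncentral hp hz hM)

theorem aut0_prop : Aut0 := fun _ hz ht => aut0 hz ht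

/-- an automorphism centralising `M` is `1` or the conjugation by `W0` -/
theorem cent_MM {α : MulAut Cfsg.Spor.HN} (hα : ∀ x ∈ MM, α x = x) :
    α = 1 ∨ α = MulAut.conj W0 := by
  obtain ⟨y, hy, rfl⟩ := aut0 (hα _ (RS_le_MM W0_mem_RS)) (fun x hx => Or.inl (hα x (RS_le_MM hx)))
  rcases cent_RS (x := y) (fun x hx => by
    have := hα x (RS_le_MM hx)
    rw [MulAut.conj_apply] at this
    exact mul_inv_eq_iff_eq_mul.1 this) with h | h
  · left; rw [h, map_one]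
  · right; rw [h]

/-- `M` is the last term of the derived series of `C(W0)` -/
theorem comm_le_MM {a b : Cfsg.Spor.HN} (ha : a ∈ PP) (hb : b ∈ PP) : a * b * a⁻¹ * b⁻¹ ∈ MM := by
  by_cases haM : a ∈ MM
  · have h1 := conj_MM hb (MM.inv_mem haM)
    have h2 := MM.mul_mem haM h1
    have e : a * (b * a⁻¹ * b⁻¹) = a * b * a⁻¹ * b⁻¹ := by group
    rwa [e] at h2
  · by_cases hbM : b ∈ MM
    · have h1 := conj_MM ha hbM
      exact MM.mul_mem h1 (MM.inv_mem hbM)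
    · have h1 : a * b ∈ MM := by
        have := hidx (PP.inv_mem ha) hb (fun h => haM (by simpa using MM.inv_mem h)) hbM
        rwa [inv_inv] at this
      have h2 : a⁻¹ * b⁻¹ ∈ MM := hidx ha (PP.inv_mem hb) haM (fun h => hbM (by simpa using MM.inv_mem h))
      have h3 := MM.mul_mem h1 h2
      have e : a * b * (a⁻¹ * b⁻¹) = a * b * a⁻¹ * b⁻¹ := by group
      rwa [e] at h3

end Cfsg.Agent.KFacts.HN
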