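import Cfsg.Agent.KFacts.HN.Perfect

/-!
# Normal subgroups of `P = C(W0)` and `M`; orders
-/

set_option autoImplicit false

namespace Cfsg.Agent.KFacts.HN

open Cfsg.Agent.HN Cfsg.Agent.HN.Pres Cfsg.Agent.HN.P1408 Cfsg.Agent.HN.H0Basic Cfsg.Agent.HN.XMat
open Cfsg.Agent.HN.XStruct Cfsg.Agent.HN.XWords Cfsg.Agent.HN.XQuot Cfsg.Agent.HN.XInst
open Cfsg.Agent.Lib.AltCarmichael (cyc cyc_mem)

theorem LL_le_of_normal {N : Subgroup Lq} [hn : N.Normal] (hN : N ≠ ⊥) : LL ≤ N := by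
  have h1 : AA ≤ N ∧ BB ≤ N := by
    rcases A_or_B_le (N := N) (fun l _ n h => hn.conj_mem n h l) hN with h | h
    · refine ⟨h, ?_⟩
      rintro _ ⟨a, rfl⟩
      rw [φB_apply]
      have := hn.conj_mem _ (h ⟨a, rfl⟩) (e [1])⁻¹
      rwa [inv_inv] at this
    · refine ⟨?_, h⟩
      rintro _ ⟨a, rfl⟩
      have h2 : φA a = e [1] * φB a * (e [1])⁻¹ := by rw [φB_apply]; group
      rw [h2]
      exact hn.conj_mem _ (h ⟨a, rfl⟩) _
  exact LL_le h1.1 h1.2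

/-- image of a subgroup in `(A5 × A5).2` -/
noncomputable def img (X : Subgroup Cfsg.Spor.HN) : Subgroup Lq := (X.subgroupOf PP).map ρ

theorem mem_img {X : Subgroup Cfsg.Spor.HN} {y : Lq} : y ∈ img X ↔ ∃ (x : Cfsg.Spor.HN) (h : x ∈ PP), x ∈ X ∧ ρ ⟨x, h⟩ = y := by
  constructor
  · rintro ⟨u, hu, rfl⟩
    exact ⟨u, u.2, hu, rfl⟩
  · rintro ⟨x, h, hx, rfl⟩
    exact ⟨⟨x, h⟩, hx, rfl⟩

theorem le_RS_of_img {X : Subgroup Cfsg.Spor.HN} (hX : X ≤ PP) (h : img X = ⊥) : X ≤ RS := by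
  intro x hx
  have : ρ ⟨x, hX hx⟩ ∈ img X := mem_img.2 ⟨x, hX hx, hx, rfl⟩
  rw [h, Subgroup.mem_bot] at this
  exact ⟨⟨x, hX hx⟩, this, rfl⟩

/-- an element acting as a 3-cycle does not centralise `R/⟨W0⟩` -/
theorem not_triv {x : Cfsg.Spor.HN} (hx : x ∈ PP) {w : List ℕ} (hw : ρ ⟨x, hx⟩ = e w) {m : ℕ} (hm : m < 256)
    (hne : app (mw w) m ≠ m) : ¬ (x⁻¹ * r Q m * x * (r Q m)⁻¹ = 1 ∨ x⁻¹ * r Q m * x * (r Q m)⁻¹ = W0) := by
  intro h3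
  have hP : Acts k (π W0 x) (mw w) := by
    rw [ρ_apply] at hw
    have h4 : (π W0 x)⁻¹ * evw γ w ∈ Rk := QuotientGroup.eq.1 hw
    have h0 := normal_Rk.conj_mem _ (Rk.inv_mem h4) (π W0 x)
    obtain ⟨j, hj, h1⟩ := mem_Rk.1 h0
    have h5 : π W0 x = r k j * evw γ w := by rw [← h1]; group
    rw [h5]
    exact hyp.toBas.acts_rmul (hyp.toBas.acts_evw w) j
  obtain ⟨c, hc⟩ := r_conj hx hP m
  have h4 : π W0 (x⁻¹ * r Q m * x * (r Q m)⁻¹) = 1 := by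
    rcases h3 with h3 | h3 <;> rw [h3]
    · exact π_one
    · exact π_w W0_sq
  rw [hc, π_mul (comm_mul (comm_r _) (comm_sgn c)) (comm_inv (comm_r m)), π_inv (comm_r m),
    π_mul (comm_r _) (comm_sgn c), π_r, π_r, mul_inv_eq_one] at h4
  have h5 : π W0 (sgn0 c) = 1 := by
    cases c
    · exact π_one
    · exact π_w W0_sq
  rw [h5, mul_one] at h4
  exact hne (hyp.toBas.r_inj (app_lt _ _) hm h4)

/-- **normal subgroups of `P`** -/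
theorem normal_cases {X : Subgroup Cfsg.Spor.HN} (hX : X ≤ PP) (hn : ∀ u ∈ PP, ∀ x ∈ X, u * x * u⁻¹ ∈ X) :
    X ≤ RS ∨ MM ≤ X := by
  by_cases h0 : img X = ⊥
  · exact Or.inl (le_RS_of_img hX h0)
  right
  have hnor : (img X).Normal := by
    refine ⟨fun y hy g => ?_⟩
    obtain ⟨x, h, hx, rfl⟩ := mem_img.1 hy
    obtain ⟨u, rfl⟩ := ρ_surj g
    exact mem_img.2 ⟨_, PP.mul_mem (PP.mul_mem u.2 h) (PP.inv_mem u.2), hn _ u.2 _ hx, rfl⟩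
  have h1 : LL ≤ img X := LL_le_of_normal h0
  -- `R ≤ X`
  have hR : RS ≤ X := by
    rcases irr (N := X ⊓ RS) inf_le_right
      (fun u hu x hx => ⟨hn u (MM_le_PP hu) x hx.1, conj_RS (MM_le_PP hu) hx.2⟩) with h | h
    · exfalso
      obtain ⟨x, hxP, hxX, hx⟩ := mem_img.1 (h1 (show e (aw 0) ∈ LL by
        rw [← φA_cyc (by norm_num)]; exact A_mem _))
      refine not_triv hxP hx (m := 1) (by norm_num) (by decide +kernel) (h _ ⟨?_, ?_⟩)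
      · have h2 := hn _ (r_mem_PP 1) _ hxX
        have h3 := X.mul_mem (X.inv_mem hxX) h2
        rwa [← mul_assoc, ← mul_assoc] at h3
      · have h2 := conj_RS (PP.inv_mem hxP) (r_mem_RS (m := 1) (by norm_num))
        rw [inv_inv] at h2
        exact RS.mul_mem h2 (RS.inv_mem (r_mem_RS (by norm_num)))
    · rw [← h]; exact inf_le_left
  intro x hx
  obtain ⟨hxP, hxL⟩ := mem_MM.1 hx
  obtain ⟨y, hyP, hyX, hy⟩ := mem_img.1 (h1 hxL)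
  have h2 : y⁻¹ * x ∈ RS := by
    refine ⟨⟨y, hyP⟩⁻¹ * ⟨x, hxP⟩, ?_, rfl⟩
    change ρ _ = 1
    rw [map_mul, map_inv, hy, inv_mul_cancel]
  have h3 := X.mul_mem hyX (hR h2)
  rwa [mul_inv_cancel_left] at h3

/-- a 2-subgroup of `P` normalised by `M` lies in `R` -/
theorem two_group_le {X : Subgroup Cfsg.Spor.HN} (hX : X ≤ PP) (hn : ∀ u ∈ MM, ∀ x ∈ X, u * x * u⁻¹ ∈ X)
    (hp : IsPGroup 2 X) : X ≤ RS := by
  by_cases h0 : img X = ⊥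
  · exact le_RS_of_img hX h0
  exfalso
  have hnor : ∀ l ∈ LL, ∀ y ∈ img X, l * y * l⁻¹ ∈ img X := by
    intro l hl y hy
    obtain ⟨x, h, hx, rfl⟩ := mem_img.1 hy
    obtain ⟨u, rfl⟩ := ρ_surj l
    exact mem_img.2 ⟨_, PP.mul_mem (PP.mul_mem u.2 h) (PP.inv_mem u.2), hn _ (mem_MM.2 ⟨u.2, hl⟩) _ hx, rfl⟩
  have hpi : IsPGroup 2 (img X) := by
    rintro ⟨y, hy⟩
    obtain ⟨x, h, hx, rfl⟩ := mem_img.1 hy
    obtain ⟨j, hj⟩ := hp ⟨x, hx⟩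
    refine ⟨j, Subtype.ext ?_⟩
    have h1 : x ^ 2 ^ j = 1 := congrArg Subtype.val hj
    change ρ ⟨x, h⟩ ^ 2 ^ j = 1
    rw [← map_pow]
    have : (⟨x, h⟩ : PP) ^ 2 ^ j = 1 := Subtype.ext h1
    rw [this, map_one]
  have h3 : ∀ φ : A5 →* Lq, Function.Injective φ → ¬ φ.range ≤ img X := by
    intro φ hφ hle
    set a : A5 := ⟨cyc 3 0, cyc_mem 3 0 (by norm_num)⟩
    have ha3 : a ^ 3 = 1 := Subtype.ext ((Lib.AltCarmichael.rel_cyc 3).cube 0 (by norm_num))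
    have ha1 : a ≠ 1 := by
      intro h
      apply aw0_ne
      rw [← φA_cyc (by norm_num)]
      change φA a = 1
      rw [h, map_one]
    obtain ⟨j, hj⟩ := hpi ⟨φ a, hle ⟨a, rfl⟩⟩
    have h4 : φ a ^ 2 ^ j = 1 := congrArg Subtype.val hj
    rw [← map_pow] at h4
    have h5 : a ^ 2 ^ j = 1 := hφ (by rw [h4, map_one])
    have h6 : orderOf a = 3 := orderOf_eq_prime ha3 ha1
    have h7 : 3 ∣ 2 ^ j := by rw [← h6]; exact orderOf_dvd_of_pow_eq_one h5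
    have h8 := Nat.Prime.dvd_of_dvd_pow (by norm_num : Nat.Prime 3) h7
    omega
  rcases A_or_B_le hnor h0 with h | h
  · exact h3 φA φA_inj h
  · exact h3 φB φB_inj h

end Cfsg.Agent.KFacts.HN
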