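import Cfsg.Agent.KFacts.HN.Lin
import Cfsg.Agent.KFacts.HN.Cases

/-!
# The colours of the elements of `R` and the action of automorphisms fixing `W0`

Elements of `R` with masks in `CD` are conjugate to `Q 0 = τ`, those with masks in `CS` to `W0`, those with masks in `CF`
have square `W0`. `no_tr`: an element mapping each `r ∈ C_R(z')`, `z' = r Q 3`, to `r` or `r W0 z'` centralises `C_R(z')`.
-/

set_option autoImplicit false
set_option Elab.async false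

namespace Cfsg.Agent.KFacts.HN

open Cfsg.Agent.HN Cfsg.Agent.HN.Pres Cfsg.Agent.HN.P1408 Cfsg.Agent.HN.H0Basic Cfsg.Agent.HN.XMat
open Cfsg.Agent.HN.XStruct Cfsg.Agent.HN.XWords Cfsg.Agent.HN.XQuot Cfsg.Agent.HN.XInst Cfsg.Agent.HN.FusGen
open Cfsg.Agent.SporadicA.PermTab (band_eq_true allB allB_iff)

/-- `τ = Q 0` and `W0` are not conjugate -/
theorem not_conj_QW : ¬ IsConj (Q 0) W0 := by
  have h := inst.not_t_w
  have h1 := inst.t_eq
  change ¬ IsConj (NormalH.ψ τ) W0 at h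
  change Q 0 = NormalH.ψ τ at h1
  rwa [h1]

theorem sgn_comm (b : Bool) {u : Cfsg.Spor.HN} (hu : u ∈ PP) : u * sgn0 b = sgn0 b * u := csg b u (mem_PP.1 hu)

/-- conjugation of an element of `R` with sign by a letter -/
theorem conj_step {A : Cfsg.Spor.HN} {p : ℕ} (h : ∀ b, IsConj A (r Q p * sgn0 b)) (g : ℕ) :
    ∀ b, IsConj A (r Q (app (gen g) p) * sgn0 b) := by
  intro b
  have h1 : Acts k (π W0 (evw Γ [g])) (gen g) := by
    rw [π_e]
    have := hyp.toBas.act g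
    rwa [evw_cons, evw_nil, mul_one]
  obtain ⟨c, hc⟩ := r_conj (e_mem_PP [g]) h1 p
  refine (h (c ^^ b)).trans ?_
  refine isConj_iff.2 ⟨(evw Γ [g])⁻¹, ?_⟩
  rw [inv_inv]
  have h2 := sgn_comm (c ^^ b) (e_mem_PP [g])
  calc (evw Γ [g])⁻¹ * (r Q p * sgn0 (c ^^ b)) * evw Γ [g]
      = (evw Γ [g])⁻¹ * r Q p * (sgn0 (c ^^ b) * evw Γ [g]) := by group
    _ = (evw Γ [g])⁻¹ * r Q p * evw Γ [g] * sgn0 (c ^^ b) := by rw [← h2]; group
    _ = r Q (app (gen g) p) * sgn0 b := by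
      rw [hc, mul_assoc, sgn0_mul, ← Bool.xor_assoc, Bool.xor_self, Bool.false_xor]

theorem sq_step {p : ℕ} (h : ∀ b, (r Q p * sgn0 b) * (r Q p * sgn0 b) = W0) (g : ℕ) :
    ∀ b, (r Q (app (gen g) p) * sgn0 b) * (r Q (app (gen g) p) * sgn0 b) = W0 := by
  intro b
  have h1 : Acts k (π W0 (evw Γ [g])) (gen g) := by
    rw [π_e]
    have := hyp.toBas.act g
    rwa [evw_cons, evw_nil, mul_one]
  obtain ⟨c, hc⟩ := r_conj (e_mem_PP [g]) h1 p
  have h2 := sgn_comm (c ^^ b) (e_mem_PP [g])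
  have e : r Q (app (gen g) p) * sgn0 b = (evw Γ [g])⁻¹ * (r Q p * sgn0 (c ^^ b)) * evw Γ [g] := by
    symm
    calc (evw Γ [g])⁻¹ * (r Q p * sgn0 (c ^^ b)) * evw Γ [g]
        = (evw Γ [g])⁻¹ * r Q p * (sgn0 (c ^^ b) * evw Γ [g]) := by group
      _ = (evw Γ [g])⁻¹ * r Q p * evw Γ [g] * sgn0 (c ^^ b) := by rw [← h2]; group
      _ = r Q (app (gen g) p) * sgn0 b := by
        rw [hc, mul_assoc, sgn0_mul, ← Bool.xor_assoc, Bool.xor_self, Bool.false_xor]
  have h3 := h (c ^^ b)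
  have h4 := mem_PP.1 (e_mem_PP [g])
  rw [e]
  calc (evw Γ [g])⁻¹ * (r Q p * sgn0 (c ^^ b)) * evw Γ [g] * ((evw Γ [g])⁻¹ * (r Q p * sgn0 (c ^^ b)) * evw Γ [g])
      = (evw Γ [g])⁻¹ * ((r Q p * sgn0 (c ^^ b)) * (r Q p * sgn0 (c ^^ b))) * evw Γ [g] := by group
    _ = (evw Γ [g])⁻¹ * (W0 * evw Γ [g]) := by rw [h3]; group
    _ = W0 := by rw [← h4]; group

theorem base_D : ∀ b, IsConj (Q 0) (r Q 1 * sgn0 b) := by
  intro b
  rw [show r Q 1 = Q 0 from Bas.r_one]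
  cases b
  · rw [show sgn0 false = 1 from rfl, mul_one]
  · have h1 := Q_comm (i := 0) (j := 7) (by norm_num) (by norm_num)
    have h2 : (Bm 7).testBit 0 = true := by decide +kernel
    rw [h2] at h1
    refine isConj_iff.2 ⟨(Q 7)⁻¹, ?_⟩
    rw [inv_inv, mul_assoc, h1, inv_mul_cancel_left]

theorem base_S : ∀ b, IsConj W0 (r Q 3 * sgn0 b) := by
  intro b
  cases b
  · rw [show sgn0 false = 1 from rfl, mul_one, W0_eq, r3_eq, ← V_hw (by decide +kernel)]
    exact NormalH.ψ.map_isConj conj_r3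
  · rw [show sgn0 true = W0 from rfl, W0, r3_eq, ← V_append, List.append_assoc]
    change IsConj W0 _
    rw [W0_eq, ← V_hw (by decide +kernel)]
    exact NormalH.ψ.map_isConj conj_r3w

theorem base_F : ∀ b, (r Q 12 * sgn0 b) * (r Q 12 * sgn0 b) = W0 := by
  intro b
  have h := sgn_comm b (r_mem_PP 12)
  calc (r Q 12 * sgn0 b) * (r Q 12 * sgn0 b) = r Q 12 * (sgn0 b * r Q 12) * sgn0 b := by group
    _ = r Q 12 * r Q 12 * (sgn0 b * sgn0 b) := by rw [← h]; group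
    _ = W0 := by rw [sgn0_mul, Bool.xor_self, r12_sq]; exact mul_one _

/-- mask of the class `CD`, `CS`, `CF` -/
theorem kinds {m : ℕ} (hm : m < 256) : m = 0 ∨ (CD.testBit m = true ∧ ∀ b, IsConj (Q 0) (r Q m * sgn0 b)) ∨
    (CS.testBit m = true ∧ ∀ b, IsConj W0 (r Q m * sgn0 b)) ∨
    (CF.testBit m = true ∧ ∀ b, (r Q m * sgn0 b) * (r Q m * sgn0 b) = W0) := by
  have stepS : ∀ p g, (p < 256 ∧ CS.testBit p = true ∧ ∀ b, IsConj W0 (r Q p * sgn0 b)) →
      (app (gen g) p < 256 ∧ CS.testBit (app (gen g) p) = true ∧ ∀ b, IsConj W0 (r Q (app (gen g) p) * sgn0 b)) :=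
    fun p g h => ⟨app_lt _ _, (col_gen g h.1).2.1 h.2.1, conj_step h.2.2 g⟩
  have stepF : ∀ p g, (p < 256 ∧ CF.testBit p = true ∧ ∀ b, (r Q p * sgn0 b) * (r Q p * sgn0 b) = W0) →
      (app (gen g) p < 256 ∧ CF.testBit (app (gen g) p) = true ∧
        ∀ b, (r Q (app (gen g) p) * sgn0 b) * (r Q (app (gen g) p) * sgn0 b) = W0) :=
    fun p g h => ⟨app_lt _ _, (col_gen g h.1).2.2 h.2.1, sq_step h.2.2 g⟩
  have hS3 : (3 < 256 ∧ CS.testBit 3 = true ∧ ∀ b, IsConj W0 (r Q 3 * sgn0 b)) :=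
    ⟨by norm_num, by decide +kernel, base_S⟩
  have hF12 : (12 < 256 ∧ CF.testBit 12 = true ∧ ∀ b, (r Q 12 * sgn0 b) * (r Q 12 * sgn0 b) = W0) :=
    ⟨by norm_num, by decide +kernel, base_F⟩
  rcases mask_cases hm with rfl | h1 | rfl | ⟨t, ht, rfl⟩ | rfl | ⟨t, ht, rfl⟩
  · exact Or.inl rfl
  · right; left
    obtain ⟨w, -, rfl⟩ := exists_DW h1
    have key : ∀ w : List ℕ, ∀ p, (p < 256 ∧ CD.testBit p = true ∧ ∀ b, IsConj (Q 0) (r Q p * sgn0 b)) →
        (CD.testBit (app (mw w) p) = true ∧ ∀ b, IsConj (Q 0) (r Q (app (mw w) p) * sgn0 b)) := by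
      intro w
      induction w with
      | nil => rintro p ⟨hp, h2, h3⟩; rw [mw_nil, app_MI hp]; exact ⟨h2, h3⟩
      | cons g w ih =>
        rintro p ⟨hp, h2, h3⟩
        rw [mw_cons, app_mul]
        exact ih _ ⟨app_lt _ _, (col_gen g hp).1 h2, conj_step h3 g⟩
    exact key w 1 ⟨by norm_num, by decide +kernel, base_D⟩
  · exact Or.inr (Or.inr (Or.inl hS3.2))
  · exact Or.inr (Or.inr (Or.inl (tree_spec stepS JJ [3] chkJJ
      (by intro p hp; rw [List.mem_singleton.1 hp]; exact hS3) t ht).2))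
  · exact Or.inr (Or.inr (Or.inr hF12.2))
  · exact Or.inr (Or.inr (Or.inr (tree_spec stepF FF [12] chkFF
      (by intro p hp; rw [List.mem_singleton.1 hp]; exact hF12) t ht).2))

theorem chkdis : allB (fun m => Bool.and (Bool.not (Bool.and (tst CD 0 m) (tst CS 0 m)))
    (Bool.and (Bool.not (Bool.and (tst CD 0 m) (tst CF 0 m))) (Bool.not (Bool.and (tst CS 0 m) (tst CF 0 m))))) 256
    = true := by decide +kernel

theorem dis {m : ℕ} (hm : m < 256) : ¬ (CD.testBit m = true ∧ CS.testBit m = true) ∧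
    ¬ (CD.testBit m = true ∧ CF.testBit m = true) ∧ ¬ (CS.testBit m = true ∧ CF.testBit m = true) := by
  have h := (allB_iff _ _).1 chkdis m hm
  have e : ∀ C, tst C 0 m = C.testBit m := by
    intro C
    rw [Bool.eq_iff_iff, tst_iff, Nat.zero_xor]
  rw [e, e, e] at h
  revert h
  cases CD.testBit m <;> cases CS.testBit m <;> cases CF.testBit m <;> simp

theorem kind_D {m : ℕ} (hm : m < 256) (h : CD.testBit m = true) : ∀ b, IsConj (Q 0) (r Q m * sgn0 b) := by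
  have hd := dis hm
  rcases kinds hm with rfl | h1 | h1 | h1
  · exact absurd h (by decide +kernel)
  · exact h1.2
  · exact absurd ⟨h, h1.1⟩ hd.1
  · exact absurd ⟨h, h1.1⟩ hd.2.1

theorem kind_S {m : ℕ} (hm : m < 256) (h : CS.testBit m = true) : ∀ b, IsConj W0 (r Q m * sgn0 b) := by
  have hd := dis hm
  rcases kinds hm with rfl | h1 | h1 | h1
  · exact absurd h (by decide +kernel)
  · exact absurd ⟨h1.1, h⟩ hd.1
  · exact h1.2
  · exact absurd ⟨h, h1.1⟩ hd.2.2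

theorem kind_F {m : ℕ} (hm : m < 256) (h : CF.testBit m = true) :
    ∀ b, (r Q m * sgn0 b) * (r Q m * sgn0 b) = W0 := by
  have hd := dis hm
  rcases kinds hm with rfl | h1 | h1 | h1
  · exact absurd h (by decide +kernel)
  · exact absurd ⟨h1.1, h⟩ hd.2.1
  · exact absurd ⟨h1.1, h⟩ hd.2.2
  · exact h1.2

end Cfsg.Agent.KFacts.HN
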