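import Cfsg.Agent.KFacts.HN.QuotNormal
import Cfsg.Agent.KFacts.HN.Irr

/-!
# The subgroups `R ≤ M ≤ P = C(W0)` of the presented Harada-Norton group

`P = 2^(1+8).(A5 × A5).2`, `R = O_2(P)` extraspecial, `M` the perfect normal subgroup of index two.
-/

set_option autoImplicit false

namespace Cfsg.Agent.KFacts.HN

open Cfsg.Agent.HN Cfsg.Agent.HN.Pres Cfsg.Agent.HN.P1408 Cfsg.Agent.HN.H0Basic Cfsg.Agent.HN.XMat
open Cfsg.Agent.HN.XStruct Cfsg.Agent.HN.XWords Cfsg.Agent.HN.XQuot Cfsg.Agent.HN.XInst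
open Cfsg.Agent.SporadicA.PermTab (band_eq_true allB allB_iff)

/-- the centraliser of `W0` -/
def PP : Subgroup Cfsg.Spor.HN := Subgroup.centralizer ({W0} : Set Cfsg.Spor.HN)

theorem mem_PP {u : Cfsg.Spor.HN} : u ∈ PP ↔ u * W0 = W0 * u := Subgroup.mem_centralizer_singleton_iff

/-- the projection to `(A5 × A5).2` -/
noncomputable def ρ : PP →* Lq := (QuotientGroup.mk' Rk).comp (QuotientGroup.mk' (Zw W0))

theorem ρ_apply (u : PP) : ρ u = QuotientGroup.mk (s := Rk) (π W0 (u : Cfsg.Spor.HN)) := by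
  rw [π_of (mem_PP.1 u.2)]
  rfl

theorem ρ_surj : Function.Surjective ρ :=
  (QuotientGroup.mk'_surjective Rk).comp (QuotientGroup.mk'_surjective (Zw W0))

theorem r_mem_PP (m : ℕ) : r Q m ∈ PP := mem_PP.2 (comm_r m)
theorem e_mem_PP (w : List ℕ) : evw Γ w ∈ PP := mem_PP.2 (comm_e w)
theorem sgn_mem_PP (b : Bool) : sgn0 b ∈ PP := mem_PP.2 (comm_sgn b)
theorem W0_mem_PP : W0 ∈ PP := mem_PP.2 rfl

theorem π_r (m : ℕ) : π W0 (r Q m) = r k m := P_r (θ := MonoidHom.id _) m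
theorem π_e (w : List ℕ) : π W0 (evw Γ w) = evw γ w := P_evw (θ := MonoidHom.id _) w

theorem ρ_e (w : List ℕ) : ρ ⟨evw Γ w, e_mem_PP w⟩ = e w := by
  rw [ρ_apply]
  change QuotientGroup.mk (s := Rk) (π W0 (evw Γ w)) = _
  rw [π_e]; rfl

theorem eq_of_π {u v : Cfsg.Spor.HN} (hu : u ∈ PP) (hv : v ∈ PP) (h : π W0 u = π W0 v) : ∃ b : Bool, v = u * sgn0 b := by
  rcases (π_eq_iff W0_sq (mem_PP.1 hu) (mem_PP.1 hv)).1 h with h | h
  · exact ⟨false, by rw [h]; exact (mul_one _).symm⟩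
  · exact ⟨true, h⟩

/-- `R` -/
noncomputable def RS : Subgroup Cfsg.Spor.HN := ρ.ker.map PP.subtype

/-- `M` -/
noncomputable def MM : Subgroup Cfsg.Spor.HN := (LL.comap ρ).map PP.subtype

theorem mem_RS {x : Cfsg.Spor.HN} : x ∈ RS ↔ ∃ m < 256, ∃ b : Bool, x = r Q m * sgn0 b := by
  constructor
  · rintro ⟨u, hu, rfl⟩
    have h1 : ρ u = 1 := hu
    rw [ρ_apply, QuotientGroup.eq_one_iff] at h1
    obtain ⟨m, hm, h2⟩ := mem_Rk.1 h1
    rw [← π_r] at h2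
    obtain ⟨b, hb⟩ := eq_of_π (r_mem_PP m) u.2 h2.symm
    exact ⟨m, hm, b, hb⟩
  · rintro ⟨m, hm, b, rfl⟩
    refine ⟨⟨r Q m * sgn0 b, PP.mul_mem (r_mem_PP m) (sgn_mem_PP b)⟩, ?_, rfl⟩
    change ρ _ = 1
    rw [ρ_apply, QuotientGroup.eq_one_iff, mem_Rk]
    refine ⟨m, hm, ?_⟩
    change π W0 (r Q m * sgn0 b) = _
    rw [← π_r]
    cases b
    · rw [show sgn0 false = 1 from rfl, mul_one]
    · exact π_mul_w W0_sq (comm_r m)

theorem mem_MM {x : Cfsg.Spor.HN} : x ∈ MM ↔ ∃ h : x ∈ PP, ρ ⟨x, h⟩ ∈ LL := by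
  constructor
  · rintro ⟨u, hu, rfl⟩
    exact ⟨u.2, hu⟩
  · rintro ⟨h, hx⟩
    exact ⟨⟨x, h⟩, hx, rfl⟩

theorem RS_le_MM : RS ≤ MM := by
  rintro _ ⟨u, hu, rfl⟩
  refine mem_MM.2 ⟨u.2, ?_⟩
  have : ρ u = 1 := hu
  rw [show (⟨PP.subtype u, u.2⟩ : PP) = u from rfl, this]
  exact LL.one_mem

theorem MM_le_PP : MM ≤ PP := fun _ h => (mem_MM.1 h).1

theorem RS_le_PP : RS ≤ PP := RS_le_MM.trans MM_le_PP

theorem W0_mem_RS : W0 ∈ RS := mem_RS.2 ⟨0, by norm_num, true, (one_mul _).symm⟩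

theorem r_mem_RS {m : ℕ} (hm : m < 256) : r Q m ∈ RS := mem_RS.2 ⟨m, hm, false, (mul_one _).symm⟩

theorem conj_RS {u x : Cfsg.Spor.HN} (hu : u ∈ PP) (hx : x ∈ RS) : u * x * u⁻¹ ∈ RS := by
  obtain ⟨y, hy, rfl⟩ := hx
  exact ⟨⟨u, hu⟩ * y * ⟨u, hu⟩⁻¹, ρ.normal_ker.conj_mem _ hy _, rfl⟩

theorem conj_MM {u x : Cfsg.Spor.HN} (hu : u ∈ PP) (hx : x ∈ MM) : u * x * u⁻¹ ∈ MM := by
  obtain ⟨y, hy, rfl⟩ := hx
  exact ⟨⟨u, hu⟩ * y * ⟨u, hu⟩⁻¹, (normal_LL.comap ρ).conj_mem _ hy _, rfl⟩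

/-- the centraliser of `R` -/
theorem cent_RS {x : Cfsg.Spor.HN} (h : ∀ y ∈ RS, x * y = y * x) : x = 1 ∨ x = W0 := by
  have hx : x ∈ PP := mem_PP.2 (h _ W0_mem_RS)
  have h1 : π W0 x ∈ Rk := by
    apply hyp.mem_R_of_comm
    intro i hi
    have h2 : Q i ∈ RS := by
      have := r_mem_RS (m := 2 ^ i) (Nat.pow_lt_pow_right (by norm_num) hi)
      rwa [Bas.r_pow hi] at this
    have h3 := h _ h2
    have h4 : k i = π W0 (Q i) := rfl
    rw [h4, ← π_mul (mem_PP.1 hx) (comm_Q hi), ← π_mul (comm_Q hi) (mem_PP.1 hx), h3]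
  obtain ⟨m, hm, h2⟩ := mem_Rk.1 h1
  rw [← π_r] at h2
  obtain ⟨b, rfl⟩ := eq_of_π (r_mem_PP m) hx h2.symm
  have h5 : m = 0 := by
    apply mask_zero (MonoidHom.id _) hm W0_ne
    intro j hj
    have h2 : Q j ∈ RS := by
      have := r_mem_RS (m := 2 ^ j) (Nat.pow_lt_pow_right (by norm_num) hj)
      rwa [Bas.r_pow hj] at this
    have h3 := h _ h2
    have h4 := csg b (Q j) (comm_Q hj)
    rw [mul_assoc, ← h4, ← mul_assoc, ← mul_assoc] at h3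
    exact mul_right_cancel h3
  subst h5
  rw [show r Q 0 = 1 from Bas.r_zero, one_mul]
  cases b
  · exact Or.inl rfl
  · exact Or.inr rfl


/-! ### irreducibility -/

theorem r_mul {a b : ℕ} : ∃ c : Bool, r Q a * r Q b = r Q (a ^^^ b) * sgn0 c := by
  apply eq_of_π (r_mem_PP _) (PP.mul_mem (r_mem_PP _) (r_mem_PP _))
  rw [π_mul (comm_r a) (comm_r b), π_r, π_r, π_r, hyp.toBas.r_xor]

theorem r_conj {u : Cfsg.Spor.HN} (hu : u ∈ PP) {P : ℕ} (hP : Acts k (π W0 u) P) (m : ℕ) :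
    ∃ c : Bool, u⁻¹ * r Q m * u = r Q (app P m) * sgn0 c := by
  apply eq_of_π (r_mem_PP _) (PP.mul_mem (PP.mul_mem (PP.inv_mem hu) (r_mem_PP _)) hu)
  have h1 := mem_PP.1 hu
  rw [π_mul (comm_mul (comm_inv h1) (comm_r m)) h1, π_mul (comm_inv h1) (comm_r m), π_inv h1, π_r, π_r]
  exact (hyp.toBas.acts_r hP m).symm

theorem acts_e (w : List ℕ) : Acts k (π W0 (evw Γ w)) (mw w) := by
  rw [π_e]; exact hyp.toBas.acts_evw w

theorem e_mem_MM {w : List ℕ} (h : e w ∈ LL) : evw Γ w ∈ MM := mem_MM.2 ⟨e_mem_PP w, by rw [ρ_e]; exact h⟩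

theorem aw_mem {i : ℕ} (hi : i < 3) : evw Γ (aw i) ∈ MM := e_mem_MM (by rw [← φA_cyc hi]; exact A_mem _)

theorem bw_mem {i : ℕ} (hi : i < 3) : evw Γ (bw i) ∈ MM := e_mem_MM (by rw [← φB_cyc hi]; exact B_mem _)

theorem exists_g6 {i : ℕ} (hi : i < 6) : ∃ w : List ℕ, evw Γ w ∈ MM ∧ mw w = g6 i := by
  by_cases h : i < 3
  · refine ⟨aw i, aw_mem h, ?_⟩
    unfold g6
    have : Nat.blt i 3 = true := by rw [Nat.blt_eq]; exact h
    rw [this]; rfl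
  · refine ⟨bw (i - 3), bw_mem (by omega), ?_⟩
    unfold g6
    have : Nat.blt i 3 = false := by
      rw [← Bool.not_eq_true, Nat.blt_eq]; exact h
    rw [this]; rfl

theorem sgn_mem_RS (b : Bool) : sgn0 b ∈ RS := by
  cases b
  · exact RS.one_mem
  · exact W0_mem_RS

/-- a subgroup of `R` normalised by `M` which contains an element outside `⟨W0⟩` is `R` -/
theorem irr {N : Subgroup Cfsg.Spor.HN} (hle : N ≤ RS) (hn : ∀ u ∈ MM, ∀ x ∈ N, u * x * u⁻¹ ∈ N) :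
    (∀ x ∈ N, x = 1 ∨ x = W0) ∨ N = RS := by
  by_cases hcase : ∀ x ∈ N, x = 1 ∨ x = W0
  · exact Or.inl hcase
  right
  push Not at hcase
  obtain ⟨x, hx, hx1, hxW⟩ := hcase
  obtain ⟨m, hm, b, rfl⟩ := mem_RS.1 (hle hx)
  have hm0 : m ≠ 0 := by
    rintro rfl
    rw [show r Q 0 = 1 from Bas.r_zero, one_mul] at hx1 hxW
    cases b
    · exact hx1 rfl
    · exact hxW rfl
  have hclo : Clo (fun n => ∃ c : Bool, r Q n * sgn0 c ∈ N) := by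
    refine ⟨?_, ?_⟩
    · rintro a a' ⟨c, hc⟩ ⟨c', hc'⟩
      obtain ⟨d, hd⟩ := r_mul (a := a) (b := a')
      refine ⟨d ^^ (c ^^ c'), ?_⟩
      have h1 := N.mul_mem hc hc'
      have h2 : r Q a * sgn0 c * (r Q a' * sgn0 c') = r Q (a ^^^ a') * sgn0 (d ^^ (c ^^ c')) := by
        have h3 := csg c (r Q a') (comm_r a')
        calc r Q a * sgn0 c * (r Q a' * sgn0 c') = r Q a * (sgn0 c * r Q a') * sgn0 c' := by group
          _ = r Q a * r Q a' * (sgn0 c * sgn0 c') := by rw [← h3]; group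
          _ = r Q (a ^^^ a') * (sgn0 d * sgn0 (c ^^ c')) := by rw [hd, sgn0_mul, mul_assoc]
          _ = r Q (a ^^^ a') * sgn0 (d ^^ (c ^^ c')) := by rw [sgn0_mul]
      rwa [h2] at h1
    · rintro i hi n hn' ⟨c, hc⟩
      obtain ⟨w, hw, hw'⟩ := exists_g6 hi
      obtain ⟨d, hd⟩ := r_conj (e_mem_PP w) (acts_e w) n
      refine ⟨d ^^ c, ?_⟩
      have h1 := hn _ (MM.inv_mem hw) _ hc
      rw [inv_inv] at h1
      have h2 : (evw Γ w)⁻¹ * (r Q n * sgn0 c) * evw Γ w = r Q (app (g6 i) n) * sgn0 (d ^^ c) := by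
        have h3 := csg c (evw Γ w) (comm_e w)
        calc (evw Γ w)⁻¹ * (r Q n * sgn0 c) * evw Γ w = (evw Γ w)⁻¹ * r Q n * (sgn0 c * evw Γ w) := by group
          _ = (evw Γ w)⁻¹ * r Q n * evw Γ w * sgn0 c := by rw [← h3]; group
          _ = r Q (app (g6 i) n) * sgn0 (d ^^ c) := by rw [hd, hw', mul_assoc, sgn0_mul]
      rwa [h2] at h1
  have hall := hclo.all hm hm0 ⟨b, hx⟩
  have hW : W0 ∈ N := by
    obtain ⟨c, hc⟩ := hall 2 (by norm_num)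
    obtain ⟨d, hd⟩ := hall 64 (by norm_num)
    rw [show r Q 2 = Q 1 from Bas.r_pow (i := 1) (by norm_num)] at hc
    rw [show r Q 64 = Q 6 from Bas.r_pow (i := 6) (by norm_num)] at hd
    have h1 := N.mul_mem (N.mul_mem hc hd) (N.mul_mem hc hd)
    have h2 : Q 1 * sgn0 c * (Q 6 * sgn0 d) * (Q 1 * sgn0 c * (Q 6 * sgn0 d)) = W0 := by
      have hw1 := W0_word
      rw [V_append, V_append, V_append] at hw1
      change Q 1 * (Q 6 * (Q 1 * Q 6)) = W0 at hw1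
      have h3 := csg c (Q 6) (comm_Q (by norm_num))
      have h4 : Q 1 * sgn0 c * (Q 6 * sgn0 d) = Q 1 * Q 6 * (sgn0 c * sgn0 d) := by
        rw [mul_assoc, ← mul_assoc (sgn0 c), ← h3]; group
      have h5 := csg (c ^^ d) (Q 1 * Q 6) (mem_PP.1 (PP.mul_mem (mem_PP.2 (comm_Q (by norm_num)))
        (mem_PP.2 (comm_Q (by norm_num)))))
      calc Q 1 * sgn0 c * (Q 6 * sgn0 d) * (Q 1 * sgn0 c * (Q 6 * sgn0 d))
          = Q 1 * Q 6 * (sgn0 (c ^^ d) * (Q 1 * Q 6)) * sgn0 (c ^^ d) := by rw [h4, sgn0_mul]; group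
        _ = Q 1 * Q 6 * (Q 1 * Q 6) * (sgn0 (c ^^ d) * sgn0 (c ^^ d)) := by rw [← h5]; group
        _ = Q 1 * Q 6 * (Q 1 * Q 6) := by rw [sgn0_mul, Bool.xor_self]; exact mul_one _
        _ = W0 := by rw [← hw1]; group
    rwa [h2] at h1
  apply le_antisymm hle
  intro y hy
  obtain ⟨n, hn', c, rfl⟩ := mem_RS.1 hy
  obtain ⟨d, hd⟩ := hall n hn'
  have h1 : sgn0 (d ^^ c) ∈ N := by
    cases d ^^ c
    · exact N.one_mem
    · exact hW
  have h2 := N.mul_mem hd h1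
  rw [mul_assoc, sgn0_mul, ← Bool.xor_assoc, Bool.xor_self, Bool.false_xor] at h2
  exact h2

end Cfsg.Agent.KFacts.HN
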