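import Cfsg.Agent.KFacts.HN.Outer

/-!
# Normal subgroups of the centraliser of `τ` in HN

`normal_cases_H0`: a normal subgroup of `H0 = 2.HS.2` is contained in `{1, τ}` or contains `2.HS` up to `τ`.
`normal_cases_w`: the same for the centraliser of an involution `w` conjugate to `Q 0 = ψ τ`.
-/

set_option autoImplicit false
set_option Elab.async false

namespace Cfsg.Agent.KFacts.HN

open Cfsg.Agent.HN Cfsg.Agent.HN.Pres Cfsg.Agent.HN.P1408 Cfsg.Agent.HN.H0Basic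
open Cfsg.Agent.HN.XStruct Cfsg.Agent.HN.XWords Cfsg.Agent.HN.XInst Cfsg.Agent.HN.FusGen

theorem ker_cases {g : HS100.K} (hg : g ∈ DoubleCover.φK.ker) : (g : H0) = 1 ∨ (g : H0) = gx ^ 2 := by
  have hx : gx ^ 2 ≠ 1 := gx_sq_ne_one
  have hc := DoubleCover.card_ker H0Basic.card_H0 hx
  by_contra hcon
  push Not at hcon
  have hmem : (⟨gx ^ 2, HS100.K.pow_mem HS100.gx_mem 2⟩ : HS100.K) ∈ DoubleCover.φK.ker := by
    rw [MonoidHom.mem_ker]
    apply Subtype.ext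
    rw [DoubleCover.φK_coe]
    change HS100.φ (gx ^ 2) = 1
    rw [map_pow, HS100.φ_gx, HS100.X_sq]
  obtain ⟨u, v, huv, huniv⟩ := Nat.card_eq_two_iff.1 hc
  have m1 : (1 : DoubleCover.φK.ker) ∈ ({u, v} : Set DoubleCover.φK.ker) := by rw [huniv]; trivial
  have m2 : (⟨g, hg⟩ : DoubleCover.φK.ker) ∈ ({u, v} : Set DoubleCover.φK.ker) := by rw [huniv]; trivial
  have m3 : (⟨_, hmem⟩ : DoubleCover.φK.ker) ∈ ({u, v} : Set DoubleCover.φK.ker) := by rw [huniv]; trivial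
  have n12 : (⟨g, hg⟩ : DoubleCover.φK.ker) ≠ 1 := fun h =>
    hcon.1 (congrArg (fun x : DoubleCover.φK.ker => ((x : HS100.K) : H0)) h)
  have n13 : (⟨_, hmem⟩ : DoubleCover.φK.ker) ≠ 1 := fun h =>
    hx (congrArg (fun x : DoubleCover.φK.ker => ((x : HS100.K) : H0)) h)
  have n23 : (⟨g, hg⟩ : DoubleCover.φK.ker) ≠ ⟨_, hmem⟩ := fun h =>
    hcon.2 (congrArg (fun x : DoubleCover.φK.ker => ((x : HS100.K) : H0)) h)
  rcases m1 with h | h <;> rcases m2 with h' | h' <;> rcases m3 with h'' | h''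
  · exact n12 (h'.trans h.symm)
  · exact n12 (h'.trans h.symm)
  · exact n13 (h''.trans h.symm)
  · exact n23 (h'.trans h''.symm)
  · exact n23 (h'.trans h''.symm)
  · exact n13 (h''.trans h.symm)
  · exact n12 (h'.trans h.symm)
  · exact n12 (h'.trans h.symm)

theorem normal_cases_H0 (N : Subgroup H0) (hN : N.Normal) :
    (∀ n ∈ N, n = 1 ∨ n = gx ^ 2) ∨ (∀ k ∈ HS100.K, k ∈ N ∨ k * gx ^ 2 ∈ N) := by
  have hx : gx ^ 2 ≠ 1 := gx_sq_ne_one
  obtain ⟨-, hs⟩ := DoubleCover.nonempty_Q H0Basic.card_H0 hx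
  have hM : (N.subgroupOf HS100.K).Normal := Subgroup.normal_subgroupOf
  rcases hs.eq_bot_or_eq_top_of_normal ((N.subgroupOf HS100.K).map DoubleCover.φK)
    (hM.map DoubleCover.φK DoubleCover.φK_surj) with h | h
  · left
    have h1 : N.subgroupOf HS100.K ≤ DoubleCover.φK.ker := (Subgroup.map_eq_bot_iff (N.subgroupOf HS100.K)).1 h
    have h3 : ∀ n ∈ N, n ∈ HS100.K → n = 1 ∨ n = gx ^ 2 := by
      intro n hn hk
      have h4 : (⟨n, hk⟩ : HS100.K) ∈ N.subgroupOf HS100.K := hn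
      exact ker_cases (h1 h4)
    have hφx : HS100.φ (gx ^ 2) = 1 := by rw [map_pow, HS100.φ_gx, HS100.X_sq]
    intro n hn
    have h8 : HS100.φ n = 1 := by
      apply NormalH.eq_one_of_commute_Q
      rintro _ ⟨k, hk, rfl⟩
      have h6 : k * n * k⁻¹ * n⁻¹ = 1 ∨ k * n * k⁻¹ * n⁻¹ = gx ^ 2 := by
        apply h3
        · exact N.mul_mem (hN.conj_mem n hn k) (N.inv_mem hn)
        · have h7 : k * (n * k⁻¹ * n⁻¹) ∈ HS100.K :=
            HS100.K.mul_mem hk (HS100.K_normal.conj_mem _ (HS100.K.inv_mem hk) n)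
          simpa only [mul_assoc] using h7
      have h9 : HS100.φ (k * n * k⁻¹ * n⁻¹) = 1 := by
        rcases h6 with h6 | h6
        · rw [h6, map_one]
        · rw [h6, hφx]
      rw [map_mul, map_mul, map_mul, map_inv, map_inv, mul_inv_eq_one, mul_inv_eq_iff_eq_mul] at h9
      exact h9
    exact h3 n hn (DoubleCover.ker_le h8)
  · right
    intro k hk
    have h1 : DoubleCover.φK ⟨k, hk⟩ ∈ (N.subgroupOf HS100.K).map DoubleCover.φK := by rw [h]; trivial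
    obtain ⟨n, hn, h2⟩ := h1
    have h3 : (⟨k, hk⟩ : HS100.K) * n⁻¹ ∈ DoubleCover.φK.ker := by
      rw [MonoidHom.mem_ker, map_mul, map_inv, h2, mul_inv_cancel]
    rcases ker_cases h3 with h4 | h4
    · left
      have h5 : k * (n : H0)⁻¹ = 1 := h4
      rw [mul_inv_eq_one] at h5
      rw [h5]; exact hn
    · right
      have h5 : k * (n : H0)⁻¹ = gx ^ 2 := h4
      have h6 : k = gx ^ 2 * n := by rw [← h5]; group
      have h7 : ∀ u : H0, gx ^ 2 * u = u * gx ^ 2 := fun u => (τ_comm u).symm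
      have h8 : gx ^ 2 * gx ^ 2 = 1 := τ_mul_τ
      rw [h6, mul_assoc, ← h7 n, ← mul_assoc, h8, one_mul]
      exact hn

theorem Q0_eq : Q 0 = NormalH.ψ τ := inst.t_eq

theorem mem_range_of_comm {c : Cfsg.Spor.HN} (hc : c * Q 0 = Q 0 * c) : ∃ u : H0, NormalH.ψ u = c := by
  have h1 : c ∈ NormalH.H := by
    apply Central.centralizer_le
    rw [Subgroup.mem_centralizer_singleton_iff]
    have h2 : NormalH.ψ τ = Pres.hx ^ 2 := by rw [τ, map_pow, NormalH.ψ_gx]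
    rw [← h2, ← Q0_eq]
    exact hc
  rw [← NormalH.range_ψ] at h1
  exact h1

theorem comm_of_ψ (u : H0) : NormalH.ψ u * Q 0 = Q 0 * NormalH.ψ u := by
  rw [Q0_eq, ← map_mul, ← map_mul, τ_comm]

theorem aτ_mem_K : (Syl.a * τ) ∈ HS100.K := by
  rw [← Syl.hw_a, ← hw_τ, ← hw_append]
  have h : ∀ w : List ℕ, (∀ l ∈ w, l = 0 ∨ l = 2) → hw w ∈ HS100.K := by
    intro w
    induction w with
    | nil => intro _; exact HS100.K.one_mem
    | cons l w ih =>
      intro hl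
      rw [hw_cons]
      refine HS100.K.mul_mem ?_ (ih fun k hk => hl k (List.mem_cons_of_mem _ hk))
      rcases hl l List.mem_cons_self with rfl | rfl
      · rw [hw_x]; exact HS100.gx_mem
      · rw [hw_y]; exact HS100.gy_mem
  exact h _ (by decide)

theorem Q0_sq : Q 0 * Q 0 = 1 := Q_sq (by norm_num)

theorem Q0_ne : Q 0 ≠ 1 := by
  rw [Q0_eq, ← map_one NormalH.ψ]
  exact fun h => τ_ne_one (emb.inj h)

/-- subgroups of `C(τ)` normalised by `C(τ)` -/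
theorem normal_cases_Q0 (N : Subgroup Cfsg.Spor.HN) (h1 : ∀ n ∈ N, n * Q 0 = Q 0 * n)
    (h2 : ∀ c, c * Q 0 = Q 0 * c → ∀ n ∈ N, c * n * c⁻¹ ∈ N) :
    (∀ n ∈ N, n = 1 ∨ n = Q 0) ∨ (W0 ∈ N ∨ W0 * Q 0 ∈ N) := by
  have hnor : (N.comap NormalH.ψ).Normal := by
    refine ⟨fun n hn g => ?_⟩
    rw [Subgroup.mem_comap] at hn ⊢
    rw [map_mul, map_mul, map_inv]
    exact h2 _ (comm_of_ψ g) _ hn
  rcases normal_cases_H0 _ hnor with h | h
  · left
    intro n hn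
    obtain ⟨u, rfl⟩ := mem_range_of_comm (h1 n hn)
    rcases h u hn with h3 | h3
    · left; rw [h3, map_one]
    · right; rw [h3, Q0_eq]; rfl
  · right
    rcases h _ aτ_mem_K with h3 | h3
    · left
      rw [W0_eq]; exact h3
    · right
      rw [Subgroup.mem_comap, map_mul] at h3
      rw [W0_eq, Q0_eq]; exact h3

/-- the same for a conjugate of `τ` -/
theorem normal_cases_w {w : Cfsg.Spor.HN} (hw : IsConj (Q 0) w) (N : Subgroup Cfsg.Spor.HN)
    (h1 : ∀ n ∈ N, n * w = w * n) (h2 : ∀ c, c * w = w * c → ∀ n ∈ N, c * n * c⁻¹ ∈ N) :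
    (∀ n ∈ N, n = 1 ∨ n = w) ∨ ∃ b, IsConj W0 b ∧ (b ∈ N ∨ b * w ∈ N) ∧ b * w = w * b := by
  obtain ⟨g, rfl⟩ := isConj_iff.1 hw
  have e1 : ∀ c : Cfsg.Spor.HN, c * Q 0 = Q 0 * c → (g * c * g⁻¹) * (g * Q 0 * g⁻¹) = (g * Q 0 * g⁻¹) * (g * c * g⁻¹) := by
    intro c hc
    calc (g * c * g⁻¹) * (g * Q 0 * g⁻¹) = g * (c * Q 0) * g⁻¹ := by group
      _ = g * (Q 0 * c) * g⁻¹ := by rw [hc]
      _ = _ := by group
  have hA : ∀ n ∈ N.comap (MulAut.conj g).toMonoidHom, n * Q 0 = Q 0 * n := by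
    intro n hn
    have h3 := h1 _ hn
    change g * n * g⁻¹ * (g * Q 0 * g⁻¹) = g * Q 0 * g⁻¹ * (g * n * g⁻¹) at h3
    have h4 : g * (n * Q 0) * g⁻¹ = g * (Q 0 * n) * g⁻¹ := by
      calc g * (n * Q 0) * g⁻¹ = g * n * g⁻¹ * (g * Q 0 * g⁻¹) := by group
        _ = _ := h3
        _ = g * (Q 0 * n) * g⁻¹ := by group
    exact mul_left_cancel (mul_right_cancel h4)
  have hB : ∀ c, c * Q 0 = Q 0 * c → ∀ n ∈ N.comap (MulAut.conj g).toMonoidHom,
      c * n * c⁻¹ ∈ N.comap (MulAut.conj g).toMonoidHom := by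
    intro c hc n hn
    have h3 := h2 _ (e1 c hc) _ hn
    change g * c * g⁻¹ * (g * n * g⁻¹) * (g * c * g⁻¹)⁻¹ ∈ N at h3
    change g * (c * n * c⁻¹) * g⁻¹ ∈ N
    have e : g * (c * n * c⁻¹) * g⁻¹ = g * c * g⁻¹ * (g * n * g⁻¹) * (g * c * g⁻¹)⁻¹ := by group
    rwa [e]
  rcases normal_cases_Q0 (N.comap (MulAut.conj g).toMonoidHom) hA hB with h | h
  · left
    intro n hn
    have h3 : g⁻¹ * n * g ∈ N.comap (MulAut.conj g).toMonoidHom := by
      rw [Subgroup.mem_comap]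
      change g * (g⁻¹ * n * g) * g⁻¹ ∈ N
      have e : g * (g⁻¹ * n * g) * g⁻¹ = n := by group
      rwa [e]
    rcases h _ h3 with h4 | h4
    · left
      calc n = g * (g⁻¹ * n * g) * g⁻¹ := by group
        _ = 1 := by rw [h4]; group
    · right
      calc n = g * (g⁻¹ * n * g) * g⁻¹ := by group
        _ = g * Q 0 * g⁻¹ := by rw [h4]
  · right
    refine ⟨g * W0 * g⁻¹, isConj_iff.2 ⟨g, rfl⟩, ?_, e1 W0 (cw (by norm_num))⟩
    rcases h with h | h
    · exact Or.inl h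
    · right
      have h3 : g * (W0 * Q 0) * g⁻¹ ∈ N := h
      have e : g * W0 * g⁻¹ * (g * Q 0 * g⁻¹) = g * (W0 * Q 0) * g⁻¹ := by group
      rwa [e]

end Cfsg.Agent.KFacts.HN
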