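import Cfsg.Agent.HN.XInst
import Cfsg.Agent.HN.XClose
import Cfsg.Agent.HN.InvHN
import Cfsg.Agent.HN.FusOne
import Cfsg.Agent.HN.Central
import Cfsg.Agent.HN.XSq

/-!
# The involution centralisers of the presented Harada-Norton group: the instance

`XInst.Inst` for `HN` itself: the centraliser of `τ` is `H0 = 2.HS.2`, the centraliser of `W0` is described by
`XStruct` (normal form in `C(W0)/⟨W0⟩`).
-/

set_option autoImplicit false

namespace Cfsg.Agent.KFacts.HN

open Cfsg.Agent.HN Cfsg.Agent.HN.Pres Cfsg.Agent.HN.P1408 Cfsg.Agent.HN.H0Basic Cfsg.Agent.HN.XMat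
open Cfsg.Agent.HN.XStruct Cfsg.Agent.HN.XWords Cfsg.Agent.HN.XQuot Cfsg.Agent.HN.FusGen Cfsg.Agent.HN.XInst

theorem finite_HN : Finite Cfsg.Spor.HN := Nat.finite_of_card_ne_zero (by
  have h := Cfsg.Agent.S1701.result.2
  rw [h]; norm_num)

theorem emb : Emb NormalH.ψ τ where
  inj := NormalH.ψ_injective H0Basic.finite_H0 H0Basic.card_H0_le XSq.hx_sq_ne
  cent g hg := by
    have h1 : NormalH.ψ τ = Pres.hx ^ 2 := by
      rw [τ, map_pow, NormalH.ψ_gx]
    have h2 : g ∈ NormalH.H := by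
      apply Central.centralizer_le
      rw [Subgroup.mem_centralizer_singleton_iff, ← h1]
      exact hg
    rw [← NormalH.range_ψ] at h2
    exact h2
  comm := τ_comm
  sq := τ_mul_τ
  ne := τ_ne_one

theorem hz : InK NormalH.ψ τ gz := by
  have := simple_HN
  exact InvHN.isConj_z.symm

theorem hb : ¬ InK NormalH.ψ τ (Syl.a * τ) := by
  have := finite_HN
  exact FusOne.not_inK_aτ emb

theorem hd : ¬ InK NormalH.ψ τ Syl.d := by
  have := finite_HN
  exact FusOne.not_inK_d emb hz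

theorem inst : Inst NormalH.ψ (MonoidHom.id Cfsg.Spor.HN) where
  E := emb
  ext _ := rfl
  hz := hz
  hb := hb
  hd := hd

/-- basis of `R/⟨w⟩` in `C(w)/⟨w⟩` -/
noncomputable abbrev k : ℕ → KK W0 := kk (MonoidHom.id Cfsg.Spor.HN)

/-- generators of the complement words in `C(w)/⟨w⟩` -/
noncomputable abbrev γ : ℕ → KK W0 := gg (MonoidHom.id Cfsg.Spor.HN)

theorem hyp : Hyp k γ (DS W0 (NormalH.ψ τ)) (SS W0 (NormalH.ψ τ)) := by
  have := finite_HN
  exact inst.hyp

end Cfsg.Agent.KFacts.HN
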