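import Cfsg.Agent.KFacts.HN.Cards
import Cfsg.Agent.KFacts.LargeAut

/-!
# `R = O₂(C(W0))` is a large extraspecial subgroup of the presented Harada-Norton group; Sylow 2-subgroups
-/

set_option autoImplicit false

namespace Cfsg.Agent.KFacts.HN

open Cfsg.Agent.HN Cfsg.Agent.HN.Pres Cfsg.Agent.HN.P1408 Cfsg.Agent.HN.H0Basic Cfsg.Agent.HN.XMat
open Cfsg.Agent.HN.XStruct Cfsg.Agent.HN.XWords Cfsg.Agent.HN.XQuot Cfsg.Agent.HN.XInst
open Cfsg.Agent.Co2Type.Quad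

theorem W0_W0 : W0 * W0 = 1 := W0_sq

theorem π_r_mul (m m' : ℕ) (b b' : Bool) :
    π W0 (r Q m * sgn0 b * (r Q m' * sgn0 b')) = r k (m ^^^ m') := by
  rw [π_mul (comm_mul (comm_r m) (comm_sgn b)) (comm_mul (comm_r m') (comm_sgn b')), π_r_sgn, π_r_sgn,
    hyp.toBas.r_xor]

theorem large : Large RS W0 where
  z_mem := W0_mem_RS
  z_ne := W0_ne
  z_sq := W0_W0
  comm_z x hx := mem_PP.1 (RS_le_PP hx)
  conj_mem g hg x hx := conj_RS (mem_PP.2 hg) hx
  sq x hx := by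
    obtain ⟨m, _, b, rfl⟩ := mem_RS.1 hx
    have h1 : π W0 1 = π W0 (r Q m * sgn0 b * (r Q m * sgn0 b)) := by
      rw [π_r_mul, Nat.xor_self, Bas.r_zero, π_one]
    obtain ⟨c, hc⟩ := eq_of_π PP.one_mem (PP.mul_mem (RS_le_PP hx) (RS_le_PP hx)) h1
    rw [hc, one_mul]
    cases c
    · exact Or.inl rfl
    · exact Or.inr rfl
  comm x hx y hy := by
    obtain ⟨m, _, b, rfl⟩ := mem_RS.1 hx
    obtain ⟨m', _, b', rfl⟩ := mem_RS.1 hy
    have h1 : π W0 (r Q m' * sgn0 b' * (r Q m * sgn0 b)) = π W0 (r Q m * sgn0 b * (r Q m' * sgn0 b')) := by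
      rw [π_r_mul, π_r_mul, Nat.xor_comm]
    obtain ⟨c, hc⟩ := eq_of_π (PP.mul_mem (RS_le_PP hy) (RS_le_PP hx))
      (PP.mul_mem (RS_le_PP hx) (RS_le_PP hy)) h1
    rw [hc]
    cases c
    · exact Or.inl (mul_one _)
    · exact Or.inr rfl
  cent x _ h := cent_RS h
  self g _ h := by
    rcases cent_RS h with h1 | h1 <;> rw [h1]
    · exact RS.one_mem
    · exact W0_mem_RS

theorem RS_isPGroup : IsPGroup 2 RS := IsPGroup.of_card (n := 9) (by rw [card_RS]; norm_num)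

theorem Q_mem_RS {i : ℕ} (hi : i < 8) : Q i ∈ RS := by
  have := r_mem_RS (m := 2 ^ i) (Nat.pow_lt_pow_right (by norm_num) hi)
  rwa [Bas.r_pow hi] at this

theorem Q1_ne : Q 1 ≠ 1 ∧ Q 1 ≠ W0 := by
  constructor
  · intro h
    have h1 : r Q 2 * sgn0 false = r Q 0 * sgn0 false := by
      rw [Bas.r_zero, show r Q 2 = Q 1 from Bas.r_pow (i := 1) (by norm_num), h]
    have := (r_sgn_inj (by norm_num) (by norm_num) h1).1
    omega
  · intro h
    have h1 : r Q 2 * sgn0 false = r Q 0 * sgn0 true := by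
      rw [Bas.r_zero, show r Q 2 = Q 1 from Bas.r_pow (i := 1) (by norm_num), h, one_mul]
      exact mul_one _
    have := (r_sgn_inj (by norm_num) (by norm_num) h1).1
    omega

theorem exists_noncentral : ∃ x ∈ RS, x ≠ 1 ∧ x ≠ W0 := ⟨Q 1, Q_mem_RS (by norm_num), Q1_ne⟩

theorem not_abelian : ∃ a ∈ RS, ∃ b ∈ RS, a * b ≠ b * a := by
  by_contra h
  push Not at h
  rcases cent_RS (h (Q 1) (Q_mem_RS (by norm_num))) with h1 | h1
  · exact Q1_ne.1 h1
  · exact Q1_ne.2 h1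

end Cfsg.Agent.KFacts.HN
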