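import Cfsg.Agent.KFacts.HN.Irr

/-!
# The linear maps preserving the colours of the masks

`CD`, `CS`, `CF`: the three classes (60, 75, 120) of nonzero masks, as numbers with 256 bits. A map of masks which is
additive and preserves the classes is, up to a matrix of a word, the identity or the reflection `PHI`: depth-first
search over the images of the basis masks (1277 nodes).
-/

set_option autoImplicit false
set_option Elab.async false

namespace Cfsg.Agent.KFacts.HN

open Cfsg.Agent.HN Cfsg.Agent.HN.XMat Cfsg.Agent.HN.XStruct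
open Cfsg.Agent.SporadicA.PermTab (band_eq_true allB allB_iff)

/-- the class of 60 masks -/
def CD : ℕ := 1823829608268195304905218113382260448234415363642013184894125277215575052086
/-- the class of 75 masks -/
def CS : ℕ := 44498306708733774402112165723792995419934876201750130512172539749221290082504
/-- the class of 120 masks -/
def CF : ℕ := 69469952920314225716553601171512651985100693100248420342390918981476264505344

/-- the reflection -/
def PHI : ℕ := 11331374490195395073

/-- test of a bit -/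
def tst (C u y : ℕ) : Bool := Nat.beq (Nat.land (Nat.shiftRight C (Nat.xor u y)) 1) 1

theorem tst_iff {C u y : ℕ} : tst C u y = true ↔ C.testBit (u ^^^ y) = true := by
  change Nat.beq ((C >>> (u ^^^ y)) &&& 1) 1 = true ↔ _
  rw [Nat.beq_eq, Nat.testBit, Nat.and_comm]
  have h : 1 &&& (C >>> (u ^^^ y)) = 0 ∨ 1 &&& (C >>> (u ^^^ y)) = 1 := by
    rw [Nat.and_comm, Nat.and_one_is_mod]; omega
  rcases h with h | h <;> simp [h]

/-- all elements of a list -/
def allN (f : ℕ → Bool) (L : List ℕ) : Bool := List.rec true (fun y _ ih => cond (f y) ih false) L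

theorem allN_iff {f : ℕ → Bool} {L : List ℕ} : allN f L = true ↔ ∀ y ∈ L, f y = true := by
  induction L with
  | nil => simp [allN]
  | cons y L ih =>
    change cond (f y) (allN f L) false = true ↔ _
    cases h : f y
    · simp [h]
    · simp [h, ih]

/-- level of the search: the candidates and three tests (mask, class) -/
structure Lev where
  L : List ℕ
  s1 : ℕ
  C1 : ℕ
  s2 : ℕ
  C2 : ℕ
  s3 : ℕ
  C3 : ℕ

/-- the child with image `y` -/
def stp (ih : ℕ → ℕ → Bool) (l : Lev) (j Y u1 u2 u3 y : ℕ) : Bool :=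
  cond (tst l.C1 u1 y) (cond (tst l.C2 u2 y) (cond (tst l.C3 u3 y)
    (force (Nat.lor Y (Nat.shiftLeft y (Nat.mul 8 j))) (fun Y' => ih (Nat.succ j) Y')) true) true) true

/-- one level -/
def onelev (ih : ℕ → ℕ → Bool) (l : Lev) (j Y : ℕ) : Bool :=
  force (app Y l.s1) (fun u1 => force (app Y l.s2) (fun u2 => force (app Y l.s3) (fun u3 =>
    allN (stp ih l j Y u1 u2 u3) l.L)))

/-- the leaf is the matrix of a word up to `PHI` -/
def leafOk (Y : ℕ) : Bool :=
  cond (S5M.any (fun M => Nat.beq Y M)) true (force (mul PHI Y) (fun Z => S5M.any (fun M => Nat.beq Z M)))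

/-- depth-first search -/
def dfs (ls : List Lev) : ℕ → ℕ → Bool :=
  List.rec (fun _ Y => leafOk Y) (fun l _ ih j Y => onelev ih l j Y) ls

/-- the 120 masks of the class `CF` -/
def FL : List ℕ := 12 :: FF.map (fun t => t.1)

/-- the levels -/
def levs : List Lev := [
  ⟨DD, 1, CS, 1, CS, 1, CS⟩,
  ⟨DD, 1, CD, 2, CS, 2, CS⟩,
  ⟨DD, 1, CD, 2, CD, 4, CF⟩,
  ⟨DD, 1, CS, 2, CD, 8, CS⟩,
  ⟨DD, 1, CD, 6, CD, 8, CS⟩,
  ⟨DD, 1, CD, 5, CS, 62, CD⟩,
  ⟨FL, 1, CS, 4, CD, 30, CD⟩]

theorem dfs_levs : dfs levs 1 1 = true := by decide +kernel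

/-! ### soundness -/

/-- additive and colour preserving -/
structure Gam (x : ℕ → ℕ) : Prop where
  add : ∀ a b, x (a ^^^ b) = x a ^^^ x b
  lt : ∀ m, x m < 256
  cD : ∀ m < 256, CD.testBit m = true → CD.testBit (x m) = true
  cS : ∀ m < 256, CS.testBit m = true → CS.testBit (x m) = true
  cF : ∀ m < 256, CF.testBit m = true → CF.testBit (x m) = true

/-- the packed images of the first basis masks -/
def pk (x : ℕ → ℕ) (n : ℕ) : ℕ :=
  Nat.rec 0 (fun i acc => Nat.lor acc (Nat.shiftLeft (x (2 ^ i)) (Nat.mul 8 i))) n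

theorem pk_succ (x : ℕ → ℕ) (n : ℕ) : pk x (n + 1) = (pk x n) ||| ((x (2 ^ n)) <<< (8 * n)) := rfl

theorem pk_lt {x : ℕ → ℕ} (hx : ∀ m, x m < 256) (n : ℕ) : pk x n < 2 ^ (8 * n) := by
  induction n with
  | zero => exact Nat.one_pos
  | succ n ih =>
    rw [pk_succ]
    apply Nat.or_lt_two_pow
    · exact ih.trans_le (Nat.pow_le_pow_right (by norm_num) (by omega))
    · rw [Nat.shiftLeft_eq, show 2 ^ (8 * (n + 1)) = 256 * 2 ^ (8 * n) by
        rw [show 8 * (n + 1) = 8 + 8 * n by ring, pow_add]; norm_num]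
      exact Nat.mul_lt_mul_of_pos_right (hx _) (by positivity)

theorem pk_row {x : ℕ → ℕ} (hx : ∀ m, x m < 256) {n i : ℕ} (h : i < n) : row (pk x n) i = x (2 ^ i) := by
  induction n with
  | zero => omega
  | succ n ih =>
    rw [row_eq, pk_succ]
    apply Nat.eq_of_testBit_eq
    intro j
    have hb : ∀ x : ℕ, ((x >>> (8 * i)) % 256).testBit j = (decide (j < 8) && x.testBit (8 * i + j)) := by
      intro x
      rw [show (256 : ℕ) = 2 ^ 8 by norm_num, Nat.testBit_mod_two_pow, Nat.testBit_shiftRight]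
    rw [hb, Nat.testBit_or, Nat.testBit_shiftLeft]
    rcases Nat.lt_succ_iff_lt_or_eq.1 h with h1 | h1
    · have h2 := ih h1
      rw [row_eq] at h2
      have h3 := congrArg (fun x => Nat.testBit x j) h2
      simp only [hb] at h3
      rw [← h3]
      by_cases hj : j < 8
      · have h4 : ¬ (8 * i + j ≥ 8 * n) := by omega
        simp [hj, h4]
      · simp [hj]
    · subst h1
      by_cases hj : j < 8
      · have h4 : (pk x i).testBit (8 * i + j) = false :=
          Nat.testBit_lt_two_pow ((pk_lt hx i).trans_le (Nat.pow_le_pow_right (by norm_num) (by omega)))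
        simp [hj, h4]
      · have h5 : (x (2 ^ i)).testBit j = false :=
          Nat.testBit_lt_two_pow ((hx _).trans_le
            (le_trans (by norm_num : (256 : ℕ) ≤ 2 ^ 8) (Nat.pow_le_pow_right (by norm_num) (by omega))))
        simp [hj, h5]

theorem mod_succ (s n : ℕ) : s % 2 ^ (n + 1) = (s % 2 ^ n) ^^^ (if s.testBit n then 2 ^ n else 0) := by
  apply Nat.eq_of_testBit_eq
  intro j
  rw [Nat.testBit_mod_two_pow, Nat.testBit_xor, Nat.testBit_mod_two_pow]
  rcases lt_trichotomy j n with h | h | h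
  · have h1 : (if s.testBit n = true then 2 ^ n else 0).testBit j = false := by
      split
      · rw [Nat.testBit_two_pow]; simp; omega
      · simp
    have h2 : j < n + 1 := by omega
    rw [h1]; simp [h, h2]
  · subst h
    cases h1 : s.testBit j
    · simp
    · simp
  · have h1 : (if s.testBit n = true then 2 ^ n else 0).testBit j = false := by
      split
      · rw [Nat.testBit_two_pow]; simp; omega
      · simp
    have h2 : ¬ j < n + 1 := by omega
    have h3 : ¬ j < n := by omega
    rw [h1]; simp [h2, h3]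

theorem Gam.zero {x : ℕ → ℕ} (h : Gam x) : x 0 = 0 := by
  have := h.add 0 0
  rw [Nat.xor_self, Nat.xor_self] at this
  exact this

theorem app_pk {x : ℕ → ℕ} (hx : Gam x) {j s : ℕ} (hj : j ≤ 8) (hs : s < 2 ^ j) : app (pk x j) s = x s := by
  have key : ∀ n ≤ 8, appn (pk x j) s n = x (s % 2 ^ n) := by
    intro n
    induction n with
    | zero => intro _; rw [appn_zero, pow_zero, Nat.mod_one, hx.zero]
    | succ n ih =>
      intro hn
      rw [appn_succ, ih (by omega), mod_succ, hx.add]
      congr 1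
      split
      · rename_i hb
        have hnj : n < j := by
          by_contra hc
          have := Nat.testBit_lt_two_pow (hs.trans_le (Nat.pow_le_pow_right (by norm_num) (not_lt.1 hc)))
          rw [this] at hb
          exact absurd hb (by simp)
        exact pk_row hx.lt hnj
      · exact hx.zero.symm
  have h := key 8 le_rfl
  rw [Nat.mod_eq_of_lt (hs.trans_le (Nat.pow_le_pow_right (by norm_num) hj))] at h
  exact h

theorem chkDDC : allB (fun m => cond (tst CD 0 m) (DD.any (fun y => Nat.beq m y)) true) 256 = true := by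
  decide +kernel

theorem chkFLC : allB (fun m => cond (tst CF 0 m) (FL.any (fun y => Nat.beq m y)) true) 256 = true := by
  decide +kernel

theorem mem_of_chk {C : ℕ} {L : List ℕ}
    (h : allB (fun m => cond (tst C 0 m) (L.any (fun y => Nat.beq m y)) true) 256 = true) {m : ℕ} (hm : m < 256)
    (hC : C.testBit m = true) : m ∈ L := by
  have h1 := (allB_iff _ _).1 h m hm
  have h2 : tst C 0 m = true := by rw [tst_iff, Nat.zero_xor]; exact hC
  rw [h2] at h1
  have h1' : L.any (fun y => Nat.beq m y) = true := h1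
  rw [List.any_eq_true] at h1'
  obtain ⟨y, hy, hy'⟩ := h1'
  rw [Nat.eq_of_beq_eq_true hy']
  exact hy

/-- the tests of the level are consequences of the colours -/
def okT (s C j : ℕ) : Prop := s < 2 ^ j ∧ (C = CD ∨ C = CS ∨ C = CF) ∧ C.testBit (s ^^^ 2 ^ j) = true

theorem tst_of {x : ℕ → ℕ} (hx : Gam x) {s C j : ℕ} (hj : j < 8) (h : okT s C j) :
    tst C (app (pk x j) s) (x (2 ^ j)) = true := by
  obtain ⟨h1, h2, h3⟩ := h
  rw [tst_iff, app_pk hx hj.le h1, ← hx.add]
  have hp : 2 ^ j < 2 ^ 8 := Nat.pow_lt_pow_right (by norm_num) hj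
  have hlt : s ^^^ 2 ^ j < 256 := Nat.xor_lt_two_pow (n := 8) (h1.trans hp) hp
  rcases h2 with rfl | rfl | rfl
  · exact hx.cD _ hlt h3
  · exact hx.cS _ hlt h3
  · exact hx.cF _ hlt h3

/-- validity of a level -/
def okL (l : Lev) (j : ℕ) : Prop :=
  j < 8 ∧ okT l.s1 l.C1 j ∧ okT l.s2 l.C2 j ∧ okT l.s3 l.C3 j ∧
    ((l.L = DD ∧ CD.testBit (2 ^ j) = true) ∨ (l.L = FL ∧ CF.testBit (2 ^ j) = true))

theorem mem_lev {x : ℕ → ℕ} (hx : Gam x) {l : Lev} {j : ℕ} (h : okL l j) : x (2 ^ j) ∈ l.L := by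
  obtain ⟨h0, -, -, -, h5⟩ := h
  have hp : 2 ^ j < 256 := Nat.pow_lt_pow_right (a := 2) (n := 8) (by norm_num) h0
  rcases h5 with ⟨h5, h6⟩ | ⟨h5, h6⟩
  · rw [h5]; exact mem_of_chk chkDDC (hx.lt _) (hx.cD _ hp h6)
  · rw [h5]; exact mem_of_chk chkFLC (hx.lt _) (hx.cF _ hp h6)

theorem onelev_sound {x : ℕ → ℕ} (hx : Gam x) {l : Lev} {j : ℕ} (h : okL l j) {ih : ℕ → ℕ → Bool}
    (hl : onelev ih l j (pk x j) = true) : ih (j + 1) (pk x (j + 1)) = true := by
  unfold onelev at hl
  rw [force_eq, force_eq, force_eq, allN_iff] at hl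
  have h1 := hl _ (mem_lev hx h)
  obtain ⟨h0, t1, t2, t3, -⟩ := h
  unfold stp at h1
  rw [tst_of hx h0 t1, tst_of hx h0 t2, tst_of hx h0 t3, force_eq] at h1
  exact h1

/-- validity of a list of levels -/
def okLs (ls : List Lev) : ℕ → Prop := List.rec (fun _ => True) (fun l _ ih j => okL l j ∧ ih (j + 1)) ls

theorem dfs_sound {x : ℕ → ℕ} (hx : Gam x) : ∀ (ls : List Lev) (j : ℕ), okLs ls j →
    dfs ls j (pk x j) = true → leafOk (pk x (j + ls.length)) = true := by
  intro ls
  induction ls with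
  | nil => intro j _ h; exact h
  | cons l ls ih =>
    intro j hok h
    have h1 := onelev_sound hx hok.1 (ih := dfs ls) h
    have h2 := ih (j + 1) hok.2 h1
    rw [List.length_cons, show j + (ls.length + 1) = j + 1 + ls.length by omega]
    exact h2

theorem okD (s1 C1 s2 C2 s3 C3 j : ℕ) (h0 : j < 8) (h1 : okT s1 C1 j) (h2 : okT s2 C2 j) (h3 : okT s3 C3 j)
    (h4 : CD.testBit (2 ^ j) = true) : okL ⟨DD, s1, C1, s2, C2, s3, C3⟩ j :=
  ⟨h0, h1, h2, h3, Or.inl ⟨rfl, h4⟩⟩

theorem okTD {s j : ℕ} (h1 : s < 2 ^ j) (h : CD.testBit (s ^^^ 2 ^ j) = true) : okT s CD j := ⟨h1, Or.inl rfl, h⟩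
theorem okTS {s j : ℕ} (h1 : s < 2 ^ j) (h : CS.testBit (s ^^^ 2 ^ j) = true) : okT s CS j :=
  ⟨h1, Or.inr (Or.inl rfl), h⟩
theorem okTF {s j : ℕ} (h1 : s < 2 ^ j) (h : CF.testBit (s ^^^ 2 ^ j) = true) : okT s CF j :=
  ⟨h1, Or.inr (Or.inr rfl), h⟩

theorem levs_ok : okLs levs 1 := by
  refine ⟨?_, ?_, ?_, ?_, ?_, ?_, ?_, trivial⟩
  · exact okD 1 CS 1 CS 1 CS 1 (by decide) (okTS (by decide) (by decide +kernel)) (okTS (by decide) (by decide +kernel))
      (okTS (by decide) (by decide +kernel)) (by decide +kernel)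
  · exact okD 1 CD 2 CS 2 CS 2 (by decide) (okTD (by decide) (by decide +kernel)) (okTS (by decide) (by decide +kernel))
      (okTS (by decide) (by decide +kernel)) (by decide +kernel)
  · exact okD 1 CD 2 CD 4 CF 3 (by decide) (okTD (by decide) (by decide +kernel)) (okTD (by decide) (by decide +kernel))
      (okTF (by decide) (by decide +kernel)) (by decide +kernel)
  · exact okD 1 CS 2 CD 8 CS 4 (by decide) (okTS (by decide) (by decide +kernel)) (okTD (by decide) (by decide +kernel))
      (okTS (by decide) (by decide +kernel)) (by decide +kernel)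
  · exact okD 1 CD 6 CD 8 CS 5 (by decide) (okTD (by decide) (by decide +kernel)) (okTD (by decide) (by decide +kernel))
      (okTS (by decide) (by decide +kernel)) (by decide +kernel)
  · exact okD 1 CD 5 CS 62 CD 6 (by decide) (okTD (by decide) (by decide +kernel)) (okTS (by decide) (by decide +kernel))
      (okTD (by decide) (by decide +kernel)) (by decide +kernel)
  · exact ⟨by decide, okTS (s := 1) (by decide) (by decide +kernel), okTD (s := 4) (by decide) (by decide +kernel),
      okTD (s := 30) (by decide) (by decide +kernel), Or.inr ⟨rfl, by decide +kernel⟩⟩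

theorem chkPHI : allB (fun m => Nat.beq (app PHI (app PHI m)) m) 256 = true := by decide +kernel

theorem app_PHI {m : ℕ} (hm : m < 256) : app PHI (app PHI m) = m :=
  Nat.eq_of_beq_eq_true ((allB_iff _ _).1 chkPHI m hm)

theorem leafOk_spec {Y : ℕ} (h : leafOk Y = true) :
    ∃ w : List ℕ, Y = mw w ∨ mul PHI Y = mw w := by
  unfold leafOk at h
  rw [force_eq] at h
  have key : ∀ Z, S5M.any (fun M => Nat.beq Z M) = true → ∃ w : List ℕ, Z = mw w := by
    intro Z hZ
    rw [List.any_eq_true] at hZ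
    obtain ⟨M, hM, h1⟩ := hZ
    rw [← chkS, List.mem_map] at hM
    obtain ⟨w, -, hw⟩ := hM
    exact ⟨w, by rw [hw]; exact Nat.eq_of_beq_eq_true h1⟩
  cases h1 : S5M.any (fun M => Nat.beq Y M)
  · rw [h1] at h
    obtain ⟨w, hw⟩ := key _ h
    exact ⟨w, Or.inr hw⟩
  · obtain ⟨w, hw⟩ := key _ h1
    exact ⟨w, Or.inl hw⟩

/-- the maps fixing the mask 1 -/
theorem gn_one {x : ℕ → ℕ} (hx : Gam x) (h1 : x 1 = 1) :
    ∃ w : List ℕ, (∀ m < 256, x m = app (mw w) m) ∨ (∀ m < 256, x m = app (mw w) (app PHI m)) := by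
  have hp : pk x 1 = 1 := by
    rw [pk_succ, show (2 : ℕ) ^ 0 = 1 by norm_num, h1]
    change 0 ||| 1 <<< (8 * 0) = 1
    decide
  have h2 := dfs_sound hx levs 1 levs_ok (by rw [hp]; exact dfs_levs)
  obtain ⟨w, hw⟩ := leafOk_spec (Y := pk x 8) h2
  refine ⟨w, ?_⟩
  rcases hw with hw | hw
  · left
    intro m hm
    rw [← hw, app_pk hx le_rfl hm]
  · right
    intro m hm
    rw [← hw, app_mul, app_PHI hm, app_pk hx le_rfl hm]

/-! ### inverse words -/

theorem app_append (u v : List ℕ) {m : ℕ} (hm : m < 256) : app (mw (u ++ v)) m = app (mw v) (app (mw u) m) := by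
  induction u generalizing m with
  | nil => rw [List.nil_append, mw_nil, app_MI hm]
  | cons g u ih => rw [List.cons_append, mw_cons, mw_cons, app_mul, app_mul, ih (app_lt _ _)]

/-- inverse of a letter -/
def gi (g : ℕ) : List ℕ :=
  match g with
  | 0 => [0, 0]
  | 1 => [1, 1, 1]
  | _ => [2, 2]

theorem chkgi : allB (fun g => allB (fun m => Bool.and (Nat.beq (app (mw (gi g)) (app (gen g) m)) m)
    (Nat.beq (app (gen g) (app (mw (gi g)) m)) m)) 256) 3 = true := by decide +kernel

theorem gen_ge2 {g : ℕ} (h : 2 ≤ g) : gen g = gen 2 := by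
  obtain ⟨k, rfl⟩ := Nat.exists_eq_add_of_le h
  rw [Nat.add_comm]; rfl

theorem gi_ge {g : ℕ} (h : 2 ≤ g) : gi g = gi 2 := by
  obtain ⟨k, rfl⟩ := Nat.exists_eq_add_of_le h
  rw [Nat.add_comm]; rfl

theorem app_gi (g : ℕ) {m : ℕ} (hm : m < 256) : app (mw (gi g)) (app (gen g) m) = m ∧
    app (gen g) (app (mw (gi g)) m) = m := by
  have key : ∀ g < 3, app (mw (gi g)) (app (gen g) m) = m ∧ app (gen g) (app (mw (gi g)) m) = m := by
    intro g hg
    have h := (allB_iff _ _).1 ((allB_iff _ _).1 chkgi g hg) m hm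
    have h' := (Bool.and_eq_true _ _).mp h
    exact ⟨Nat.eq_of_beq_eq_true h'.1, Nat.eq_of_beq_eq_true h'.2⟩
  rcases Nat.lt_or_ge g 2 with h | h
  · exact key g (by omega)
  · rw [gen_ge2 h, gi_ge h]; exact key 2 (by norm_num)

/-- inverse of a word -/
def iwn (w : List ℕ) : List ℕ := List.rec [] (fun g _ ih => ih ++ gi g) w

theorem app_iwn (w : List ℕ) {m : ℕ} (hm : m < 256) : app (mw (iwn w)) (app (mw w) m) = m ∧
    app (mw w) (app (mw (iwn w)) m) = m := by
  induction w generalizing m with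
  | nil => change app MI (app MI m) = m ∧ app MI (app MI m) = m; rw [app_MI hm, app_MI hm]; exact ⟨rfl, rfl⟩
  | cons g w ih =>
    have h : iwn (g :: w) = iwn w ++ gi g := rfl
    rw [h, mw_cons]
    constructor
    · rw [app_append _ _ (app_lt _ _), app_mul, (ih (app_lt _ _)).1, (app_gi g hm).1]
    · rw [app_append _ _ hm, app_mul, (app_gi g (app_lt _ _)).2, (ih hm).2]

/-! ### the colours are preserved by the words -/

theorem chkcol : allB (fun g => allB (fun m => Bool.and (cond (tst CD 0 m) (tst CD 0 (app (gen g) m)) true)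
    (Bool.and (cond (tst CS 0 m) (tst CS 0 (app (gen g) m)) true) (cond (tst CF 0 m) (tst CF 0 (app (gen g) m)) true))) 256) 3
    = true := by decide +kernel

theorem col_gen (g : ℕ) {m : ℕ} (hm : m < 256) : (CD.testBit m = true → CD.testBit (app (gen g) m) = true) ∧
    (CS.testBit m = true → CS.testBit (app (gen g) m) = true) ∧
    (CF.testBit m = true → CF.testBit (app (gen g) m) = true) := by
  have key : ∀ g < 3, (CD.testBit m = true → CD.testBit (app (gen g) m) = true) ∧
    (CS.testBit m = true → CS.testBit (app (gen g) m) = true) ∧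
    (CF.testBit m = true → CF.testBit (app (gen g) m) = true) := by
    intro g hg
    have h := (allB_iff _ _).1 ((allB_iff _ _).1 chkcol g hg) m hm
    have h' := (Bool.and_eq_true _ _).mp h
    have h'' := (Bool.and_eq_true _ _).mp h'.2
    have one : ∀ C, cond (tst C 0 m) (tst C 0 (app (gen g) m)) true = true → C.testBit m = true →
        C.testBit (app (gen g) m) = true := by
      intro C hC h1
      have h2 : tst C 0 m = true := by rw [tst_iff, Nat.zero_xor]; exact h1
      rw [h2] at hC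
      have h3 := tst_iff.1 hC
      rwa [Nat.zero_xor] at h3
    exact ⟨one _ h'.1, one _ h''.1, one _ h''.2⟩
  rcases Nat.lt_or_ge g 2 with h | h
  · exact key g (by omega)
  · rw [gen_ge2 h]; exact key 2 (by norm_num)

theorem col_mw (w : List ℕ) {m : ℕ} (hm : m < 256) : (CD.testBit m = true → CD.testBit (app (mw w) m) = true) ∧
    (CS.testBit m = true → CS.testBit (app (mw w) m) = true) ∧
    (CF.testBit m = true → CF.testBit (app (mw w) m) = true) := by
  induction w generalizing m with
  | nil => rw [mw_nil, app_MI hm]; exact ⟨id, id, id⟩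
  | cons g w ih =>
    rw [mw_cons, app_mul]
    obtain ⟨a, b, c⟩ := col_gen g hm
    obtain ⟨a', b', c'⟩ := ih (app_lt (gen g) m)
    exact ⟨fun h => a' (a h), fun h => b' (b h), fun h => c' (c h)⟩

/-- **the colour preserving additive maps** -/
theorem gn {x : ℕ → ℕ} (hx : Gam x) :
    ∃ w : List ℕ, (∀ m < 256, x m = app (mw w) m) ∨ (∀ m < 256, x m = app (mw w) (app PHI m)) := by
  have h1 : x 1 ∈ DD := mem_of_chk chkDDC (hx.lt _) (hx.cD 1 (by norm_num) (by decide +kernel))
  obtain ⟨w, -, hw⟩ := exists_DW h1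
  have hx' : Gam (fun m => app (mw (iwn w)) (x m)) :=
    { add := fun a b => by
        change app (mw (iwn w)) (x (a ^^^ b)) = app (mw (iwn w)) (x a) ^^^ app (mw (iwn w)) (x b)
        rw [hx.add, app_xor]
      lt := fun m => app_lt _ _
      cD := fun m hm h => (col_mw _ (hx.lt m)).1 (hx.cD m hm h)
      cS := fun m hm h => (col_mw _ (hx.lt m)).2.1 (hx.cS m hm h)
      cF := fun m hm h => (col_mw _ (hx.lt m)).2.2 (hx.cF m hm h) }
  obtain ⟨u, hu⟩ := gn_one hx' (by
    change app (mw (iwn w)) (x 1) = 1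
    rw [← hw, (app_iwn w (by norm_num)).1])
  refine ⟨u ++ w, ?_⟩
  have key : ∀ m < 256, ∀ y < 256, app (mw (iwn w)) (x m) = app (mw u) y → x m = app (mw (u ++ w)) y := by
    intro m _ y hy h
    rw [app_append _ _ hy, ← h, (app_iwn w (hx.lt m)).2]
  rcases hu with hu | hu
  · left
    intro m hm
    exact key m hm m hm (hu m hm)
  · right
    intro m hm
    exact key m hm _ (app_lt _ _) (hu m hm)

end Cfsg.Agent.KFacts.HN
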