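import Cfsg.Agent.KFacts.HN.Inst
import Cfsg.Agent.HN.XFinal

/-!
# The centraliser of the 2-central involution `W0` of the presented Harada-Norton group

Normal form of the elements of `C(W0)`, the normal subgroup `R = ⟨W0, Q 0, .., Q 7⟩` of order `512`, the action on
`R/⟨W0⟩` by packed matrices.
-/

set_option autoImplicit false

namespace Cfsg.Agent.KFacts.HN

open Cfsg.Agent.HN Cfsg.Agent.HN.Pres Cfsg.Agent.HN.P1408 Cfsg.Agent.HN.H0Basic Cfsg.Agent.HN.XMat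
open Cfsg.Agent.HN.XStruct Cfsg.Agent.HN.XWords Cfsg.Agent.HN.XQuot Cfsg.Agent.HN.FusGen Cfsg.Agent.HN.XInst
open Cfsg.Agent.SporadicA.PermTab (band_eq_true allB allB_iff)

theorem disj : ∀ e ∈ DS W0 (NormalH.ψ τ), e ∉ SS W0 (NormalH.ψ τ) := XFinal.disj inst

theorem W0_ne : W0 ≠ 1 := inst.w_ne

/-- **normal form** -/
theorem nf {u : Cfsg.Spor.HN} (hu : u * W0 = W0 * u) :
    ∃ m < 256, ∃ w ∈ S5W, ∃ w' ∈ DW, ∃ b : Bool, u = r Q m * evw Γ w * evw Γ w' * sgn0 b := by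
  have := finite_HN
  obtain ⟨m, hm, w, hw, w', hw', h⟩ := XClose.normal_form hyp disj (π W0 u)
  have hc1 : W0 * (r Q m * evw Γ w) = r Q m * evw Γ w * W0 := by
    rw [← mul_assoc, cwr, mul_assoc, cwe, mul_assoc]
  have hc : W0 * (r Q m * evw Γ w * evw Γ w') = r Q m * evw Γ w * evw Γ w' * W0 := by
    rw [← mul_assoc, hc1, mul_assoc _ W0, cwe, ← mul_assoc]
  have h1 : π W0 (r Q m * evw Γ w * evw Γ w') = π W0 u := by
    have h2 : P (MonoidHom.id _) (r Q m * evw Γ w * evw Γ w') = r k m * evw γ w * evw γ w' := by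
      rw [P_mul hc1 (cwe w'), P_nf, P_evw]
    rw [h]
    exact h2
  refine ⟨m, hm, w, hw, w', hw', ?_⟩
  rcases (π_eq_iff W0_sq hc.symm hu).1 h1 with h | h
  · exact ⟨false, by rw [h]; exact (mul_one _).symm⟩
  · exact ⟨true, h⟩

theorem csg (b : Bool) (u : Cfsg.Spor.HN) (hu : u * W0 = W0 * u) : u * sgn0 b = sgn0 b * u := by
  cases b
  · exact (mul_one _).trans (one_mul _).symm
  · exact hu

/-- `W0` commutes with the normal forms -/
theorem comm_r (m : ℕ) : r Q m * W0 = W0 * r Q m := (cwr m).symm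

theorem comm_e (w : List ℕ) : evw Γ w * W0 = W0 * evw Γ w := (cwe w).symm

theorem comm_sgn (b : Bool) : sgn0 b * W0 = W0 * sgn0 b := (csgn b).symm

theorem comm_Q {i : ℕ} (hi : i < 8) : Q i * W0 = W0 * Q i := (cw hi).symm

/-- the elements of `R` -/
def IsR (x : Cfsg.Spor.HN) : Prop := ∃ m < 256, ∃ b : Bool, x = r Q m * sgn0 b

/-- product of two masks -/
theorem rr_mul_Q (m : ℕ) : ∀ n ≤ 8, ∀ i < 8, ∃ b : Bool, rr Q m n * Q i = Q i * rr Q m n * sgn0 b := by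
  intro n hn i hi
  exact ⟨_, by rw [rr_comm m hi hn, mul_assoc]⟩

end Cfsg.Agent.KFacts.HN
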