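import Cfsg.Agent.KFacts.HN.Aut0
import Cfsg.Agent.KFacts.LargeOutTwo

/-!
# No outer involution of `Aut(HN)` fixes or multiplies by `w` every element of `C(w)`, `w` of type `2A`
-/

set_option autoImplicit false
set_option Elab.async false

namespace Cfsg.Agent.KFacts.HN

open Cfsg.Agent.HN Cfsg.Agent.HN.Pres Cfsg.Agent.HN.P1408 Cfsg.Agent.HN.H0Basic Cfsg.Agent.HN.XMat
open Cfsg.Agent.HN.XStruct Cfsg.Agent.HN.XWords Cfsg.Agent.HN.XQuot Cfsg.Agent.HN.XInst Cfsg.Agent.HN.FusGen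
open Cfsg.Agent.SporadicA.PermTab (band_eq_true allB allB_iff)
open Cfsg.Agent.KFacts.LargeOutTwo (Z2)

/-- the masks fixed up to `1` by the two matrices -/
def okm (M m : ℕ) : Bool := force (app M m) (fun x => Nat.beq x m || Nat.beq x (Nat.xor m 1))

theorem chkfix : allB (fun m => bif okm MY m then (bif okm MC m then (bif tst CF 0 m then true else
    (Nat.beq m 0 || Nat.beq m 1)) else true) else true) 256 = true := by decide +kernel

theorem app_one : app MY 1 = 1 ∧ app MC 1 = 1 := by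
  constructor <;> decide +kernel

theorem mask_fix {m : ℕ} (hm : m < 256) (h0 : app MY m = m ∨ app MY m = m ^^^ 1)
    (h1 : app MC m = m ∨ app MC m = m ^^^ 1) (hF : ¬ CF.testBit m = true) : m = 0 ∨ m = 1 := by
  have h := (allB_iff _ _).1 chkfix m hm
  have e0 : okm MY m = true := by
    unfold okm
    rw [force_eq, Bool.or_eq_true, Nat.beq_eq, Nat.beq_eq]
    exact h0
  have e1 : okm MC m = true := by
    unfold okm
    rw [force_eq, Bool.or_eq_true, Nat.beq_eq, Nat.beq_eq]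
    exact h1
  have e2 : tst CF 0 m = false := by
    rw [← Bool.not_eq_true, tst_iff, Nat.zero_xor]
    exact hF
  rw [e0, e1, e2] at h
  have h2 : (Nat.beq m 0 || Nat.beq m 1) = true := h
  rw [Bool.or_eq_true, Nat.beq_eq, Nat.beq_eq] at h2
  exact h2

theorem Q0_eq_r : r Q 1 = Q 0 := Bas.r_pow (i := 0) (by norm_num)

theorem Q0_ne_one : Q 0 ≠ 1 := by
  intro h
  have h1 : r Q 1 * sgn0 false = r Q 0 * sgn0 false := by
    rw [Q0_eq_r, h, Bas.r_zero]
  have := (r_sgn_inj (by norm_num) (by norm_num) h1).1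
  omega

theorem Q0_ne_W0 : Q 0 ≠ W0 := by
  intro h
  have h1 : r Q 1 * sgn0 false = r Q 0 * sgn0 true := by
    rw [Q0_eq_r, h, Bas.r_zero, one_mul]
    exact mul_one _
  have := (r_sgn_inj (by norm_num) (by norm_num) h1).1
  omega

theorem Q0_Q0 : Q 0 * Q 0 = 1 := Q_sq (by norm_num)

/-- an element of order 4 of `R` commuting with `Q 0` -/
theorem exists_four : ∃ x ∈ RS, x * Q 0 = Q 0 * x ∧ x * x = W0 := by
  refine ⟨r Q 28, r_mem_RS (by norm_num), CentTwoHN.r_comm_of (by norm_num) (by decide +kernel), ?_⟩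
  have h := kind_F (m := 28) (by norm_num) (by decide +kernel) false
  rwa [show sgn0 false = 1 from rfl, mul_one] at h

/-- the masks of the elements fixed modulo `⟨W0, Q 0⟩` -/
theorem z2_of_fix {e : Cfsg.Spor.HN} (he : e ∈ RS)
    (h : ∀ u : Cfsg.Spor.HN, u * W0 = W0 * u → u * Q 0 = Q 0 * u → Z2 W0 (Q 0) (e⁻¹ * (u⁻¹ * e * u)))
    (hee : e * e = 1) : Z2 W0 (Q 0) e := by
  obtain ⟨m, hm, b, rfl⟩ := mem_RS.1 he
  have hWW := W0_W0
  have hqW := cw (i := 0) (by norm_num)
  -- multiplication by `W0`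
  have hmul : ∀ x : Cfsg.Spor.HN, Z2 W0 (Q 0) (x * W0) → Z2 W0 (Q 0) x := by
    intro x hx
    have e : x = x * W0 * W0 := by rw [mul_assoc, hWW, mul_one]
    rcases hx with h | h | h | h
    · right; left; rw [e, h, one_mul]
    · left; rw [e, h, hWW]
    · right; right; right; rw [e, h]
    · right; right; left; rw [e, h, mul_assoc, hWW, mul_one]
  have key : ∀ (g P : ℕ), mw [g] = P → app P 1 = 1 → app P m = m ∨ app P m = m ^^^ 1 := by
    intro g P hP hP1
    have hu := e_mem_PP [g]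
    have hA : Acts k (π W0 (evw Γ [g])) P := by rw [← hP]; exact acts_e [g]
    obtain ⟨c, hc⟩ := r_conj hu hA 1
    rw [hP1, Q0_eq_r] at hc
    obtain ⟨d, hd⟩ := r_conj hu hA m
    have hsg := csg b (evw Γ [g]) (mem_PP.1 hu)
    -- the conjugate of `e`
    have hce : (evw Γ [g])⁻¹ * (r Q m * sgn0 b) * evw Γ [g] = r Q (app P m) * sgn0 (d ^^ b) := by
      have e1 : (evw Γ [g])⁻¹ * (r Q m * sgn0 b) * evw Γ [g] = (evw Γ [g])⁻¹ * r Q m * (sgn0 b * evw Γ [g]) := by
        group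
      rw [e1, ← hsg]
      calc (evw Γ [g])⁻¹ * r Q m * (evw Γ [g] * sgn0 b) = ((evw Γ [g])⁻¹ * r Q m * evw Γ [g]) * sgn0 b := by group
        _ = _ := by rw [hd, mul_assoc, sgn0_mul]
    have hZ : Z2 W0 (Q 0) ((r Q m * sgn0 b)⁻¹ * ((evw Γ [g])⁻¹ * (r Q m * sgn0 b) * evw Γ [g])) := by
      cases c
      · refine h _ (mem_PP.1 hu) ?_
        rw [show sgn0 false = 1 from rfl, mul_one, mul_assoc, inv_mul_eq_iff_eq_mul] at hc
        exact hc.symm
      · -- correct by an element of `R`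
        obtain ⟨r₁, hr₁, hr₁q⟩ : ∃ r₁ ∈ RS, r₁ * Q 0 ≠ Q 0 * r₁ := by
          by_contra hcon
          push Not at hcon
          rcases cent_RS (fun y hy => (hcon y hy).symm) with h1 | h1
          · exact Q0_ne_one h1
          · exact Q0_ne_W0 h1
        have h1 := (large.comm r₁ hr₁ _ (Q_mem_RS (i := 0) (by norm_num))).resolve_left hr₁q
        have hr₁W := large.comm_z r₁ hr₁
        have h2 := h (evw Γ [g] * r₁) (by
          rw [mul_assoc, hr₁W, ← mul_assoc, mem_PP.1 hu, mul_assoc]) (by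
          have h3 : Q 0 * evw Γ [g] = evw Γ [g] * Q 0 * W0 := by
            rw [mul_assoc, inv_mul_eq_iff_eq_mul] at hc
            rw [hc, mul_assoc]; rfl
          calc evw Γ [g] * r₁ * Q 0 = evw Γ [g] * (r₁ * Q 0) := by group
            _ = evw Γ [g] * Q 0 * (r₁ * W0) := by rw [h1]; group
            _ = evw Γ [g] * Q 0 * W0 * r₁ := by rw [hr₁W]; group
            _ = Q 0 * (evw Γ [g] * r₁) := by rw [← h3]; group)
        -- `r₁` changes the conjugate by at most `W0`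
        have h4 : (evw Γ [g])⁻¹ * (r Q m * sgn0 b) * evw Γ [g] ∈ RS := by
          have := conj_RS (PP.inv_mem hu) he
          rwa [inv_inv] at this
        rcases large.comm r₁ hr₁ _ h4 with h5 | h5
        · have e1 : (r Q m * sgn0 b)⁻¹ * ((evw Γ [g] * r₁)⁻¹ * (r Q m * sgn0 b) * (evw Γ [g] * r₁)) =
              (r Q m * sgn0 b)⁻¹ * ((evw Γ [g])⁻¹ * (r Q m * sgn0 b) * evw Γ [g]) := by
            calc (r Q m * sgn0 b)⁻¹ * ((evw Γ [g] * r₁)⁻¹ * (r Q m * sgn0 b) * (evw Γ [g] * r₁))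
                = (r Q m * sgn0 b)⁻¹ * (r₁⁻¹ * (((evw Γ [g])⁻¹ * (r Q m * sgn0 b) * evw Γ [g]) * r₁)) := by group
              _ = _ := by rw [← h5, inv_mul_cancel_left]
          rwa [e1] at h2
        · apply hmul
          have h6 : ((evw Γ [g])⁻¹ * (r Q m * sgn0 b) * evw Γ [g]) * r₁ =
              r₁ * ((evw Γ [g])⁻¹ * (r Q m * sgn0 b) * evw Γ [g]) * W0 := by
            rw [h5, mul_assoc _ W0, hWW, mul_one]
          have e1 : (r Q m * sgn0 b)⁻¹ * ((evw Γ [g] * r₁)⁻¹ * (r Q m * sgn0 b) * (evw Γ [g] * r₁)) =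
              (r Q m * sgn0 b)⁻¹ * ((evw Γ [g])⁻¹ * (r Q m * sgn0 b) * evw Γ [g]) * W0 := by
            calc (r Q m * sgn0 b)⁻¹ * ((evw Γ [g] * r₁)⁻¹ * (r Q m * sgn0 b) * (evw Γ [g] * r₁))
                = (r Q m * sgn0 b)⁻¹ * (r₁⁻¹ * (((evw Γ [g])⁻¹ * (r Q m * sgn0 b) * evw Γ [g]) * r₁)) := by group
              _ = (r Q m * sgn0 b)⁻¹ * (r₁⁻¹ * (r₁ * ((evw Γ [g])⁻¹ * (r Q m * sgn0 b) * evw Γ [g]) * W0)) := by
                rw [h6]
              _ = _ := by group
          rwa [e1] at h2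
    rw [hce] at hZ
    have hm1 : ∀ b' : Bool, ∃ c' : Bool, r Q m * sgn0 b * (Q 0 * sgn0 b') = r Q (m ^^^ 1) * sgn0 c' := by
      intro b'
      obtain ⟨c₁, hc₁⟩ := r_mul (a := m) (b := 1)
      rw [Q0_eq_r] at hc₁
      refine ⟨c₁ ^^ (b ^^ b'), ?_⟩
      have h3 := csg b (Q 0) (comm_Q (by norm_num))
      calc r Q m * sgn0 b * (Q 0 * sgn0 b') = r Q m * (sgn0 b * Q 0) * sgn0 b' := by group
        _ = r Q m * Q 0 * (sgn0 b * sgn0 b') := by rw [← h3]; group
        _ = _ := by rw [hc₁, sgn0_mul, mul_assoc, sgn0_mul]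
    have hlt : app P m < 256 := by
      rw [← hP]
      exact app_lt _ _
    rcases hZ with h1 | h1 | h1 | h1 <;> rw [inv_mul_eq_iff_eq_mul] at h1
    · left
      rw [mul_one] at h1
      exact mask_unique hlt hm h1
    · left
      rw [show (W0 : Cfsg.Spor.HN) = sgn0 true from rfl, mul_assoc, sgn0_mul] at h1
      exact mask_unique hlt hm h1
    · right
      obtain ⟨c', hc'⟩ := hm1 false
      rw [show sgn0 false = 1 from rfl, mul_one] at hc'
      rw [hc'] at h1
      exact mask_unique hlt (Nat.xor_lt_two_pow (n := 8) hm (by norm_num)) h1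
    · right
      obtain ⟨c', hc'⟩ := hm1 true
      rw [show sgn0 true = W0 from rfl] at hc'
      rw [hc'] at h1
      exact mask_unique hlt (Nat.xor_lt_two_pow (n := 8) hm (by norm_num)) h1
  have k0 := key 0 MY (by decide +kernel) app_one.1
  have k1 := key 1 MC (by decide +kernel) app_one.2
  have hF : ¬ CF.testBit m = true := by
    intro hF
    have := kind_F hm hF b
    rw [hee] at this
    exact W0_ne this.symm
  rcases mask_fix hm k0 k1 hF with rfl | rfl
  · rw [show r Q 0 = 1 from Bas.r_zero, one_mul]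
    cases b
    · exact Or.inl rfl
    · exact Or.inr (Or.inl rfl)
  · rw [Q0_eq_r]
    cases b
    · right; right; left
      exact mul_one _
    · right; right; right
      rfl

/-- the case `w = Q 0` -/
theorem out2_Q0 (β : MulAut Cfsg.Spor.HN) (hββ : β * β = 1) (hq : β (Q 0) = Q 0)
    (h : ∀ c : Cfsg.Spor.HN, c * Q 0 = Q 0 * c → β c = c ∨ β c = Q 0 * c) : ∃ y ∈ RS, β = MulAut.conj y := by
  have hW : β W0 = W0 := by
    obtain ⟨x, _, hxq, hxx⟩ := exists_four
    rw [← hxx, map_mul]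
    rcases h x hxq with h1 | h1
    · rw [h1]
    · rw [h1]
      calc Q 0 * x * (Q 0 * x) = Q 0 * (x * Q 0) * x := by group
        _ = (Q 0 * Q 0) * (x * x) := by rw [hxq]; group
        _ = x * x := by rw [Q0_Q0, one_mul]
  have H : LargeOutTwo.Hyp RS W0 (Q 0) β :=
    { L := large
      hz := hW
      hQ := fun x hx => map_RS hW hx
      hqQ := Q_mem_RS (by norm_num)
      hq1 := Q0_ne_one
      hqz := Q0_ne_W0
      hqq := Q0_Q0
      hq := hq
      hD := fun c _ hc => h c hc }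
  refine aut0 hW (H.triv (fun x _ => ?_) {u | u * W0 = W0 * u ∧ u * Q 0 = Q 0 * u}
    (fun u hu => ⟨hu.1, hu.2, h u hu.2⟩) (fun e he _ hU hee => z2_of_fix he (fun u h1 h2 => hU u ⟨h1, h2⟩) hee))
  have : (β * β) x = x := by rw [hββ]; rfl
  exact this

/-- **no outer involution fixes or multiplies by `w` every element of `C(w)`**, `w` conjugate to `Q 0` -/
theorem out2 (α : MulAut Cfsg.Spor.HN) (hα : ∀ k : Cfsg.Spor.HN, α ≠ MulAut.conj k) (hαα : α * α = 1)
    {w : Cfsg.Spor.HN} (hw : IsConj (Q 0) w) (hαw : α w = w)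
    (h : ∀ c : Cfsg.Spor.HN, c * w = w * c → α c = c ∨ α c = w * c) : False := by
  obtain ⟨g, rfl⟩ := isConj_iff.1 hw
  let β : MulAut Cfsg.Spor.HN := (MulAut.conj g)⁻¹ * α * MulAut.conj g
  have hβ : ∀ x, β x = g⁻¹ * α (g * x * g⁻¹) * g := by
    intro x
    change (MulAut.conj g)⁻¹ (α (MulAut.conj g x)) = _
    rw [← map_inv, MulAut.conj_apply, MulAut.conj_apply, inv_inv]
  obtain ⟨y, -, hy⟩ := out2_Q0 β (by
      calc (MulAut.conj g)⁻¹ * α * MulAut.conj g * ((MulAut.conj g)⁻¹ * α * MulAut.conj g)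
          = (MulAut.conj g)⁻¹ * (α * α) * MulAut.conj g := by group
        _ = 1 := by rw [hαα]; group) (by
      rw [hβ, hαw]; group) (by
      intro c hc
      have h1 : (g * c * g⁻¹) * (g * Q 0 * g⁻¹) = (g * Q 0 * g⁻¹) * (g * c * g⁻¹) := by
        calc (g * c * g⁻¹) * (g * Q 0 * g⁻¹) = g * (c * Q 0) * g⁻¹ := by group
          _ = g * (Q 0 * c) * g⁻¹ := by rw [hc]
          _ = _ := by group
      rw [hβ]
      rcases h _ h1 with h2 | h2
      · left; rw [h2]; group
      · right; rw [h2]; group)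
  apply hα (g * y * g⁻¹)
  have : α = MulAut.conj g * β * (MulAut.conj g)⁻¹ := by
    change α = MulAut.conj g * ((MulAut.conj g)⁻¹ * α * MulAut.conj g) * (MulAut.conj g)⁻¹
    group
  rw [this, hy, ← map_mul, ← map_inv, ← map_mul]

end Cfsg.Agent.KFacts.HN
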