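import Cfsg.Agent.KFacts.HN.Colour
import Cfsg.Agent.KFacts.OutIdx

/-!
# The outer automorphisms of the presented Harada-Norton group

An automorphism fixing `W0` induces on `R/⟨W0⟩` a colour preserving additive map (`gam_of_aut`), hence by `gn` what an
element of `C(W0)` induces, up to the reflection `PHI`. Given that automorphisms trivial on `R/⟨W0⟩` are inner (`Aut0`),
`|Aut : Inn| ≤ 2`.
-/

set_option autoImplicit false
set_option Elab.async false

namespace Cfsg.Agent.KFacts.HN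

open Cfsg.Agent.HN Cfsg.Agent.HN.Pres Cfsg.Agent.HN.P1408 Cfsg.Agent.HN.H0Basic Cfsg.Agent.HN.XMat
open Cfsg.Agent.HN.XStruct Cfsg.Agent.HN.XWords Cfsg.Agent.HN.XQuot Cfsg.Agent.HN.XInst Cfsg.Agent.HN.FusGen
open Cfsg.Agent.SporadicA.PermTab (band_eq_true allB allB_iff)

theorem r_mem_RS' (m : ℕ) : r Q m ∈ RS := by
  have hQ : ∀ i < 8, Q i ∈ RS := fun i hi => by
    have := r_mem_RS (m := 2 ^ i) (Nat.pow_lt_pow_right (by norm_num) hi)
    rwa [Bas.r_pow hi] at this
  have key : ∀ n ≤ 8, rr Q m n ∈ RS := by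
    intro n
    induction n with
    | zero => intro _; exact RS.one_mem
    | succ n ih =>
      intro hn
      rw [rr_succ]
      refine RS.mul_mem (ih (by omega)) ?_
      split
      · exact hQ n (by omega)
      · exact RS.one_mem
  exact key 8 le_rfl

theorem isPGroup_RS_two : IsPGroup 2 RS := by
  rintro ⟨x, hx⟩
  refine ⟨2, Subtype.ext ?_⟩
  obtain ⟨m, -, b, rfl⟩ := mem_RS.1 hx
  obtain ⟨c, hc⟩ := r_mul (a := m) (b := m)
  rw [Nat.xor_self, show r Q 0 = 1 from Bas.r_zero, one_mul] at hc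
  have h1 := sgn_comm b (r_mem_PP m)
  have h2 : (r Q m * sgn0 b) * (r Q m * sgn0 b) = sgn0 c := by
    calc (r Q m * sgn0 b) * (r Q m * sgn0 b) = r Q m * (sgn0 b * r Q m) * sgn0 b := by group
      _ = r Q m * r Q m * (sgn0 b * sgn0 b) := by rw [← h1]; group
      _ = sgn0 c := by rw [hc, sgn0_mul, Bool.xor_self]; exact mul_one _
  change (r Q m * sgn0 b) ^ (2 ^ 2) = 1
  rw [show (2 : ℕ) ^ 2 = 2 + 2 by norm_num, pow_add, pow_two, h2, sgn0_mul, Bool.xor_self]
  rfl

variable {α : MulAut Cfsg.Spor.HN}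

theorem map_PP (hα : α W0 = W0) {x : Cfsg.Spor.HN} (hx : x ∈ PP) : α x ∈ PP := by
  rw [mem_PP] at hx ⊢
  calc α x * W0 = α (x * W0) := by rw [map_mul, hα]
    _ = W0 * α x := by rw [hx, map_mul, hα]

theorem inv_fix (hα : α W0 = W0) : α⁻¹ W0 = W0 := by
  conv_lhs => rw [← hα]
  exact MulAut.inv_apply_self _ _ _

theorem map_RS (hα : α W0 = W0) {x : Cfsg.Spor.HN} (hx : x ∈ RS) : α x ∈ RS := by
  have h1 : RS.map α.toMonoidHom ≤ RS := by
    apply two_group_le
    · rintro _ ⟨y, hy, rfl⟩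
      exact map_PP hα (RS_le_PP hy)
    · rintro u hu _ ⟨y, hy, rfl⟩
      refine ⟨α⁻¹ u * y * (α⁻¹ u)⁻¹, conj_RS (map_PP (inv_fix hα) (MM_le_PP hu)) hy, ?_⟩
      change α (α⁻¹ u * y * (α⁻¹ u)⁻¹) = u * α y * u⁻¹
      rw [map_mul α, map_mul α, map_inv α, MulAut.apply_inv_self]
    · exact isPGroup_RS_two.map _
  exact h1 ⟨x, hx, rfl⟩

theorem mask_unique {m m' : ℕ} (hm : m < 256) (hm' : m' < 256) {b b' : Bool}
    (h : r Q m * sgn0 b = r Q m' * sgn0 b') : m = m' := by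
  apply hyp.toBas.r_inj hm hm'
  have h1 : ∀ m b, π W0 (r Q m * sgn0 b) = r k m := by
    intro m b
    cases b
    · rw [show sgn0 false = 1 from rfl, mul_one, π_r]
    · rw [show sgn0 true = W0 from rfl, π_mul_w W0_sq (comm_r m), π_r]
  rw [← h1 m b, ← h1 m' b', h]

/-- the squares -/
theorem sq_ne_of_conj {A x : Cfsg.Spor.HN} (hA : A * A = 1) (h : IsConj A x) : x * x = 1 := by
  obtain ⟨c, rfl⟩ := isConj_iff.1 h
  calc c * A * c⁻¹ * (c * A * c⁻¹) = c * (A * A) * c⁻¹ := by group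
    _ = 1 := by rw [hA]; group

/-- the map of masks induced by an automorphism fixing `W0` -/
theorem exists_gam (hα : α W0 = W0) : ∃ x : ℕ → ℕ, Gam x ∧ ∀ m, ∃ b : Bool, α (r Q m) = r Q (x m) * sgn0 b := by
  have h0 : ∀ m, ∃ m' < 256, ∃ b : Bool, α (r Q m) = r Q m' * sgn0 b := fun m =>
    mem_RS.1 (map_RS hα (r_mem_RS' m))
  choose x hlt b hb using h0
  refine ⟨x, ?_, fun m => ⟨b m, hb m⟩⟩
  have hsg : ∀ c, α (sgn0 c) = sgn0 c := by
    intro c; cases c
    · exact map_one α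
    · exact hα
  have hQ0 : Q 0 * Q 0 = 1 := Q_sq (by norm_num)
  have hWs : W0 * W0 = 1 := W0_sq
  -- value at `m` is `r Q (x m)` with a sign, for all signs
  have hval : ∀ m c, α (r Q m * sgn0 c) = r Q (x m) * sgn0 (b m ^^ c) := by
    intro m c
    rw [map_mul, hsg, hb, mul_assoc, sgn0_mul]
  have hinv : ∀ u v : Cfsg.Spor.HN, IsConj u v → IsConj (α u) (α v) := fun u v h => α.toMonoidHom.map_isConj h
  have hsq1 : ∀ m < 256, (∀ c, (r Q m * sgn0 c) * (r Q m * sgn0 c) = 1) → ¬ CF.testBit (x m) = true := by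
    intro m _ h hF
    have h2 := kind_F (hlt m) hF (b m)
    rw [← hb m, ← map_mul] at h2
    have h3 := h false
    rw [show sgn0 false = 1 from rfl, mul_one] at h3
    rw [h3, map_one] at h2
    exact W0_ne h2.symm
  have hz : ∀ m < 256, x m = 0 → m = 0 := by
    intro m hm h
    have h2 := hb m
    rw [h, show r Q 0 = 1 from Bas.r_zero, one_mul, ← hsg] at h2
    have h3 := α.injective h2
    apply mask_unique hm (by norm_num : 0 < 256) (b := false) (b' := b m)
    rw [show r Q 0 = 1 from Bas.r_zero, one_mul, ← h3, show sgn0 false = 1 from rfl, mul_one]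
  have hne0 : ∀ C : ℕ, C.testBit 0 = false → ∀ m < 256, C.testBit m = true → x m ≠ 0 := by
    intro C hC m hm h h1
    rw [hz m hm h1, hC] at h
    exact absurd h (by decide)
  refine ⟨?_, hlt, ?_, ?_, ?_⟩
  · intro a c
    obtain ⟨d, hd⟩ := r_mul (a := a) (b := c)
    obtain ⟨d', hd'⟩ := r_mul (a := x a) (b := x c)
    have h1 := congrArg α hd
    rw [map_mul, hb a, hb c, hval] at h1
    have h2 : r Q (x a) * sgn0 (b a) * (r Q (x c) * sgn0 (b c)) =
        r Q (x a ^^^ x c) * sgn0 (d' ^^ (b a ^^ b c)) := by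
      have h3 := sgn_comm (b a) (r_mem_PP (x c))
      calc r Q (x a) * sgn0 (b a) * (r Q (x c) * sgn0 (b c))
          = r Q (x a) * (sgn0 (b a) * r Q (x c)) * sgn0 (b c) := by group
        _ = r Q (x a) * r Q (x c) * (sgn0 (b a) * sgn0 (b c)) := by rw [← h3]; group
        _ = _ := by rw [hd', sgn0_mul, mul_assoc, sgn0_mul]
    rw [h2] at h1
    exact (mask_unique (Nat.xor_lt_two_pow (n := 8) (hlt a) (hlt c)) (hlt _) h1).symm
  · intro m hm h
    have hc := kind_D hm h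
    rcases kinds (hlt m) with h1 | h1 | h1 | h1
    · exact absurd h1 (hne0 CD (by decide +kernel) m hm h)
    · exact h1.1
    · exfalso
      have h2 := h1.2 (b m)
      rw [← hb m] at h2
      have h3 := hinv _ _ (hc false)
      rw [show sgn0 false = 1 from rfl, mul_one] at h3
      have h4 := h3.trans h2.symm
      have h5 : IsConj (α⁻¹ (α (Q 0))) (α⁻¹ W0) := (α⁻¹).toMonoidHom.map_isConj h4
      rw [MulAut.inv_apply_self, inv_fix hα] at h5
      exact not_conj_QW h5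
    · exact absurd h1.1 (hsq1 m hm fun c => sq_ne_of_conj hQ0 (hc c))
  · intro m hm h
    have hc := kind_S hm h
    rcases kinds (hlt m) with h1 | h1 | h1 | h1
    · exact absurd h1 (hne0 CS (by decide +kernel) m hm h)
    · exfalso
      have h2 := h1.2 (b m)
      rw [← hb m] at h2
      have h3 := hinv _ _ (hc false)
      rw [show sgn0 false = 1 from rfl, mul_one, hα] at h3
      exact not_conj_QW (h2.trans h3.symm)
    · exact h1.1
    · exact absurd h1.1 (hsq1 m hm fun c => sq_ne_of_conj hWs (hc c))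
  · intro m hm h
    have hc := kind_F hm h
    have hno : ∀ A : Cfsg.Spor.HN, A * A = 1 → ¬ IsConj A (r Q (x m) * sgn0 (b m)) := by
      intro A hA h2
      have h3 := sq_ne_of_conj hA h2
      rw [← hb m, ← map_mul] at h3
      have h4 := hc false
      rw [show sgn0 false = 1 from rfl, mul_one] at h4
      rw [h4, hα] at h3
      exact W0_ne h3
    rcases kinds (hlt m) with h1 | h1 | h1 | h1
    · exact absurd h1 (hne0 CF (by decide +kernel) m hm h)
    · exact absurd (h1.2 _) (hno _ hQ0)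
    · exact absurd (h1.2 _) (hno _ hWs)
    · exact h1.1

/-- automorphisms fixing `W0` and trivial on `R/⟨W0⟩` are inner -/
def Aut0 : Prop := ∀ α : MulAut Cfsg.Spor.HN, α W0 = W0 → (∀ x ∈ RS, α x = x ∨ α x = x * W0) →
  ∃ r ∈ RS, α = MulAut.conj r

/-- form of an automorphism fixing `W0` -/
theorem aut_form (hα : α W0 = W0) : ∃ u ∈ PP, (∀ m < 256, ∃ b : Bool, (MulAut.conj u * α) (r Q m) = r Q m * sgn0 b) ∨
    (∀ m < 256, ∃ b : Bool, (MulAut.conj u * α) (r Q m) = r Q (app PHI m) * sgn0 b) := by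
  obtain ⟨x, hx, hxα⟩ := exists_gam hα
  obtain ⟨w, hw⟩ := gn hx
  refine ⟨evw Γ w, e_mem_PP w, ?_⟩
  have key : ∀ m y, y < 256 → x m = app (mw w) y → ∃ b : Bool, (MulAut.conj (evw Γ w) * α) (r Q m) = r Q y * sgn0 b := by
    intro m y hy h
    obtain ⟨b, hb⟩ := hxα m
    obtain ⟨c, hc⟩ := r_conj (e_mem_PP w) (acts_e w) y
    refine ⟨c ^^ b, ?_⟩
    rw [MulAut.mul_apply, hb, h, MulAut.conj_apply]
    have h1 := sgn_comm c (e_mem_PP w)
    have h2 := sgn_comm b (PP.inv_mem (e_mem_PP w))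
    have h3 : r Q (app (mw w) y) = (evw Γ w)⁻¹ * r Q y * evw Γ w * sgn0 c := by
      rw [hc, mul_assoc, sgn0_mul, Bool.xor_self]
      exact (mul_one _).symm
    have h4 := sgn_comm c (PP.inv_mem (e_mem_PP w))
    rw [h3]
    calc evw Γ w * ((evw Γ w)⁻¹ * r Q y * evw Γ w * sgn0 c * sgn0 b) * (evw Γ w)⁻¹
        = r Q y * evw Γ w * sgn0 c * (sgn0 b * (evw Γ w)⁻¹) := by group
      _ = r Q y * evw Γ w * (sgn0 c * (evw Γ w)⁻¹) * sgn0 b := by rw [← h2]; group
      _ = r Q y * (sgn0 c * sgn0 b) := by rw [← h4]; group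
      _ = r Q y * sgn0 (c ^^ b) := by rw [sgn0_mul]
  rcases hw with hw | hw
  · left
    intro m hm
    exact key m m hm (hw m hm)
  · right
    intro m hm
    exact key m _ (app_lt _ _) (hw m hm)

theorem triv_of_masks {β : MulAut Cfsg.Spor.HN} (hβ : β W0 = W0)
    (h : ∀ m < 256, ∃ b : Bool, β (r Q m) = r Q m * sgn0 b) : ∀ x ∈ RS, β x = x ∨ β x = x * W0 := by
  intro x hx
  obtain ⟨m, hm, c, rfl⟩ := mem_RS.1 hx
  obtain ⟨b, hb⟩ := h m hm
  have hsg : β (sgn0 c) = sgn0 c := by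
    cases c
    · exact map_one β
    · exact hβ
  rw [map_mul, hsg, hb]
  cases b
  · left; rw [show sgn0 false = 1 from rfl, mul_one]
  · right
    rw [show sgn0 true = W0 from rfl, mul_assoc, mul_assoc]
    congr 1
    exact (comm_sgn c).symm

theorem conj_fix {u : Cfsg.Spor.HN} (hu : u ∈ PP) : MulAut.conj u W0 = W0 := by
  rw [MulAut.conj_apply, mem_PP.1 hu, mul_inv_cancel_right]

/-- two automorphisms fixing `W0` -/
theorem aut_pair (h0 : Aut0) (α β : MulAut Cfsg.Spor.HN) (hα : α W0 = W0) (hβ : β W0 = W0) :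
    α ∈ (MulAut.conj : Cfsg.Spor.HN →* MulAut Cfsg.Spor.HN).range ∨
    β ∈ (MulAut.conj : Cfsg.Spor.HN →* MulAut Cfsg.Spor.HN).range ∨
    α * β⁻¹ ∈ (MulAut.conj : Cfsg.Spor.HN →* MulAut Cfsg.Spor.HN).range := by
  set I := (MulAut.conj : Cfsg.Spor.HN →* MulAut Cfsg.Spor.HN).range with hI
  have hmem : ∀ u, MulAut.conj u ∈ I := fun u => ⟨u, rfl⟩
  have one : ∀ γ : MulAut Cfsg.Spor.HN, γ W0 = W0 → (∀ m < 256, ∃ b : Bool, γ (r Q m) = r Q m * sgn0 b) → γ ∈ I := by
    intro γ hγ h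
    obtain ⟨s, -, e⟩ := h0 γ hγ (triv_of_masks hγ h)
    rw [e]; exact hmem s
  have fixu : ∀ {γ : MulAut Cfsg.Spor.HN}, γ W0 = W0 → ∀ {u}, u ∈ PP → (MulAut.conj u * γ) W0 = W0 := by
    intro γ hγ u hu
    rw [MulAut.mul_apply, hγ, conj_fix hu]
  obtain ⟨u, hu, hu'⟩ := aut_form hα
  obtain ⟨v, hv, hv'⟩ := aut_form hβ
  rcases hu' with hu' | hu'
  · left
    have h1 := I.mul_mem (I.inv_mem (hmem u)) (one _ (fixu hα hu) hu')
    rwa [inv_mul_cancel_left] at h1
  rcases hv' with hv' | hv'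
  · right; left
    have h1 := I.mul_mem (I.inv_mem (hmem v)) (one _ (fixu hβ hv) hv')
    rwa [inv_mul_cancel_left] at h1
  right; right
  set α' := MulAut.conj u * α with hα'
  set β' := MulAut.conj v * β with hβ'
  have hβf : β' W0 = W0 := fixu hβ hv
  have hαf : α' W0 = W0 := fixu hα hu
  have hβi : β'⁻¹ W0 = W0 := inv_fix hβf
  have hγ : α' * β'⁻¹ ∈ I := by
    apply one
    · rw [MulAut.mul_apply, hβi, hαf]
    · intro m hm
      obtain ⟨b, hb⟩ := hv' (app PHI m) (app_lt _ _)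
      rw [app_PHI hm] at hb
      obtain ⟨c, hc⟩ := hu' (app PHI m) (app_lt _ _)
      rw [app_PHI hm] at hc
      have hsg : ∀ (δ : MulAut Cfsg.Spor.HN), δ W0 = W0 → ∀ c, δ (sgn0 c) = sgn0 c := by
        intro δ hδ c; cases c
        · exact map_one δ
        · exact hδ
      have h3 : β'⁻¹ (r Q m) = r Q (app PHI m) * sgn0 b := by
        have h4 : β' (r Q (app PHI m) * sgn0 b) = r Q m := by
          rw [map_mul, hb, hsg β' hβf, mul_assoc, sgn0_mul, Bool.xor_self]
          exact mul_one _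
        rw [← h4, MulAut.inv_apply_self]
      refine ⟨c ^^ b, ?_⟩
      rw [MulAut.mul_apply, h3, map_mul, hc, hsg α' hαf, mul_assoc, sgn0_mul]
  have h5 : α * β⁻¹ = (MulAut.conj u)⁻¹ * (α' * β'⁻¹) * MulAut.conj v := by
    rw [hα', hβ']; group
  rw [h5]
  exact I.mul_mem (I.mul_mem (I.inv_mem (hmem u)) hγ) (hmem v)

end Cfsg.Agent.KFacts.HN
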