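import Cfsg.Agent.KFacts.HN.Inst
import Cfsg.Agent.HN.XFinal

/-!
# The order of the centraliser of a 2-central involution of HN

`nf_exists`, `nf_inj`: the normal form `r m * (word of S5W) * (word of DW)` in `C(W0)/⟨W0⟩` is unique;
`card_centralizer`: `|C(W0)| = 3686400 = 2^14 · 225`.
-/

set_option autoImplicit false

namespace Cfsg.Agent.KFacts.HN.PCard

open Cfsg.Agent.HN.Pres Cfsg.Agent.HN.P1408 Cfsg.Agent.HN.H0Basic Cfsg.Agent.HN.XMat
open Cfsg.Agent.HN.XStruct Cfsg.Agent.HN.XWords Cfsg.Agent.HN.XQuot Cfsg.Agent.HN.FusGen Cfsg.Agent.HN.XInst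

theorem disj : ∀ e ∈ DS W0 (Cfsg.Agent.HN.NormalH.ψ τ), e ∉ SS W0 (Cfsg.Agent.HN.NormalH.ψ τ) :=
  Cfsg.Agent.HN.XFinal.disj inst

theorem nf_exists (x : KK W0) : ∃ m < 256, ∃ w ∈ S5W, ∃ w' ∈ DW, x = r k m * evw γ w * evw γ w' := by
  have := finite_HN
  exact Cfsg.Agent.HN.XClose.normal_form hyp disj x

theorem chkS1 : S5M.all (fun A => Nat.beq (app A 1) 1) = true := by decide +kernel

theorem app_S5 {w : List ℕ} (hw : w ∈ S5W) : app (mw w) 1 = 1 :=
  Nat.eq_of_beq_eq_true (List.all_eq_true.1 chkS1 _ (mem_S5M hw))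

theorem nodupDW : (DW.map (fun w => app (mw w) 1)).Nodup := by
  have h : DW.map (fun w => app (mw w) 1) = DD := by
    rw [← chkDD, ← chkD, List.map_map]
    rfl
  rw [h]
  exact nodupD

theorem nf_inj {m m' : ℕ} (hm : m < 256) (hm' : m' < 256) {w v : List ℕ} (hw : w ∈ S5W) (hv : v ∈ S5W)
    {w' v' : List ℕ} (hw' : w' ∈ DW) (hv' : v' ∈ DW)
    (e : r k m * evw γ w * evw γ w' = r k m' * evw γ v * evw γ v') : m = m' ∧ w = v ∧ w' = v' := by
  have h := hyp
  have B := h.toBas
  have A1 : Acts k (r k m * evw γ w * evw γ w') (mul (mw w) (mw w')) :=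
    B.acts_mul (B.acts_rmul (B.acts_evw w) m) (B.acts_evw w')
  have A2 : Acts k (r k m' * evw γ v * evw γ v') (mul (mw v) (mw v')) :=
    B.acts_mul (B.acts_rmul (B.acts_evw v) m') (B.acts_evw v')
  rw [← e] at A2
  have h1 : mul (mw w) (mw w') = mul (mw v) (mw v') :=
    pack_ext (mul_lt _ _) (mul_lt _ _) fun i hi => B.acts_unique A1 A2 hi
  have h2 := congrArg (fun P => app P 1) h1
  simp only [app_mul, app_S5 hw, app_S5 hv] at h2
  have h3 : w' = v' := List.inj_on_of_nodup_map nodupDW hw' hv' h2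
  subst h3
  have h4 : r k m * evw γ w = r k m' * evw γ v := mul_right_cancel e
  have A3 : Acts k (r k m * evw γ w) (mw w) := B.acts_rmul (B.acts_evw w) m
  have A4 : Acts k (r k m' * evw γ v) (mw v) := B.acts_rmul (B.acts_evw v) m'
  rw [← h4] at A4
  have h5 : mw w = mw v := pack_ext (mw_lt _) (mw_lt _) fun i hi => B.acts_unique A3 A4 hi
  have h6 := mw_injOn hw hv h5
  subst h6
  exact ⟨B.r_inj hm hm' (mul_right_cancel h4), rfl, rfl⟩

theorem length_S5W : S5W.length = 120 := by decide +kernel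
theorem length_DW : DW.length = 60 := by decide +kernel

theorem nodup_S5W : S5W.Nodup := List.Nodup.of_map mw (by rw [chkS]; exact nodupS)
theorem nodup_DW : DW.Nodup := List.Nodup.of_map _ nodupDW

/-- the order of `C(W0)/⟨W0⟩` -/
theorem card_KK : Nat.card (KK W0) = 1843200 := by
  have := finite_HN
  let F : Fin 256 × Fin S5W.length × Fin DW.length → KK W0 := fun a =>
    r k a.1 * evw γ (S5W.get a.2.1) * evw γ (DW.get a.2.2)
  have hF : Function.Bijective F := by
    constructor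
    · rintro ⟨a, b, c⟩ ⟨a', b', c'⟩ hab
      obtain ⟨h1, h2, h3⟩ := nf_inj a.2 a'.2 (List.get_mem S5W b) (List.get_mem S5W b')
        (List.get_mem DW c) (List.get_mem DW c') hab
      have h4 : a = a' := Fin.ext h1
      have h5 : b = b' := (List.nodup_iff_injective_get.1 nodup_S5W) h2
      have h6 : c = c' := (List.nodup_iff_injective_get.1 nodup_DW) h3
      rw [h4, h5, h6]
    · intro x
      obtain ⟨m, hm, w, hw, w', hw', rfl⟩ := nf_exists x
      obtain ⟨i, hi⟩ := List.mem_iff_get.1 hw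
      obtain ⟨j, hj⟩ := List.mem_iff_get.1 hw'
      refine ⟨(⟨m, hm⟩, i, j), ?_⟩
      change r k m * evw γ (S5W.get i) * evw γ (DW.get j) = _
      rw [hi, hj]
  have h1 := Nat.card_eq_of_bijective F hF
  rw [← h1, Nat.card_prod, Nat.card_prod, Nat.card_fin, Nat.card_fin, Nat.card_fin, length_S5W, length_DW]

theorem W0_ne_one : W0 ≠ 1 := by
  intro h
  have h1 : W0 ∈ Subgroup.center Cfsg.Spor.HN := by rw [h]; exact one_mem _
  have := inst.w_ne
  exact this h

/-- **The order of the centraliser of `W0`** -/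
theorem card_centralizer : Nat.card (Subgroup.centralizer ({W0} : Set Cfsg.Spor.HN)) = 3686400 := by
  have := finite_HN
  have h1 := Subgroup.card_eq_card_quotient_mul_card_subgroup (Zw W0)
  have h2 : Nat.card (Subgroup.centralizer ({W0} : Set Cfsg.Spor.HN) ⧸ Zw W0) = 1843200 := card_KK
  have h3 : Nat.card (Zw W0) = 2 := by
    rw [Zw, Nat.card_zpowers]
    refine orderOf_eq_prime ?_ ?_
    · apply Subtype.ext
      change W0 ^ 2 = 1
      rw [pow_two, W0_sq]
    · intro h
      exact W0_ne_one (congrArg Subtype.val h)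
  rw [h2, h3] at h1
  rw [h1]

end Cfsg.Agent.KFacts.HN.PCard
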