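import Cfsg.Agent.KFacts.HN.Norm
import Cfsg.Agent.Lib.AltCarmichael

/-!
# `C(W0)/R = (A5 × A5).2`

The quotient `Lq` of `C(W0)` by `R = O_2(C(W0))`: it contains `A5 × A5` with index two and the remaining elements swap
the factors.
-/

set_option autoImplicit false
set_option Elab.async false

namespace Cfsg.Agent.KFacts.HN

open Cfsg.Agent.HN Cfsg.Agent.HN.Pres Cfsg.Agent.HN.P1408 Cfsg.Agent.HN.H0Basic Cfsg.Agent.HN.XMat
open Cfsg.Agent.HN.XStruct Cfsg.Agent.HN.XWords Cfsg.Agent.HN.XQuot Cfsg.Agent.HN.FusGen Cfsg.Agent.HN.XInst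
open Cfsg.Agent.HN.Closing
open Cfsg.Agent
open Cfsg.Agent.SporadicA.PermTab (band_eq_true allB allB_iff)
open Cfsg.Agent.Lib.AltCarmichael (Rel exists_hom cyc cyc_mem)

/-- `R/⟨W0⟩` -/
noncomputable def Rk : Subgroup (KK W0) := XStruct.R hyp.toBas

theorem mem_Rk {x : KK W0} : x ∈ Rk ↔ ∃ m < 256, x = r k m := Iff.rfl

theorem acts_mem {x : KK W0} {P : ℕ} (hx : Acts k x P) {y : KK W0} (hy : y ∈ Rk) : x⁻¹ * y * x ∈ Rk := by
  obtain ⟨m, hm, rfl⟩ := hy
  rw [hyp.toBas.acts_r hx]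
  exact r_mem_R _ (app_lt _ _)

/-- every element acts by a matrix -/
theorem exists_acts (x : KK W0) : ∃ w ∈ S5W, ∃ w' ∈ DW, Acts k x (mul (mw w) (mw w')) := by
  have := finite_HN
  obtain ⟨m, _, w, hw, w', hw', rfl⟩ := XClose.normal_form hyp disj x
  exact ⟨w, hw, w', hw', hyp.acts_nf m w w'⟩

instance normal_Rk : Rk.Normal := by
  refine ⟨fun n hn g => ?_⟩
  obtain ⟨w, _, w', _, h⟩ := exists_acts g⁻¹
  have := acts_mem h hn
  rwa [inv_inv] at this

/-- `C(W0)/R` -/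
abbrev Lq : Type := KK W0 ⧸ Rk

theorem acts_unique' {x : KK W0} {P P' : ℕ} (hP : P < 2 ^ 64) (hP' : P' < 2 ^ 64) (h : Acts k x P) (h' : Acts k x P') :
    P = P' := pack_ext hP hP' fun i hi => hyp.toBas.acts_unique h h' hi

/-- class of a word -/
noncomputable def e (w : List ℕ) : Lq := QuotientGroup.mk (evw γ w)

theorem evw_append (v w : List ℕ) : evw γ (v ++ w) = evw γ v * evw γ w := by
  unfold evw; rw [List.map_append, List.prod_append]

theorem e_append (v w : List ℕ) : e (v ++ w) = e v * e w := by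
  unfold e; rw [evw_append]; rfl

theorem e_nil : e [] = 1 := rfl

theorem e_eq {v w : List ℕ} (h : mw v = mw w) : e v = e w := by
  have h1 := hyp.toBas.acts_evw v
  have h2 := hyp.toBas.acts_evw w
  rw [← h] at h2
  have h3 : evw γ v * (evw γ w)⁻¹ ∈ Rk := hyp.quot_mem h2 h1
  unfold e
  rw [QuotientGroup.eq]
  have h4 := normal_Rk.conj_mem _ (Rk.inv_mem h3) (evw γ v)⁻¹
  have h5 : (evw γ v)⁻¹ * evw γ w = (evw γ v)⁻¹ * (evw γ v * (evw γ w)⁻¹)⁻¹ * (evw γ v)⁻¹⁻¹ := by group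
  rw [h5]; exact h4

theorem mw_of_e {v w : List ℕ} (h : e v = e w) : mw v = mw w := by
  unfold e at h
  rw [QuotientGroup.eq] at h
  have h0 := normal_Rk.conj_mem _ h (evw γ v)
  obtain ⟨m, hm, h1⟩ := mem_Rk.1 h0
  have h2 : evw γ w = r k m * evw γ v := by rw [← h1]; group
  have h3 : Acts k (evw γ w) (mw v) := by
    rw [h2]
    exact hyp.toBas.acts_rmul (hyp.toBas.acts_evw v) m
  exact acts_unique' (mw_lt _) (mw_lt _) h3 (hyp.toBas.acts_evw w)

theorem e_eq_iff {v w : List ℕ} : e v = e w ↔ mw v = mw w := ⟨mw_of_e, e_eq⟩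

/-- inverse of the letter 1 -/
theorem e_inv1 : (e [1])⁻¹ = e [1, 1, 1] := by
  rw [inv_eq_iff_mul_eq_one, ← e_append, ← e_nil]
  exact e_eq (by decide +kernel)

/-- words for three 3-cycles of the first factor -/
def aw (i : ℕ) : List ℕ :=
  match i with
  | 0 => [0, 2, 0, 2]
  | 1 => [0, 1, 1, 1, 0, 2, 1]
  | _ => [0, 0, 2, 0, 2, 2, 0, 2]

/-- words for three 3-cycles of the second factor -/
def bw (i : ℕ) : List ℕ := [1, 1, 1] ++ aw i ++ [1]

theorem rel_a : Rel 3 (fun i => e (aw i)) where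
  cube i hi := by
    rw [pow_three, ← e_append, ← e_append, ← e_nil]
    apply e_eq
    have h : ∀ i < 3, mw (aw i ++ (aw i ++ aw i)) = mw [] := by decide +kernel
    exact h i hi
  sq i hi j hj hij := by
    rw [pow_two, ← e_append, ← e_append, ← e_nil]
    apply e_eq
    have h : ∀ i < 3, ∀ j < 3, i ≠ j → mw (aw i ++ aw j ++ (aw i ++ aw j)) = mw [] := by decide +kernel
    exact h i hi j hj hij

/-- the group `A5` -/
abbrev A5 : Type := alternatingGroup (Fin 5)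

/-- the first factor -/
noncomputable def φA : A5 →* Lq := (exists_hom (m := 3) (by norm_num) rel_a).choose

theorem φA_cyc {i : ℕ} (hi : i < 3) : φA ⟨cyc 3 i, cyc_mem 3 i hi⟩ = e (aw i) :=
  (exists_hom (m := 3) (by norm_num) rel_a).choose_spec i hi

/-- the second factor: the conjugate under the letter 1 -/
noncomputable def φB : A5 →* Lq := (MulAut.conj (e [1])⁻¹).toMonoidHom.comp φA

theorem φB_apply (x : A5) : φB x = (e [1])⁻¹ * φA x * e [1] := by
  change (e [1])⁻¹ * φA x * (e [1])⁻¹⁻¹ = _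
  rw [inv_inv]

theorem φB_cyc {i : ℕ} (hi : i < 3) : φB ⟨cyc 3 i, cyc_mem 3 i hi⟩ = e (bw i) := by
  rw [φB_apply, φA_cyc hi, e_inv1, ← e_append, ← e_append]
  rfl

theorem top_of_gens {T : Subgroup A5} (h : ∀ (i : ℕ) (hi : i < 3), (⟨cyc 3 i, cyc_mem 3 i hi⟩ : A5) ∈ T) :
    T = ⊤ := by
  rw [eq_top_iff]
  intro s _
  have h1 : (s : Equiv.Perm (Fin 5)) ∈ T.map (alternatingGroup (Fin 5)).subtype := by
    have h2 : (s : Equiv.Perm (Fin 5)) ∈ Lib.AltCarmichael.gen 3 (cyc 3) := by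
      rw [Lib.AltCarmichael.gen_cyc 3 (by norm_num)]
      exact s.2
    have h3 : Lib.AltCarmichael.gen 3 (cyc 3) ≤ T.map (alternatingGroup (Fin 5)).subtype := by
      rw [Lib.AltCarmichael.gen_def, Subgroup.closure_le]
      rintro _ ⟨i, hi, rfl⟩
      exact ⟨_, h i hi, rfl⟩
    exact h3 h2
  obtain ⟨t, ht, e⟩ := h1
  have : t = s := Subtype.ext e
  rwa [← this]

theorem hom_eq_of_gens {G : Type*} [Group G] {f g : A5 →* G}
    (h : ∀ (i : ℕ) (hi : i < 3), f ⟨cyc 3 i, cyc_mem 3 i hi⟩ = g ⟨cyc 3 i, cyc_mem 3 i hi⟩) : f = g := by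
  have h1 : f.eqLocus g = ⊤ := top_of_gens h
  ext x
  have : x ∈ f.eqLocus g := by rw [h1]; exact Subgroup.mem_top x
  exact this

theorem chk_ab : ∀ i < 3, ∀ j < 3, mw (aw i ++ bw j) = mw (bw j ++ aw i) := by decide +kernel

theorem comm_AB (x y : A5) : φA x * φB y = φB y * φA x := by
  have h1 : ∀ (i : ℕ) (hi : i < 3) (y : A5), e (aw i) * φB y = φB y * e (aw i) := by
    intro i hi y
    have h2 : ((Subgroup.centralizer {e (aw i)}).comap φB) = ⊤ := by
      refine top_of_gens fun j hj => ?_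
      rw [Subgroup.mem_comap, φB_cyc hj, Subgroup.mem_centralizer_singleton_iff, ← e_append, ← e_append]
      exact e_eq (chk_ab i hi j hj).symm
    have h3 : y ∈ (Subgroup.centralizer {e (aw i)}).comap φB := by rw [h2]; exact Subgroup.mem_top y
    rw [Subgroup.mem_comap, Subgroup.mem_centralizer_singleton_iff] at h3
    exact h3.symm
  have h2 : ((Subgroup.centralizer {φB y}).comap φA) = ⊤ := by
    refine top_of_gens fun i hi => ?_
    rw [Subgroup.mem_comap, φA_cyc hi, Subgroup.mem_centralizer_singleton_iff]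
    exact h1 i hi y
  have h3 : x ∈ (Subgroup.centralizer {φB y}).comap φA := by rw [h2]; exact Subgroup.mem_top x
  rw [Subgroup.mem_comap, Subgroup.mem_centralizer_singleton_iff] at h3
  exact h3

theorem aw0_ne : e (aw 0) ≠ 1 := by
  intro h
  rw [← e_nil, e_eq_iff] at h
  exact absurd h (by decide +kernel)

theorem φA_inj : Function.Injective φA := by
  have h1 := φA.normal_ker.eq_bot_or_eq_top
  rcases h1 with h1 | h1
  · exact (MonoidHom.ker_eq_bot_iff φA).1 h1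
  · exfalso
    apply aw0_ne
    rw [← φA_cyc (by norm_num)]
    have : (⟨cyc 3 0, cyc_mem 3 0 (by norm_num)⟩ : A5) ∈ φA.ker := by rw [h1]; exact Subgroup.mem_top _
    exact this

theorem φB_inj : Function.Injective φB := (MulAut.conj (e [1])⁻¹).injective.comp φA_inj

/-- `A5 × A5` in `Lq` -/
noncomputable def φ2 : A5 × A5 →* Lq := φA.noncommCoprod φB comm_AB

theorem φ2_apply (x : A5 × A5) : φ2 x = φA x.1 * φB x.2 := rfl

/-- the subgroup `A5 × A5` -/
noncomputable def LL : Subgroup Lq := φ2.range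

theorem mem_LL {x : Lq} : x ∈ LL ↔ ∃ a b : A5, φA a * φB b = x := by
  unfold LL
  rw [MonoidHom.mem_range]
  constructor
  · rintro ⟨⟨a, b⟩, h⟩; exact ⟨a, b, h⟩
  · rintro ⟨a, b, h⟩; exact ⟨⟨a, b⟩, h⟩

theorem A_mem (a : A5) : φA a ∈ LL := mem_LL.2 ⟨a, 1, by rw [map_one, mul_one]⟩

theorem B_mem (b : A5) : φB b ∈ LL := mem_LL.2 ⟨1, b, by rw [map_one, one_mul]⟩

/-- evaluation of words in the six 3-cycles -/
def abw (l : List ℕ) : List ℕ := (l.map fun i => if i < 3 then aw i else bw (i - 3)).flatten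

theorem abw_mem (l : List ℕ) (h : ∀ i ∈ l, i < 6) : e (abw l) ∈ LL := by
  induction l with
  | nil => exact LL.one_mem
  | cons i l ih =>
    have h1 : abw (i :: l) = (if i < 3 then aw i else bw (i - 3)) ++ abw l := rfl
    rw [h1, e_append]
    refine LL.mul_mem ?_ (ih fun j hj => h j (List.mem_cons_of_mem _ hj))
    have hi := h i List.mem_cons_self
    split
    · rename_i h3
      rw [← φA_cyc h3]; exact A_mem _
    · have h3 : i - 3 < 3 := by omega
      rw [← φB_cyc h3]; exact B_mem _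

theorem mem_LL_of {w l : List ℕ} (hl : ∀ i ∈ l, i < 6) (h : mw w = mw (abw l)) : e w ∈ LL := by
  rw [e_eq h]; exact abw_mem l hl

theorem e0_mem : e [0] ∈ LL := mem_LL_of (l := [2, 2, 3]) (by decide) (by decide +kernel)
theorem e2_mem : e [2] ∈ LL := mem_LL_of (l := [2, 0, 0, 4]) (by decide) (by decide +kernel)
theorem e11_mem : e [1, 1] ∈ LL := mem_LL_of (l := [0, 1, 2, 0, 0, 3, 4, 5, 3, 3]) (by decide) (by decide +kernel)


/-- conjugation of the factors by the letter 1 -/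
theorem e1_conj_A (x : A5) : (e [1])⁻¹ * φA x * e [1] = φB x := (φB_apply x).symm

theorem e1_conj_LL {x : Lq} (hx : x ∈ LL) : (e [1])⁻¹ * x * e [1] ∈ LL := by
  obtain ⟨a, b, rfl⟩ := mem_LL.1 hx
  have h1 : (e [1])⁻¹ * (φA a * φB b) * e [1] = φB a * ((e [1, 1])⁻¹ * φA b * e [1, 1]) := by
    rw [φB_apply, φB_apply, show ([1, 1] : List ℕ) = [1] ++ [1] from rfl, e_append]; group
  rw [h1]
  exact LL.mul_mem (B_mem a) (LL.mul_mem (LL.mul_mem (LL.inv_mem e11_mem) (A_mem b)) e11_mem)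

theorem e1_conj_LL' {x : Lq} (hx : x ∈ LL) : e [1] * x * (e [1])⁻¹ ∈ LL := by
  have h1 : e [1] * x * (e [1])⁻¹ = e [1, 1] * ((e [1])⁻¹ * x * e [1]) * (e [1, 1])⁻¹ := by
    rw [show ([1, 1] : List ℕ) = [1] ++ [1] from rfl, e_append]; group
  rw [h1]
  exact LL.mul_mem (LL.mul_mem e11_mem (e1_conj_LL hx)) (LL.inv_mem e11_mem)

/-- every element of `Lq` is the class of a word -/
theorem exists_word (x : Lq) : ∃ w : List ℕ, x = e w := by
  have := finite_HN
  obtain ⟨y, rfl⟩ := QuotientGroup.mk_surjective x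
  obtain ⟨m, hm, w, _, w', _, rfl⟩ := XClose.normal_form hyp disj y
  refine ⟨w ++ w', ?_⟩
  unfold e
  rw [evw_append, mul_assoc, QuotientGroup.eq]
  have h := normal_Rk.conj_mem _ (Rk.inv_mem (r_mem_R hyp.toBas hm)) (evw γ w * evw γ w')⁻¹
  have h2 : (r k m * (evw γ w * evw γ w'))⁻¹ * (evw γ w * evw γ w') =
      (evw γ w * evw γ w')⁻¹ * (r k m)⁻¹ * (evw γ w * evw γ w')⁻¹⁻¹ := by group
  rw [h2]; exact h

theorem gen_ge (g : ℕ) (h : 2 ≤ g) : XMat.gen g = XMat.gen 2 := by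
  obtain ⟨n, rfl⟩ := Nat.exists_eq_add_of_le h
  rw [Nat.add_comm]
  rfl

theorem e_ge (g : ℕ) (h : 2 ≤ g) : e [g] = e [2] := by
  apply e_eq
  rw [mw_cons, mw_cons, gen_ge g h]

/-- `Lq = LL ∪ LL·c` -/
theorem LL_or (x : Lq) : x ∈ LL ∨ ∃ y ∈ LL, x = y * e [1] := by
  obtain ⟨w, rfl⟩ := exists_word x
  induction w with
  | nil => exact Or.inl LL.one_mem
  | cons g w ih =>
    have h1 : e (g :: w) = e [g] * e w := e_append [g] w
    rw [h1]
    rcases Nat.lt_or_ge g 2 with hg | hg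
    · interval_cases g
      · rcases ih with h | ⟨y, hy, h⟩
        · exact Or.inl (LL.mul_mem e0_mem h)
        · exact Or.inr ⟨e [0] * y, LL.mul_mem e0_mem hy, by rw [h, mul_assoc]⟩
      · rcases ih with h | ⟨y, hy, h⟩
        · exact Or.inr ⟨_, e1_conj_LL' h, by group⟩
        · refine Or.inl ?_
          rw [h]
          have : e [1] * (y * e [1]) = e [1] * y * (e [1])⁻¹ * e [1, 1] := by
            rw [show ([1, 1] : List ℕ) = [1] ++ [1] from rfl, e_append]; group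
          rw [this]
          exact LL.mul_mem (e1_conj_LL' hy) e11_mem
    · rw [e_ge g hg]
      rcases ih with h | ⟨y, hy, h⟩
      · exact Or.inl (LL.mul_mem e2_mem h)
      · exact Or.inr ⟨e [2] * y, LL.mul_mem e2_mem hy, by rw [h, mul_assoc]⟩

/-- `A5` is not commutative -/
theorem A5_center {a : A5} (h : ∀ b, a * b = b * a) : a = 1 := by
  have hmem : a ∈ Subgroup.center A5 := Subgroup.mem_center_iff.2 fun b => (h b).symm
  have hn : (Subgroup.center A5).Normal := inferInstance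
  rcases hn.eq_bot_or_eq_top with h1 | h1
  · rw [h1] at hmem; exact Subgroup.mem_bot.1 hmem
  · exfalso
    have hx : cyc 3 0 ∈ alternatingGroup (Fin 5) := cyc_mem 3 0 (by norm_num)
    have hy : cyc 3 1 ∈ alternatingGroup (Fin 5) := cyc_mem 3 1 (by norm_num)
    have h2 : (⟨cyc 3 0, hx⟩ : A5) ∈ Subgroup.center A5 := by rw [h1]; exact Subgroup.mem_top _
    have h3 := congrArg Subtype.val (Subgroup.mem_center_iff.1 h2 ⟨cyc 3 1, hy⟩)
    revert h3
    change cyc 3 1 * cyc 3 0 = cyc 3 0 * cyc 3 1 → False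
    decide

theorem A_inter_B {a b : A5} (h : φA a = φB b) : a = 1 ∧ b = 1 := by
  have h1 : a = 1 := A5_center fun x => φA_inj (by
    rw [map_mul, map_mul, h, comm_AB])
  refine ⟨h1, φB_inj ?_⟩
  rw [← h, h1, map_one, map_one]

theorem φ2_inj {a b a' b' : A5} (h : φA a * φB b = φA a' * φB b') : a = a' ∧ b = b' := by
  have h1 : φA (a'⁻¹ * a) = φB (b' * b⁻¹) := by
    rw [map_mul, map_mul, map_inv, map_inv]
    have : φA a = φA a' * φB b' * (φB b)⁻¹ := by rw [← h]; group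
    rw [this]; group
  obtain ⟨h2, h3⟩ := A_inter_B h1
  exact ⟨(inv_mul_eq_one.1 h2).symm, (mul_inv_eq_one.1 h3).symm⟩

theorem e1_notMem : e [1] ∉ LL := by
  intro h
  obtain ⟨a, b, hab⟩ := mem_LL.1 h
  have h1 := e1_conj_A ⟨cyc 3 0, cyc_mem 3 0 (by norm_num)⟩
  rw [← hab] at h1
  have h2 : (φA a * φB b)⁻¹ * φA ⟨cyc 3 0, cyc_mem 3 0 (by norm_num)⟩ * (φA a * φB b) =
      φA (a⁻¹ * ⟨cyc 3 0, cyc_mem 3 0 (by norm_num)⟩ * a) := by
    rw [map_mul, map_mul, map_inv]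
    have hc := comm_AB (a⁻¹ * ⟨cyc 3 0, cyc_mem 3 0 (by norm_num)⟩ * a) b
    rw [map_mul, map_mul, map_inv] at hc
    calc (φA a * φB b)⁻¹ * φA ⟨cyc 3 0, _⟩ * (φA a * φB b)
        = (φB b)⁻¹ * ((φA a)⁻¹ * φA ⟨cyc 3 0, _⟩ * φA a * φB b) := by group
      _ = (φA a)⁻¹ * φA ⟨cyc 3 0, _⟩ * φA a := by rw [hc]; group
  rw [h2] at h1
  have h3 := (A_inter_B h1).2
  apply aw0_ne
  rw [← φA_cyc (by norm_num), h3, map_one]

end Cfsg.Agent.KFacts.HN
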