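import Cfsg.Agent.KFacts.HN.Quot

/-!
# Normal subgroups of `C(W0)/R = (A5 × A5).2`
-/

set_option autoImplicit false

namespace Cfsg.Agent.KFacts.HN

open Cfsg.Agent.HN Cfsg.Agent.HN.XMat Cfsg.Agent.HN.XStruct Cfsg.Agent.HN.XWords Cfsg.Agent.HN.XQuot
open Cfsg.Agent.Lib.AltCarmichael (cyc cyc_mem)

/-- the two factors -/
noncomputable def AA : Subgroup Lq := φA.range
noncomputable def BB : Subgroup Lq := φB.range

theorem AA_le : AA ≤ LL := by rintro _ ⟨a, rfl⟩; exact A_mem a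
theorem BB_le : BB ≤ LL := by rintro _ ⟨a, rfl⟩; exact B_mem a

theorem LL_le {N : Subgroup Lq} (hA : AA ≤ N) (hB : BB ≤ N) : LL ≤ N := by
  intro x hx
  obtain ⟨a, b, rfl⟩ := mem_LL.1 hx
  exact N.mul_mem (hA ⟨a, rfl⟩) (hB ⟨b, rfl⟩)

instance normal_LL : LL.Normal := by
  refine ⟨fun n hn g => ?_⟩
  rcases LL_or g with h | ⟨y, hy, rfl⟩
  · exact LL.mul_mem (LL.mul_mem h hn) (LL.inv_mem h)
  · have : y * e [1] * n * (y * e [1])⁻¹ = y * (e [1] * n * (e [1])⁻¹) * y⁻¹ := by group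
    rw [this]
    exact LL.mul_mem (LL.mul_mem hy (e1_conj_LL' hn)) (LL.inv_mem hy)

theorem index_LL : LL.index = 2 := by
  rw [Subgroup.index_eq_two_iff]
  refine ⟨e [1], fun b => ?_⟩
  rcases LL_or b with h | ⟨y, hy, rfl⟩
  · refine Or.inr ⟨h, fun h2 => e1_notMem ?_⟩
    have := LL.mul_mem (LL.inv_mem h) h2
    rwa [inv_mul_cancel_left] at this
  · refine Or.inl ⟨?_, fun h2 => e1_notMem ?_⟩
    · have : y * e [1] * e [1] = y * e [1, 1] := by
        rw [show ([1, 1] : List ℕ) = [1] ++ [1] from rfl, e_append, mul_assoc]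
      rw [this]
      exact LL.mul_mem hy e11_mem
    · have := LL.mul_mem (LL.inv_mem hy) h2
      rwa [inv_mul_cancel_left] at this

/-- the centraliser of `A5 × A5` is trivial -/
theorem cent_LL {x : Lq} (h : ∀ y ∈ LL, x * y = y * x) : x = 1 := by
  rcases LL_or x with hx | ⟨y, hy, rfl⟩
  · obtain ⟨a, b, rfl⟩ := mem_LL.1 hx
    have h1 : a = 1 := A5_center fun c => φA_inj (by
      rw [map_mul, map_mul]
      have := h _ (A_mem c)
      have h2 : φA a * φB b * φA c = φA a * φA c * φB b := by rw [mul_assoc, ← comm_AB, ← mul_assoc]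
      rw [h2, ← mul_assoc] at this
      exact mul_right_cancel this)
    have h2 : b = 1 := A5_center fun c => φB_inj (by
      rw [map_mul, map_mul]
      have := h _ (B_mem c)
      have h2 : φB c * (φA a * φB b) = φA a * (φB c * φB b) := by rw [← mul_assoc, ← comm_AB, mul_assoc]
      rw [h2, mul_assoc] at this
      exact mul_left_cancel this)
    rw [h1, h2, map_one, map_one, mul_one]
  · exfalso
    obtain ⟨a, b, rfl⟩ := mem_LL.1 hy
    -- conjugation by `x = φA a φB b c` maps `AA` to `BB`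
    set a0 : A5 := ⟨cyc 3 0, cyc_mem 3 0 (by norm_num)⟩
    have h1 := h _ (A_mem (a * a0 * a⁻¹))
    have h3 : (φA a * φB b * e [1])⁻¹ * φA (a * a0 * a⁻¹) * (φA a * φB b * e [1]) = φB a0 := by
      have hc : φA (a * a0 * a⁻¹) * (φA a * φB b) = φA a * φB b * φA a0 := by
        rw [← mul_assoc, ← map_mul, inv_mul_cancel_right, map_mul, mul_assoc, comm_AB, ← mul_assoc]
      calc (φA a * φB b * e [1])⁻¹ * φA (a * a0 * a⁻¹) * (φA a * φB b * e [1])
          = (e [1])⁻¹ * ((φA a * φB b)⁻¹ * (φA (a * a0 * a⁻¹) * (φA a * φB b))) * e [1] := by group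
        _ = (e [1])⁻¹ * φA a0 * e [1] := by rw [hc]; group
        _ = φB a0 := (φB_apply a0).symm
    have h4 : (φA a * φB b * e [1])⁻¹ * φA (a * a0 * a⁻¹) * (φA a * φB b * e [1]) = φA (a * a0 * a⁻¹) := by
      rw [mul_assoc, ← h1]; group
    rw [h4] at h3
    have h5 := (A_inter_B h3).2
    apply aw0_ne
    rw [← φA_cyc (by norm_num)]
    change φA a0 = 1
    rw [h5, map_one]

theorem exists_not_comm {a : A5} (ha : a ≠ 1) : ∃ c, a * c ≠ c * a := by
  by_contra h
  push Not at h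
  exact ha (A5_center h)

theorem comap_top {φ : A5 →* Lq} {N : Subgroup Lq} (hn : ∀ a : A5, ∀ n ∈ N, φ a * n * (φ a)⁻¹ ∈ N)
    {c : A5} (hc : φ c ∈ N) (hc1 : c ≠ 1) : φ.range ≤ N := by
  have hnor : (N.comap φ).Normal := ⟨fun n h g => by
    rw [Subgroup.mem_comap, map_mul, map_mul, map_inv]
    exact hn g _ h⟩
  rcases hnor.eq_bot_or_eq_top with h | h
  · exfalso
    have : c ∈ N.comap φ := hc
    rw [h] at this
    exact hc1 (Subgroup.mem_bot.1 this)
  · rintro _ ⟨a, rfl⟩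
    have : a ∈ N.comap φ := by rw [h]; exact Subgroup.mem_top a
    exact this

/-- a nontrivial subgroup normalised by `A5 × A5` contains one of the factors -/
theorem A_or_B_le {N : Subgroup Lq} (hn : ∀ l ∈ LL, ∀ n ∈ N, l * n * l⁻¹ ∈ N) (hN : N ≠ ⊥) :
    AA ≤ N ∨ BB ≤ N := by
  obtain ⟨x, hxN, hx1⟩ := N.bot_or_exists_ne_one.resolve_left hN
  -- an element in `N ∩ LL`
  obtain ⟨y, hyN, hyL, hy1⟩ : ∃ y ∈ N, y ∈ LL ∧ y ≠ 1 := by
    by_contra hcon
    push Not at hcon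
    apply hx1
    apply cent_LL
    intro l hl
    have h1 : x * (l * x⁻¹ * l⁻¹) ∈ N := N.mul_mem hxN (hn l hl _ (N.inv_mem hxN))
    have h2 : x * (l * x⁻¹ * l⁻¹) ∈ LL := by
      have : x * (l * x⁻¹ * l⁻¹) = x * l * x⁻¹ * l⁻¹ := by group
      rw [this]
      exact LL.mul_mem (normal_LL.conj_mem _ hl x) (LL.inv_mem hl)
    have h3 := hcon _ h1 h2
    calc x * l = x * (l * x⁻¹ * l⁻¹) * l * x := by group
      _ = l * x := by rw [h3, one_mul]
  obtain ⟨a, b, rfl⟩ := mem_LL.1 hyL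
  by_cases ha : a = 1
  · right
    have hb : b ≠ 1 := fun hb => hy1 (by rw [ha, hb, map_one, map_one, mul_one])
    rw [ha, map_one, one_mul] at hyN
    exact comap_top (fun a n h => hn _ (B_mem a) n h) hyN hb
  · left
    obtain ⟨c, hc⟩ := exists_not_comm ha
    have h1 : φA (a * (c * a⁻¹ * c⁻¹)) ∈ N := by
      have h2 := N.mul_mem hyN (hn _ (A_mem c) _ (N.inv_mem hyN))
      have h3 : φA a * φB b * (φA c * (φA a * φB b)⁻¹ * (φA c)⁻¹) = φA (a * (c * a⁻¹ * c⁻¹)) := by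
        have e1 : φA a * φB b = φ2 (a, b) := rfl
        have e2 : φA c = φ2 (c, 1) := by rw [φ2_apply, map_one, mul_one]
        have e3 : ∀ d : A5, φA d = φ2 (d, 1) := fun d => by rw [φ2_apply, map_one, mul_one]
        rw [e1, e2, e3, ← map_inv, ← map_inv, ← map_mul, ← map_mul, ← map_mul]
        congr 1
        ext1
        · rfl
        · change b * (1 * b⁻¹ * 1⁻¹) = 1
          group
      rwa [h3] at h2
    refine comap_top (fun a n h => hn _ (A_mem a) n h) h1 fun h => hc ?_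
    have h2 : a * c = a * (c * a⁻¹ * c⁻¹) * c * a := by group
    rw [h2, h, one_mul]

end Cfsg.Agent.KFacts.HN
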