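import Cfsg.Agent.KFacts.HN.Aut0
import Cfsg.Agent.OddHalf.D8.Sheet
import Cfsg.Agent.KFacts.OutIdx

/-!
# The fact sheet `SheetE` of the presented Harada-Norton group
-/

set_option autoImplicit false

namespace Cfsg.Agent.KFacts.HN

open Cfsg.Agent.HN Cfsg.Agent.HN.XStruct Cfsg.Agent.HN.XWords Cfsg.Agent.HN.XQuot
open Cfsg.Agent.OddHalf Cfsg.Agent.OddHalf.D8.Sheet
open scoped commutatorElement

theorem out_index : (MulAut.conj : Cfsg.Spor.HN →* MulAut Cfsg.Spor.HN).range.index = 1 ∨
    (MulAut.conj : Cfsg.Spor.HN →* MulAut Cfsg.Spor.HN).range.index = 2 := by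
  have := finite_HN
  exact OutIdx.index_cases W0_ne Fields.syl_field (aut_pair aut0_prop)

/-- **the sheet of type (E)** -/
theorem sheetE : SheetE W0 MM RS where
  zz := W0_W0
  z1 := W0_ne
  syl := Fields.syl_field
  cen x hx := mem_PP.1 (MM_le_PP hx)
  perf := MM_perfect
  der := ⟨1, by
    rw [show (1 : ℕ) = 0 + 1 by rfl, TR.dser_succ', TR.dser_zero, Subgroup.commutator_le]
    intro a ha b hb
    exact comm_le_MM ha hb⟩
  out := by
    have := finite_HN
    exact OutIdx.out_of out_index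
  schreier := by
    have := finite_HN
    exact OutIdx.schreier_of out_index
  zR := W0_mem_RS
  RP := RS_le_MM
  R2 := RS_isPGroup
  Rn x hx r hr := conj_RS (MM_le_PP hx) hr
  Rmax B h1 h2 h3 := two_group_le (h1.trans MM_le_PP) h3 h2
  Rmin B h1 h2 := irr h1 h2
  Rna := not_abelian
  cR x _ h := by
    rcases cent_RS h with h1 | h1 <;> rw [h1]
    · exact RS.one_mem
    · exact W0_mem_RS
  aut := aut_field
  ytrick := Fields.ytrick_field

end Cfsg.Agent.KFacts.HN
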