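import Cfsg.Agent.KFacts.HN.Sheet
import Cfsg.Agent.OddHalf.CaseM.Sheet

/-!
# The fact sheet `SheetM` of the presented Harada-Norton group
-/

set_option autoImplicit false

namespace Cfsg.Agent.KFacts.HN

open Cfsg.Agent.HN Cfsg.Agent.HN.XMat Cfsg.Agent.HN.XStruct Cfsg.Agent.HN.XWords Cfsg.Agent.HN.XQuot
open Cfsg.Agent.OddHalf Cfsg.Agent.OddHalf.CaseM
open Cfsg.Agent.Lib.AltCarmichael (cyc cyc_mem)
open Cfsg.Agent.SporadicA.PermTab (allB allB_iff)
open scoped commutatorElement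

/-! ### subnormal subgroups of `A5 × A5` -/

theorem mem_of_subnormal {T : Subgroup (A5 × A5)} (hT : T.IsSubnormal) :
    (∀ a : A5, ∃ b : A5, (a, b) ∈ T) → ∀ a : A5, (a, 1) ∈ T := by
  induction hT with
  | top => intro _ a; exact Subgroup.mem_top _
  | step H L hHL hL hn ih =>
    intro h
    have h1 := ih (fun a => (h a).imp fun b hb => hHL hb)
    have h2 : ⁅(⊤ : Subgroup A5), (⊤ : Subgroup A5)⁆ ≤ H.comap (MonoidHom.inl A5 A5) := by
      rw [Subgroup.commutator_le]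
      intro a _ c _
      obtain ⟨b, hb⟩ := h a
      have h3 : ((c, 1) : A5 × A5) * (a, b)⁻¹ * (c, 1)⁻¹ ∈ H := by
        have := hn.conj_mem ⟨(a, b)⁻¹, hHL (H.inv_mem hb)⟩ (Subgroup.mem_subgroupOf.2 (H.inv_mem hb)) ⟨(c, 1), h1 c⟩
        exact Subgroup.mem_subgroupOf.1 this
      have h4 := H.mul_mem hb h3
      have e : ((a, b) : A5 × A5) * ((c, 1) * (a, b)⁻¹ * (c, 1)⁻¹) = (⁅a, c⁆, 1) := by
        apply Prod.ext
        · show a * (c * a⁻¹ * c⁻¹) = a * c * a⁻¹ * c⁻¹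
          group
        · show b * (1 * b⁻¹ * 1⁻¹) = 1
          group
      rw [e] at h4
      exact h4
    rw [A5_perfect] at h2
    exact fun a => h2 (Subgroup.mem_top a)

theorem fst_cases {T : Subgroup (A5 × A5)} (hT : T.IsSubnormal) :
    (∀ x ∈ T, x.1 = 1) ∨ ∀ a : A5, (a, 1) ∈ T := by
  have h1 : (T.map (MonoidHom.fst A5 A5)).IsSubnormal := hT.map (f := MonoidHom.fst A5 A5) Prod.fst_surjective
  rcases h1.eq_bot_or_top_of_isSimpleGroup inferInstance with h | h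
  · left
    intro x hx
    have : x.1 ∈ T.map (MonoidHom.fst A5 A5) := ⟨x, hx, rfl⟩
    rw [h] at this
    exact Subgroup.mem_bot.1 this
  · right
    apply mem_of_subnormal hT
    intro a
    have : a ∈ T.map (MonoidHom.fst A5 A5) := by rw [h]; exact Subgroup.mem_top a
    obtain ⟨⟨a', b⟩, hb, rfl⟩ := this
    exact ⟨b, hb⟩

theorem snd_cases {T : Subgroup (A5 × A5)} (hT : T.IsSubnormal) :
    (∀ x ∈ T, x.2 = 1) ∨ ∀ a : A5, (1, a) ∈ T := by
  have h1 : (T.map (MulEquiv.prodComm : A5 × A5 ≃* A5 × A5).toMonoidHom).IsSubnormal :=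
    hT.map (MulEquiv.prodComm : A5 × A5 ≃* A5 × A5).surjective
  rcases fst_cases h1 with h | h
  · left
    intro x hx
    exact h (x.2, x.1) ⟨x, hx, rfl⟩
  · right
    intro a
    obtain ⟨⟨b, c⟩, hb, he⟩ := h a
    have he' : (c, b) = (a, (1 : A5)) := he
    rw [Prod.mk.injEq] at he'
    rw [← he'.1, ← he'.2]
    exact hb

/-! ### the action of 3-elements -/

theorem acts_of_ρ {x : Cfsg.Spor.HN} (hx : x ∈ PP) {w : List ℕ} (hw : ρ ⟨x, hx⟩ = e w) :
    Acts k (π W0 x) (mw w) := by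
  rw [ρ_apply] at hw
  have h4 : (π W0 x)⁻¹ * evw γ w ∈ Rk := QuotientGroup.eq.1 hw
  have h0 := normal_Rk.conj_mem _ (Rk.inv_mem h4) (π W0 x)
  obtain ⟨j, hj, h1⟩ := mem_Rk.1 h0
  have h5 : π W0 x = r k j * evw γ w := by rw [← h1]; group
  rw [h5]
  exact hyp.toBas.acts_rmul (hyp.toBas.acts_evw w) j

theorem chkA : allB (fun m => Nat.beq (Nat.xor (app (mw (aw 0)) m) (app (mw (aw 0)) (app (mw (aw 0)) m))) m) 256 = true := by
  decide +kernel

theorem chkB : allB (fun m => Nat.beq (Nat.xor (app (mw (bw 0)) m) (app (mw (bw 0)) (app (mw (bw 0)) m))) m) 256 = true := by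
  decide +kernel

/-- if `S` contains an element acting fixed point freely, then `⁅R, S⁆ = R` -/
theorem comm_eq_of_elt {S : Subgroup Cfsg.Spor.HN} (hS : S ≤ MM) {s : Cfsg.Spor.HN} (hs : s ∈ S) {w : List ℕ}
    (hA : Acts k (π W0 s) (mw w))
    (hc : ∀ m < 256, (app (mw w) m) ^^^ (app (mw w) (app (mw w) m)) = m) : ⁅RS, S⁆ = RS := by
  have hsP : s ∈ PP := MM_le_PP (hS hs)
  set X := ⁅RS, S⁆ with hX
  have hle : X ≤ RS := by
    rw [hX, Subgroup.commutator_le]
    intro x hx y hy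
    have h1 := conj_RS (MM_le_PP (hS hy)) (RS.inv_mem hx)
    have e : ⁅x, y⁆ = x * (y * x⁻¹ * y⁻¹) := by rw [commutatorElement_def]; group
    rw [e]
    exact RS.mul_mem hx h1
  have hmem : ∀ m < 256, ∃ b : Bool, r Q m * sgn0 b ∈ X := by
    intro m hm
    set m' := app (mw w) m with hm'
    have hm'lt : m' < 256 := app_lt _ _
    obtain ⟨c, hc'⟩ := r_conj hsP hA m'
    have h1 : ⁅(r Q m')⁻¹, s⁻¹⁆ ∈ X :=
      Subgroup.commutator_mem_commutator (RS.inv_mem (r_mem_RS hm'lt)) (S.inv_mem hs)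
    have h2 : ⁅(r Q m')⁻¹, s⁻¹⁆ = (r Q m')⁻¹ * (r Q (app (mw w) m') * sgn0 c) := by
      rw [← hc', commutatorElement_def]; group
    have h3 : π W0 (r Q m * sgn0 false) = π W0 ⁅(r Q m')⁻¹, s⁻¹⁆ := by
      rw [h2, π_mul (comm_inv (comm_r m')) (comm_mul (comm_r _) (comm_sgn c)), π_inv (comm_r m'), π_r, π_r_sgn,
        π_r_sgn]
      have e1 : (r k m')⁻¹ = r k m' := by
        rw [inv_eq_iff_mul_eq_one, ← hyp.toBas.r_xor, Nat.xor_self, Bas.r_zero]
      rw [e1, ← hyp.toBas.r_xor, hc m hm]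
    obtain ⟨b, hb⟩ := eq_of_π (PP.mul_mem (r_mem_PP m) (sgn_mem_PP false)) (RS_le_PP (hle h1)) h3
    refine ⟨false ^^ b, ?_⟩
    rw [← sgn0_mul, ← mul_assoc, ← hb]
    exact h1
  have hor : ∀ x ∈ RS, x ∈ X ∨ x * W0 ∈ X := by
    intro x hx
    obtain ⟨m, hm, c, rfl⟩ := mem_RS.1 hx
    obtain ⟨b, hb⟩ := hmem m hm
    have h4 : r Q m * sgn0 c = r Q m * sgn0 b * sgn0 (b ^^ c) := by
      rw [mul_assoc, sgn0_mul, ← Bool.xor_assoc, Bool.xor_self, Bool.false_xor]
    cases hbc : (b ^^ c)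
    · left
      rw [h4, hbc]
      have : r Q m * sgn0 b * sgn0 false = r Q m * sgn0 b := mul_one _
      rw [this]; exact hb
    · right
      rw [h4, hbc, show sgn0 true = W0 from rfl, mul_assoc _ W0 W0, W0_W0, mul_one]
      exact hb
  have hW : W0 ∈ X := by
    obtain ⟨a, ha, b, hb, hab⟩ := not_abelian
    have haz : a * W0 = W0 * a := mem_PP.1 (RS_le_PP ha)
    have hbz : b * W0 = W0 * b := mem_PP.1 (RS_le_PP hb)
    have hcom : a * b = b * a * W0 := (large.comm a ha b hb).resolve_left hab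
    have key : ∀ a' b' : Cfsg.Spor.HN, a' ∈ X → b' ∈ X → a' * b' = b' * a' * W0 → W0 ∈ X := by
      intro a' b' ha' hb' h
      have : W0 = (b' * a')⁻¹ * (a' * b') := by rw [h]; group
      rw [this]
      exact X.mul_mem (X.inv_mem (X.mul_mem hb' ha')) (X.mul_mem ha' hb')
    rcases hor a ha with h1 | h1 <;> rcases hor b hb with h2 | h2
    · exact key a b h1 h2 hcom
    · apply key a (b * W0) h1 h2
      rw [← mul_assoc, hcom, mul_assoc b W0 a, ← haz]
      group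
    · apply key (a * W0) b h1 h2
      rw [mul_assoc, ← hbz, ← mul_assoc, hcom]
      group
    · apply key (a * W0) (b * W0) h1 h2
      calc a * W0 * (b * W0) = a * (W0 * b) * W0 := by group
        _ = (a * b) * (W0 * W0) := by rw [← hbz]; group
        _ = (b * a * W0) * (W0 * W0) := by rw [hcom]
        _ = b * (a * W0) * W0 * W0 := by group
        _ = b * (W0 * a) * W0 * W0 := by rw [haz]
        _ = b * W0 * (a * W0) * W0 := by group
  apply le_antisymm hle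
  intro x hx
  rcases hor x hx with h1 | h1
  · exact h1
  · have := X.mul_mem h1 hW
    rwa [mul_assoc, W0_W0, mul_one] at this

/-- the homomorphism `M → A5 × A5` -/
theorem exists_f : ∃ f : MM →* A5 × A5, Function.Surjective f ∧
    ∀ x : MM, φ2 (f x) = ρ ⟨x, MM_le_PP x.2⟩ := by
  have hinj : Function.Injective φ2 := by
    rintro ⟨a, b⟩ ⟨a', b'⟩ h
    obtain ⟨h1, h2⟩ := φ2_inj h
    exact Prod.ext h1 h2
  let g : MM →* PP := Subgroup.inclusion MM_le_PP
  have hg : ∀ x : MM, ρ (g x) ∈ φ2.range := fun x => (mem_MM.1 x.2).2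
  let eφ : A5 × A5 ≃* φ2.range := MonoidHom.ofInjective hinj
  let f1 : MM →* φ2.range := (ρ.comp g).codRestrict φ2.range hg
  refine ⟨eφ.symm.toMonoidHom.comp f1, ?_, ?_⟩
  · refine eφ.symm.surjective.comp ?_
    rintro ⟨y, hy⟩
    obtain ⟨u, hu⟩ := ρ_surj y
    exact ⟨⟨u, mem_MM.2 ⟨u.2, by rw [show (⟨(u : Cfsg.Spor.HN), u.2⟩ : PP) = u from rfl, hu]; exact hy⟩⟩,
      Subtype.ext hu⟩
  · intro x
    have h1 : eφ (eφ.symm (f1 x)) = f1 x := eφ.apply_symm_apply _
    exact congrArg Subtype.val h1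

theorem big {S : Subgroup Cfsg.Spor.HN} (hS : S ≤ MM) (hsub : (S.subgroupOf MM).IsSubnormal) (hp : ⁅S, S⁆ = S)
    (hne : S ≠ ⊥) : ⁅RS, S⁆ = RS := by
  obtain ⟨f, hf, hfρ⟩ := exists_f
  have hT : ((S.subgroupOf MM).map f).IsSubnormal := hsub.map hf
  have main : ∀ (φ : A5 →* Lq) (w : List ℕ), φ ⟨cyc 3 0, cyc_mem 3 0 (by norm_num)⟩ = e w →
      (∀ m < 256, (app (mw w) m) ^^^ (app (mw w) (app (mw w) m)) = m) →
      (∃ y ∈ (S.subgroupOf MM).map f, φ2 y = φ ⟨cyc 3 0, cyc_mem 3 0 (by norm_num)⟩) → ⁅RS, S⁆ = RS := by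
    rintro φ w hw hc ⟨_, ⟨s, hs, rfl⟩, hy⟩
    have hsS : (s : Cfsg.Spor.HN) ∈ S := hs
    rw [hfρ, hw] at hy
    exact comm_eq_of_elt hS hsS (acts_of_ρ _ hy) hc
  rcases fst_cases hT with h1 | h1
  · rcases snd_cases hT with h2 | h2
    · exfalso
      apply hne
      -- `S ≤ R`
      have hSR : S ≤ RS := by
        intro x hx
        have h3 : f ⟨x, hS hx⟩ ∈ (S.subgroupOf MM).map f := ⟨⟨x, hS hx⟩, hx, rfl⟩
        have h4 : f ⟨x, hS hx⟩ = 1 := Prod.ext (h1 _ h3) (h2 _ h3)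
        have h5 := hfρ ⟨x, hS hx⟩
        rw [h4, map_one] at h5
        exact ⟨⟨x, MM_le_PP (hS hx)⟩, h5.symm, rfl⟩
      have hSp : IsPGroup 2 S := RS_isPGroup.to_le hSR
      have := finite_HN
      have hsol : Group.IsSolvable S := by
        have : Group.IsNilpotent S := hSp.isNilpotent
        infer_instance
      by_contra hne'
      have hnt : Nontrivial S := (Subgroup.nontrivial_iff_ne_bot S).2 hne'
      have h6 := Group.IsSolvable.commutator_lt_top_of_nontrivial S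
      apply h6.ne
      apply Subgroup.map_injective S.subtype_injective
      rw [commutator_def, Subgroup.map_commutator, ← MonoidHom.range_eq_map, Subgroup.range_subtype, hp]
    · exact main φB (bw 0) (φB_cyc (by norm_num)) (fun m hm => Nat.eq_of_beq_eq_true ((allB_iff _ _).1 chkB m hm))
        ⟨_, h2 ⟨cyc 3 0, cyc_mem 3 0 (by norm_num)⟩, by rw [φ2_apply, map_one, one_mul]⟩
  · exact main φA (aw 0) (φA_cyc (by norm_num)) (fun m hm => Nat.eq_of_beq_eq_true ((allB_iff _ _).1 chkA m hm))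
      ⟨_, h1 ⟨cyc 3 0, cyc_mem 3 0 (by norm_num)⟩, by rw [φ2_apply, map_one, mul_one]⟩

/-- `M` is generated by its elements of 5-power order -/
theorem gen5 (N : Subgroup Cfsg.Spor.HN) (hN : N ≤ MM)
    (h : ∀ x ∈ MM, IsPGroup 5 (Subgroup.zpowers x) → x ∈ N) : N = MM := by
  have := finite_HN
  set N1 : Subgroup Cfsg.Spor.HN := Subgroup.closure {x | x ∈ MM ∧ IsPGroup 5 (Subgroup.zpowers x)} with hN1
  have h1 : N1 ≤ N := by
    rw [hN1, Subgroup.closure_le]
    exact fun x hx => h x hx.1 hx.2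
  have hconj : ∀ u ∈ PP, ∀ x ∈ N1, u * x * u⁻¹ ∈ N1 := by
    intro u hu x hx
    have h2 : N1.map (MulAut.conj u).toMonoidHom ≤ N1 := by
      rw [hN1, MonoidHom.map_closure, Subgroup.closure_le]
      rintro _ ⟨y, ⟨hy, hy5⟩, rfl⟩
      apply Subgroup.subset_closure
      refine ⟨conj_MM hu hy, ?_⟩
      have h3 : Subgroup.zpowers ((MulAut.conj u).toMonoidHom y) =
          (Subgroup.zpowers y).map (MulAut.conj u).toMonoidHom := (MonoidHom.map_zpowers _ _).symm
      rw [h3]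
      exact hy5.map _
    exact h2 ⟨x, hx, rfl⟩
  rcases normal_cases (X := N1) (h1.trans (hN.trans MM_le_PP)) hconj with h2 | h2
  · exfalso
    have hp5 : Fact (Nat.Prime 5) := ⟨by norm_num⟩
    obtain ⟨x, hx⟩ := exists_prime_orderOf_dvd_card' (G := MM) 5 (by rw [card_MM]; norm_num)
    have hx' : orderOf (x : Cfsg.Spor.HN) = 5 := by rw [Subgroup.orderOf_coe, hx]
    have hx1 : (x : Cfsg.Spor.HN) ∈ N1 := Subgroup.subset_closure ⟨x.2, by
      apply IsPGroup.of_card (n := 1)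
      rw [Nat.card_zpowers, hx', pow_one]⟩
    obtain ⟨j, hj⟩ := RS_isPGroup ⟨x, h2 hx1⟩
    have hj' : (x : Cfsg.Spor.HN) ^ 2 ^ j = 1 := congrArg Subtype.val hj
    have h5 : 5 ∣ 2 ^ j := by rw [← hx']; exact orderOf_dvd_of_pow_eq_one hj'
    have := (Nat.Prime.dvd_of_dvd_pow (by norm_num : Nat.Prime 5) h5)
    omega
  · exact le_antisymm hN (h2.trans h1)

theorem odd_aut (α : MulAut Cfsg.Spor.HN) (hodd : Odd (orderOf α)) (hα : ∀ x ∈ MM, α x = x) : α = 1 := by
  rcases cent_MM hα with h | h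
  · exact h
  · have h2 : α ^ 2 = 1 := by
      rw [h, pow_two, ← map_mul, W0_W0, map_one]
    have h3 : orderOf α ∣ 2 := orderOf_dvd_of_pow_eq_one h2
    rcases (Nat.dvd_prime Nat.prime_two).1 h3 with h4 | h4
    · exact orderOf_eq_one_iff.1 h4
    · rw [h4] at hodd
      exact absurd hodd (by decide)

/-- **the sheet of case (M)** -/
theorem sheetM : SheetM MM RS where
  big S h1 h2 h3 h4 := big h1 h2 h3 h4
  idx := ⟨4, by rw [card_RS]; norm_num, by
    have := finite_HN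
    exact idx_of_prime (p := 5) (w := 4) (by norm_num) (by norm_num) gen5⟩
  odd := odd_aut

end Cfsg.Agent.KFacts.HN
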